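import Cfsg.Agent.Lib.Small.FFourTwistThompson.Cover
import Cfsg.Agent.Lib.Lie.TwistMult.F4Suz

/-!
The four cells: witnesses moving the representatives into the big cell.
-/

set_option autoImplicit false
set_option maxRecDepth 4000
set_option linter.unusedSectionVars false

namespace Cfsg.Agent.Small.FFourTwistThompson

open Cfsg.Lie Cfsg.Agent.Lie Cfsg.Agent.Small.C2Inv.F4
open Cfsg.Agent.Lie.F4 (Setup Os)
open Cfsg.Agent.Lie.F4.Setup (cP)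
open Cfsg.Agent.Lie.TwistMult.F4 (phP phP_up phP_lo xW qW rank_one blkHom_mX_inj qW_eq xW_zero mX blkHom mem_Hsub Hsub
  GF)
open Cfsg.Agent.Lie.TwistMult.D4 (dgS)
open Cfsg.Agent.Small.GTwoThompson (GoodS)
open scoped MatrixGroups

variable {K : Type*} [Field K] [Fintype K] [CharP K 2] {m : ℕ} (S : Setup K m)

local notation "GL₄" => GL chevF4.Idx K
local notation "SL₂" => Matrix.SpecialLinearGroup (Fin 2) K

/-- The first representative. -/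
noncomputable def R1 : GL chevF4.Idx K := nO 1

/-- The second representative. -/
noncomputable def R2 : GL chevF4.Idx K := nO 1 * nO 0 * (nO 1)⁻¹

/-- The conjugator of the third representative. -/
noncomputable def g3 : GL chevF4.Idx K := nO 1 * nO 0

/-- The third representative. -/
noncomputable def R3 : GL chevF4.Idx K := g3 * nO 1 * (g3)⁻¹

/-- The conjugator of the fourth representative. -/
noncomputable def g4 : GL chevF4.Idx K := nO 1 * nO 0 * nO 1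

/-- The fourth representative. -/
noncomputable def R4 : GL chevF4.Idx K := g4 * nO 0 * (g4)⁻¹

/-- The action of the third conjugator on roots. -/
def p3 (r : ℕ) : ℕ := piO 1 (piO 0 r)

/-- The action of the inverse of the third conjugator on roots. -/
def p3' (r : ℕ) : ℕ := piO 0 (piO 1 r)

/-- The action of the fourth conjugator on roots. -/
def p4 (r : ℕ) : ℕ := piO 1 (piO 0 (piO 1 r))

theorem cell_tab :
    (∀ r < 48, p3' r < 48 ∧ p3 (p3' r) = r) ∧ (∀ r < 48, p4 r < 48 ∧ p4 (p4 r) = r) ∧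
    (∀ r ∈ [24, 33], r < 48 ∧ piO 1 r ∈ posR) ∧
    (∀ r ∈ [24, 33], r < 48 ∧ piO 1 (piO 0 (piO 1 r)) ∈ posR) ∧
    (∀ r ∈ [24, 33], r < 48 ∧ p3 (piO 1 (p3' r)) ∈ posR) ∧
    (∀ r ∈ [24, 33], r < 48 ∧ piO 1 r ∈ posR) ∧ (∀ r ∈ [14, 23], r < 48 ∧ piO 1 r ∈ negR) ∧
    (∀ r ∈ [24, 33], r < 48 ∧ p4 r ∈ posR) ∧ (∀ r ∈ [14, 23], r < 48 ∧ p4 r ∈ negR) ∧
    (∀ r ∈ [25, 27, 28, 30], r < 48 ∧ r ∈ posR ∧ p3 r ∈ posR) ∧
    (∀ r ∈ [22, 20, 19, 17], r < 48 ∧ r ∈ negR ∧ p3 r ∈ negR) ∧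
    (∀ r ∈ [24, 33, 23, 14], r < 48 ∧ p4 (piO 0 (p4 r)) = r) := by
  decide +kernel

theorem trick_tab : p4 (piO 0 39) = 33 ∧ p4 (piO 0 45) = 24 ∧
    (∀ r ∈ [37, 32], r < 48 ∧ p4 (piO 0 r) ∈ posR) ∧
    (∀ r ∈ [33, 24, 38, 43], r < 48 ∧ p4 (piO 0 r) ∈ negR) := by
  decide +kernel

theorem trick_word : eqv 2000 (wE 6 [[]] ++ wE 0 (pv 0))
    (wE 0 (pv 0) ++ wE 2 (pv 1) ++ wE 4 (pv 0) ++ wE 6 [[]]) = true := by
  decide +kernel

theorem mono3 : Mono (g3 : GL₄) p3 := (mono_O 1).mul (mono_O 0)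

theorem mono4 : Mono (g4 : GL₄) p4 := ((mono_O 1).mul (mono_O 0)).mul (mono_O 1)

theorem mono_Oi {k : ℕ} (hk : k < 2) : Mono (nO k : GL₄)⁻¹ (piO k) :=
  (mono_O k).inv (piO_invol k hk)

include S in
theorem g3_mem : (g3 : GL₄) ∈ twistedF4 K (2 ^ m) :=
  mul_mem (nO_mem S (by norm_num)) (nO_mem S (by norm_num))

include S in
theorem g4_mem : (g4 : GL₄) ∈ twistedF4 K (2 ^ m) :=
  mul_mem (g3_mem S) (nO_mem S (by norm_num))

include S in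
theorem R_mem : (R1 : GL₄) ∈ twistedF4 K (2 ^ m) ∧ (R2 : GL₄) ∈ twistedF4 K (2 ^ m) ∧
    (R3 : GL₄) ∈ twistedF4 K (2 ^ m) ∧ (R4 : GL₄) ∈ twistedF4 K (2 ^ m) := by
  have h : ∀ k < 2, (nO k : GL₄) ∈ twistedF4 K (2 ^ m) := fun k hk => nO_mem S hk
  exact ⟨h 1 (by norm_num), mul_mem (mul_mem (h 1 (by norm_num)) (h 0 (by norm_num))) (inv_mem (h 1 (by norm_num))),
    mul_mem (mul_mem (g3_mem S) (h 1 (by norm_num))) (inv_mem (g3_mem S)),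
    mul_mem (mul_mem (g4_mem S) (h 0 (by norm_num))) (inv_mem (g4_mem S))⟩

theorem nO0_sq (S : Setup K m) : (nO 0 : GL₄) * nO 0 = 1 := by
  rw [nO0_eq S, ← map_mul, ant_sq, map_one]

theorem nO0_inv (S : Setup K m) : (nO 0 : GL₄)⁻¹ = nO 0 := inv_eq_of_mul_eq_one_right (nO0_sq S)

theorem phP_up_US (e : K) : phP S (upS e) ∈ (factsF4.tsys K).US [24, 33] := by
  rw [phP_up]
  exact CommSys.US_mono _ (fun r hr => by simp at hr ⊢; tauto) (CommSys.prodOver_mem _ _ _)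

theorem phP_lo_US (e : K) : phP S (loS e) ∈ (factsF4.tsys K).US [14, 23] := by
  rw [phP_lo]; exact CommSys.prodOver_mem _ _ _

include S in
theorem conj_inf {g : GL₄} {π : ℕ → ℕ} (hg : Mono g π) (hG : g ∈ twistedF4 K (2 ^ m)) {L L' : List ℕ}
    (h : ∀ r ∈ L, r < 48 ∧ π r ∈ L') {z : GL₄} (hz : z ∈ (factsF4.tsys K).US L)
    (hzG : z ∈ twistedF4 K (2 ^ m)) : g * z * g⁻¹ ∈ (factsF4.tsys K).US L' ⊓ twistedF4 K (2 ^ m) :=
  Subgroup.mem_inf.2 ⟨hg.conj_US h hz, mul_mem (mul_mem hG hzG) (inv_mem hG)⟩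

theorem up_mem {R : GL₄} {π : ℕ → ℕ} (hR : Mono R⁻¹ π) (hG : R ∈ twistedF4 K (2 ^ m))
    (h : ∀ r ∈ [24, 33], r < 48 ∧ π r ∈ posR) (e : K) :
    R⁻¹ * Lv S (1, upS e) * R ∈ Upos (K := K) m := by
  have := conj_inf S hR (inv_mem hG) h (phP_up_US S e) (phP_mem S _)
  rwa [inv_inv, ← Lv_one] at this

/-- Torus conjugates of a witness. -/
theorem of_base {R y v u : GL₄} {p : Kˣ × Kˣ} {f : Kˣ × Kˣ → Kˣ × Kˣ} (hR : Act m R⁻¹ f)
    (hy : y ∈ Upos (K := K) m) (hv : v ∈ Uneg (K := K) m) (hu : u ∈ Upos (K := K) m)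
    (he : y * R = v * tt m p * u) (hf : Function.Surjective fun w : Kˣ => w * (f (1, w)).2⁻¹) (T : Kˣ) :
    ∃ A, Big S R T A := by
  obtain ⟨w, hw⟩ := hf (T ^ 2 * p.2⁻¹)
  obtain ⟨ps, hps⟩ := exists_Lv S (tt_H (K := K) (m := m) (1, w)) (tt_mem S _)
  obtain ⟨ps', hps'⟩ := exists_Lv S (tt_H (K := K) (m := m) (f (1, w))) (tt_mem S _)
  have hc := hR (1, w)
  rw [inv_inv] at hc
  obtain ⟨s, hs⟩ : ∃ s, s = tt m ((1 : Kˣ), w) := ⟨_, rfl⟩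
  obtain ⟨s', hs'⟩ : ∃ s', s' = tt m (f (1, w)) := ⟨_, rfl⟩
  rw [← hs, ← hs'] at hc
  obtain ⟨q, hq⟩ : ∃ q : Kˣ × Kˣ, q = (1, w) * p * (f (1, w))⁻¹ := ⟨_, rfl⟩
  have hmid : tt m q = Lv S (T, dgS (q.1 * T⁻¹)) := tt_Lv S (t := q.1) (u := q.2) (by
    rw [hq]
    show T ^ 2 = w * p.2 * (f (1, w)).2⁻¹
    replace hw : w * (f (1, w)).2⁻¹ = T ^ 2 * p.2⁻¹ := hw
    rw [mul_right_comm, hw, inv_mul_cancel_right])
  obtain ⟨A, hA⟩ : ∃ A, A = dgS (q.1 * T⁻¹) := ⟨_, rfl⟩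
  rw [← hA, hq] at hmid
  rw [map_mul, map_mul, map_inv, ← hs, ← hs'] at hmid
  refine ⟨A, s * y * s⁻¹, ?_, s * v * s⁻¹, ?_, s' * u * s'⁻¹, ?_, ?_⟩
  · rw [hs, hps]; exact Lv_conj S (Or.inl rfl) ps hy
  · rw [hs, hps]; exact Lv_conj S (Or.inr rfl) ps hv
  · rw [hs', hps']; exact Lv_conj S (Or.inl rfl) ps' hu
  rw [← hmid]
  calc s * y * s⁻¹ * R = s * (y * R) * (R⁻¹ * s * R)⁻¹ := by group
    _ = s * (v * tt m p * u) * s'⁻¹ := by rw [he, hc]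
    _ = _ := by group

include S in
theorem qW_ne : qW S 0 1 ≠ 1 := by
  intro h
  rw [qW_eq, conj_eq_one_iff] at h
  exact one_ne_zero (blkHom_mX_inj S (a := (0 : K)) (v := 1) (a' := 0) (v' := 0)
    (congrArg (blkHom S) (Subtype.ext (h.trans (xW_zero S).symm)))).2

include S in
/-- The rank one witness. -/
theorem base_one : ∃ y ∈ (factsF4.tsys K).US [25, 27, 28, 30] ⊓ twistedF4 K (2 ^ m),
    ∃ v ∈ (factsF4.tsys K).US [22, 20, 19, 17] ⊓ twistedF4 K (2 ^ m),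
    ∃ u ∈ (factsF4.tsys K).US [25, 27, 28, 30] ⊓ twistedF4 K (2 ^ m), ∃ p,
      y * nO 1 = v * tt m p * u := by
  obtain ⟨p, r, h0, hh0, e⟩ := rank_one S (qW_ne S)
  have e' : (qW S 0 1 : GL₄) = (xW S p.1 p.2 : GL₄) * (h0 : GL₄) * nO 1 * (xW S r.1 r.2 : GL₄) :=
    congrArg Subtype.val e
  rw [mem_Hsub] at hh0
  have hH : (h0 : GL₄)⁻¹ ∈ (factsF4.tsys K).H := inv_mem hh0
  obtain ⟨pt, hpt⟩ := exists_tt S hH (inv_mem h0.2)
  have hxU : ∀ a v : K, (xW S a v : GL₄) ∈ (factsF4.tsys K).US [25, 27, 28, 30] := fun a v => S.w4F_mem_US a v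
  have hqU : (qW S 0 1 : GL₄) ∈ (factsF4.tsys K).US [22, 20, 19, 17] := by
    have hx : ∀ r ∈ ([22, 20, 19, 17] : List ℕ), ∀ z : K,
        factsF4.xg r z ∈ (factsF4.tsys K).US [22, 20, 19, 17] := fun r hr z => CommSys.x_mem_US _ hr z
    exact mul_mem (mul_mem (mul_mem (hx 20 (by simp) _) (hx 22 (by simp) _)) (hx 19 (by simp) _)) (hx 17 (by simp) _)
  refine ⟨(h0 : GL₄)⁻¹ * (xW S p.1 p.2 : GL₄) * (h0 : GL₄)⁻¹⁻¹, Subgroup.mem_inf.2 ⟨?_, ?_⟩,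
    (h0 : GL₄)⁻¹ * (qW S 0 1 : GL₄) * (h0 : GL₄)⁻¹⁻¹, Subgroup.mem_inf.2 ⟨?_, ?_⟩,
    (xW S r.1 r.2 : GL₄)⁻¹, Subgroup.mem_inf.2 ⟨inv_mem (hxU _ _), inv_mem (xW S _ _).2⟩, pt, ?_⟩
  · exact (factsF4.tsys K).H_conj_US hH (fun r hr => (cell_tab.2.2.2.2.2.2.2.2.2.1 r hr).1) (hxU _ _)
  · exact mul_mem (mul_mem (inv_mem h0.2) (xW S _ _).2) (inv_mem (inv_mem h0.2))
  · exact (factsF4.tsys K).H_conj_US hH (fun r hr => (cell_tab.2.2.2.2.2.2.2.2.2.2.1 r hr).1) hqU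
  · exact mul_mem (mul_mem (inv_mem h0.2) (qW S _ _).2) (inv_mem (inv_mem h0.2))
  rw [← hpt, e']
  group

theorem exp_one (S : Setup K m) : Function.Surjective fun w : Kˣ => w * (fB m (1, w)).2⁻¹ := fun x => by
  obtain ⟨y, hy⟩ := sq_surj S x
  exact ⟨y, by simp [fB, ← hy, pow_two]⟩

theorem exp_three (S : Setup K m) :
    Function.Surjective fun w : Kˣ => w * (fB m (fA (fB m (fA (fB m (1, w)))))).2⁻¹ := by
  intro x
  obtain ⟨y, hy⟩ := Finite.surjective_of_injective (P2_inj (K := K) S) x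
  obtain ⟨w, hw⟩ := Finite.surjective_of_injective (fun _ _ h => P2_mul_self_inj (K := K) S h) y
  refine ⟨w, ?_⟩
  replace hw : w * P2 m w = y := hw
  rw [← hy, ← hw]
  simp only [fA, fB, map_mul, map_inv, map_pow, map_one, P2_P2 S, one_pow]
  apply Additive.ofMul.injective
  simp
  abel

theorem hX1 (T : Kˣ) : ∃ A, Big S (R1 : GL₄) T A := by
  obtain ⟨y, hy, v, hv, u, hu, p, he⟩ := base_one S
  have hp : ∀ {z : GL₄}, z ∈ (factsF4.tsys K).US [25, 27, 28, 30] ⊓ twistedF4 K (2 ^ m) → z ∈ Upos (K := K) m :=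
    fun h => ⟨CommSys.US_mono _ (fun r hr => (cell_tab.2.2.2.2.2.2.2.2.2.1 r hr).2.1) h.1, h.2⟩
  have hn : v ∈ Uneg (K := K) m :=
    ⟨CommSys.US_mono _ (fun r hr => (cell_tab.2.2.2.2.2.2.2.2.2.2.1 r hr).2.1) hv.1, hv.2⟩
  exact of_base S ((act_B S).inv fB_invol) (hp hy) hn (hp hu) he (exp_one S) T

theorem hX3 (T : Kˣ) : ∃ A, Big S (R3 : GL₄) T A := by
  obtain ⟨y, hy, v, hv, u, hu, p, he⟩ := base_one S
  have hP : ∀ r ∈ [25, 27, 28, 30], r < 48 ∧ p3 r ∈ posR := fun r hr =>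
    ⟨(cell_tab.2.2.2.2.2.2.2.2.2.1 r hr).1, (cell_tab.2.2.2.2.2.2.2.2.2.1 r hr).2.2⟩
  have hN : ∀ r ∈ [22, 20, 19, 17], r < 48 ∧ p3 r ∈ negR := fun r hr =>
    ⟨(cell_tab.2.2.2.2.2.2.2.2.2.2.1 r hr).1, (cell_tab.2.2.2.2.2.2.2.2.2.2.1 r hr).2.2⟩
  have hg : Act m (g3 : GL₄) fun p => fB m (fA p) := (act_B S).mul (act_A S)
  have hgi : Act m (g3 : GL₄)⁻¹ fun p => fA (fB m p) := hg.inv fun p => by rw [fA_invol, fB_invol]
  have hR : Act m (R3 : GL₄)⁻¹ fun p => fB m (fA (fB m (fA (fB m p)))) := by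
    rw [show (R3 : GL₄)⁻¹ = g3 * (nO 1)⁻¹ * g3⁻¹ by rw [R3]; group]
    exact (hg.mul ((act_B S).inv fB_invol)).mul hgi
  refine of_base S hR (conj_inf S mono3 (g3_mem S) hP hy.1 hy.2) (conj_inf S mono3 (g3_mem S) hN hv.1 hv.2)
    (conj_inf S mono3 (g3_mem S) hP hu.1 hu.2) (p := fB m (fA p)) ?_ (exp_three S) T
  rw [← hg p, R3]
  calc g3 * y * g3⁻¹ * (g3 * nO 1 * g3⁻¹) = g3 * (y * nO 1) * g3⁻¹ := by group
    _ = _ := by rw [he]; group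

theorem hX2 (T : Kˣ) : ∃ A, Big S (R2 : GL₄) T A := by
  obtain ⟨w, hw⟩ := Finite.surjective_of_injective (fun _ _ h => P2_mul_self_inj (K := K) S h) T
  replace hw : w * P2 m w = T := hw
  obtain ⟨x, hx⟩ : ∃ x, P2 m x * x ^ 2 = T ^ 2 := by
    refine ⟨P2 m w, ?_⟩
    rw [P2_P2 S, ← hw, mul_pow]
  have hG : (nO 1 : GL₄) ∈ twistedF4 K (2 ^ m) := nO_mem S (by norm_num)
  refine ⟨dgS ((x : Kˣ) * T⁻¹), _, conj_inf S (mono_O 1) hG cell_tab.2.2.2.2.2.1 (phP_up_US S (x : K)) (phP_mem S _),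
    _, conj_inf S (mono_O 1) hG cell_tab.2.2.2.2.2.2.1 (phP_lo_US S ((x⁻¹ : Kˣ) : K)) (phP_mem S _),
    _, conj_inf S (mono_O 1) hG cell_tab.2.2.2.2.2.1 (phP_up_US S ((x⁻¹ : Kˣ) : K)) (phP_mem S _), ?_⟩
  rw [← tt_Lv S (t := x) hx.symm, R2, nO0_eq S,
    show tt m (x, P2 m x * x ^ 2) = nO 1 * phP S (dgS x) * (nO 1)⁻¹ by
      rw [phP_dg, act_B S]
      simp [fB]]
  calc nO 1 * phP S (upS (x : K)) * (nO 1)⁻¹ * (nO 1 * phP S antS * (nO 1)⁻¹)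
      = nO 1 * (phP S (upS (x : K)) * phP S antS) * (nO 1)⁻¹ := by group
    _ = _ := by rw [← map_mul, up_ant, map_mul, map_mul]; group

/-- Both witnesses of the fourth cell. -/
theorem hX4 (T : Kˣ) : Big S (R4 : GL₄) T 1 ∧ ∃ α : K, α ≠ 0 ∧ Big S (R4 : GL₄) T (upS α) := by
  obtain ⟨w, hw⟩ := Finite.surjective_of_injective (fun _ _ h => P2_mul_self_inj (K := K) S h) T
  replace hw : w * P2 m w = T := hw
  have hh : g4 * phP S (dgS w) * g4⁻¹ = Lv S (T, 1) := by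
    rw [phP_dg]
    refine (((act_B S).mul (act_A S)).mul (act_B S) (w, 1)).trans ?_
    rw [Lv_apply, map_one, mul_one, zz_apply, ← hw]
    congr 1
    refine Prod.ext ?_ ?_ <;>
    · simp only [fA, fB, map_mul, map_inv, map_pow, map_one, P2_P2 S, one_pow, mul_pow]
      apply Additive.ofMul.injective
      simp
      abel
  obtain ⟨tab1, tab2, -⟩ := cell_tab.2.2.2.2.2.2.2
  have hG := g4_mem S
  obtain ⟨a, ha⟩ : ∃ a : K, a = (((w⁻¹ : Kˣ) : K)) ^ 2 ^ m := ⟨_, rfl⟩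
  have hE0 : phP S (upS ((w⁻¹ : Kˣ) : K)) = E m 0 a := by
    rw [E0_eq S, ha, ph, (S.pow_twist _).1]
  have hy := conj_inf S mono4 hG tab1 (phP_up_US S (w : K)) (phP_mem S _)
  have hu := conj_inf S mono4 hG tab1 (phP_up_US S ((w⁻¹ : Kˣ) : K)) (phP_mem S _)
  have hv := conj_inf S mono4 hG tab2 (phP_lo_US S ((w⁻¹ : Kˣ) : K)) (phP_mem S _)
  have he : g4 * phP S (upS (w : K)) * g4⁻¹ * R4 = g4 * phP S (loS ((w⁻¹ : Kˣ) : K)) * g4⁻¹ * Lv S (T, 1) *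
      (g4 * phP S (upS ((w⁻¹ : Kˣ) : K)) * g4⁻¹) := by
    rw [← hh, R4, nO0_eq S]
    calc g4 * phP S (upS (w : K)) * g4⁻¹ * (g4 * phP S antS * g4⁻¹)
        = g4 * (phP S (upS (w : K)) * phP S antS) * g4⁻¹ := by group
      _ = _ := by rw [← map_mul, up_ant, map_mul, map_mul]; group
  refine ⟨⟨_, hy, _, hv, _, hu, he⟩, ph m a, ?_, ?_⟩
  · rw [ha, ph, (S.pow_twist _).1]; exact Units.ne_zero _
  obtain ⟨t39, t45, tP, tN⟩ := trick_tab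
  obtain ⟨g, hg⟩ : ∃ g : GL₄, g = g4 * nO 0 := ⟨_, rfl⟩
  have hgG : g ∈ twistedF4 K (2 ^ m) := hg ▸ mul_mem hG (nO_mem S (by norm_num))
  have hgM : Mono g fun r => p4 (piO 0 r) := hg ▸ mono4.mul (mono_O 0)
  have hE : ∀ d s, E m d s ∈ twistedF4 K (2 ^ m) := fun d s => (E_mem S d s).2
  have hX6 : g * E m 6 1 * g⁻¹ ∈ Upos (K := K) m :=
    conj_inf S hgM hgG tP (E_US (d := 6) (L := [37, 32]) (by decide) 1) (hE 6 1)
  have hE02 : E m 0 a * E m 2 (ph m a) ∈ (factsF4.tsys K).US [33, 24, 38, 43] :=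
    mul_mem (E_US (d := 0) (L := [33, 24, 38, 43]) (by decide) a)
      (E_US (d := 2) (L := [33, 24, 38, 43]) (by decide) _)
  have hV : g * (E m 0 a * E m 2 (ph m a)) * g⁻¹ ∈ Uneg (K := K) m :=
    conj_inf S hgM hgG tN hE02 (mul_mem (hE _ _) (hE _ _))
  have hE4 : g * E m 4 a * g⁻¹ = phP S (upS (ph m a)) := by
    rw [← E0_eq S]
    show g * (X 39 a * X 45 (ph m a)) * g⁻¹ = X 33 a * X 24 (ph m a)
    rw [show g * (X 39 a * X 45 (ph m a)) * g⁻¹ = (g * X 39 a * g⁻¹) * (g * X 45 (ph m a) * g⁻¹) by group,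
      show g * X 39 a * g⁻¹ = X 33 a from ((hgM 39 (by norm_num)).2 a).trans (by dsimp only; rw [t39]),
      show g * X 45 (ph m a) * g⁻¹ = X 24 (ph m a) from
        ((hgM 45 (by norm_num)).2 _).trans (by dsimp only; rw [t45])]
  have hword : E m 6 1 * E m 0 a = E m 0 a * E m 2 (ph m a) * E m 4 a * E m 6 1 := by
    have h := eqv_sound trick_word (envL m [a])
    rw [evW_append, evW_append, evW_append, evW_append, ev_wE S, ev_wE S, ev_wE S, ev_wE S] at h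
    simpa [pv, evP, evM, envL] using h
  have hlo : g4 * phP S (loS ((w⁻¹ : Kˣ) : K)) * g4⁻¹ = g * E m 0 a * g⁻¹ := by
    rw [← ant_up, map_mul, map_mul, map_inv, ← nO0_eq S, hE0, hg]
    group
  refine ⟨(g * E m 6 1 * g⁻¹) * (g4 * phP S (upS (w : K)) * g4⁻¹), mul_mem hX6 hy,
    g * (E m 0 a * E m 2 (ph m a)) * g⁻¹, hV,
    (Lv S (T, 1))⁻¹ * (g * E m 6 1 * g⁻¹) * Lv S (T, 1) * (g4 * phP S (upS ((w⁻¹ : Kˣ) : K)) * g4⁻¹),
    mul_mem (Lv_conj' S (Or.inl rfl) _ hX6) hu, ?_⟩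
  rw [mul_assoc, he, hlo, show ((T, upS (ph m a)) : Kˣ × SL₂) = (1, upS (ph m a)) * (T, 1) by simp, map_mul,
    Lv_one, ← hE4]
  calc g * E m 6 1 * g⁻¹ * (g * E m 0 a * g⁻¹ * Lv S (T, 1) * (g4 * phP S (upS ((w⁻¹ : Kˣ) : K)) * g4⁻¹))
      = g * (E m 6 1 * E m 0 a) * g⁻¹ * Lv S (T, 1) * (g4 * phP S (upS ((w⁻¹ : Kˣ) : K)) * g4⁻¹) := by group
    _ = _ := by rw [hword]; group

theorem R4_comm (A : SL₂) : Commute (R4 : GL₄) (phP S A) := by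
  obtain ⟨-, hinv, -, -, -, -, -, -, -, -, -, hfix⟩ := cell_tab
  have hR : Mono (R4 : GL₄) fun r => p4 (piO 0 (p4 r)) := (mono4.mul (mono_O 0)).mul (mono4.inv hinv)
  have h := phP_gens S (X := Subgroup.centralizer {(R4 : GL₄)}) (fun r hr x => by
    obtain ⟨hlt, hf⟩ := hfix r hr
    refine Subgroup.mem_centralizer_singleton_iff.2 ?_
    have e := (hR r hlt).2 x
    dsimp only at e
    rw [hf, mul_inv_eq_iff_eq_mul] at e
    exact e.symm) A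
  exact (Subgroup.mem_centralizer_singleton_iff.1 h).symm

variable {S} (P : Par S)

theorem cell1 (p' : Kˣ × SL₂) {u : GL₄} (hu : u ∈ Upos (K := K) m) : Cov P (R1 * Lv S p' * u) :=
  cell_of P (up_mem S (mono_Oi (by norm_num)) (R_mem S).1 cell_tab.2.2.1) (hX1 S) p' hu

theorem cell2 (p' : Kˣ × SL₂) {u : GL₄} (hu : u ∈ Upos (K := K) m) : Cov P (R2 * Lv S p' * u) := by
  have hM : Mono (R2 : GL₄)⁻¹ fun r => piO 1 (piO 0 (piO 1 r)) := by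
    rw [show (R2 : GL₄)⁻¹ = nO 1 * nO 0 * (nO 1)⁻¹ by rw [R2, _root_.mul_inv_rev, _root_.mul_inv_rev, inv_inv, nO0_inv S, mul_assoc]]
    exact ((mono_O 1).mul (mono_O 0)).mul (mono_Oi (by norm_num))
  exact cell_of P (up_mem S hM (R_mem S).2.1 cell_tab.2.2.2.1) (hX2 S) p' hu

theorem cell3 (p' : Kˣ × SL₂) {u : GL₄} (hu : u ∈ Upos (K := K) m) : Cov P (R3 * Lv S p' * u) := by
  have hM : Mono (R3 : GL₄)⁻¹ fun r => p3 (piO 1 (p3' r)) := by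
    rw [show (R3 : GL₄)⁻¹ = g3 * (nO 1)⁻¹ * g3⁻¹ by rw [R3]; group]
    exact (mono3.mul (mono_Oi (by norm_num))).mul (mono3.inv cell_tab.1)
  exact cell_of P (up_mem S hM (R_mem S).2.2.1 cell_tab.2.2.2.2.1) (hX3 S) p' hu

theorem cell4 (p' : Kˣ × SL₂) {u : GL₄} (hu : u ∈ Upos (K := K) m) : Cov P (R4 * Lv S p' * u) := by
  obtain ⟨T, A⟩ := p'
  obtain ⟨hI, α, hα, hII⟩ := hX4 S (P.z * P.z * T⁻¹)
  have hT : P.z * P.z * T⁻¹ * T = P.z * P.z := inv_mul_cancel_right _ _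
  by_cases htr : A.1.trace ≠ 0 ∨ A.1 = 1
  · refine reach P hI hu hT ?_
    rw [one_mul]
    rcases htr with h | h
    · exact good_of_trace h
    · exact Or.inl (by rw [h, one_smul])
  rw [not_or, not_not] at htr
  obtain ⟨htr, h1⟩ := htr
  have main : ∀ B : SL₂, B.1.trace = 0 → B.1 1 0 ≠ 0 → ∀ u ∈ Upos (K := K) m,
      Cov P (R4 * Lv S (T, B) * u) := by
    intro B hB h10 u' hu'
    refine reach P hII hu' hT (good_of_trace ?_)
    rw [SpFourThompson.trace2] at hB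
    rw [Matrix.SpecialLinearGroup.coe_mul, upS_val, SpFourThompson.trace2]
    simp [DFourThompson.up2, Matrix.mul_apply, Fin.sum_univ_two]
    intro h0
    exact mul_ne_zero hα h10 (by linear_combination h0 - hB)
  by_cases h10 : A.1 1 0 = 0
  swap
  · exact main A htr h10 u hu
  have h01 : A.1 0 1 ≠ 0 := by
    intro h01
    rw [SpFourThompson.trace2] at htr
    have hd := A.2
    rw [Matrix.det_fin_two, h10, h01] at hd
    have e11 : A.1 1 1 = A.1 0 0 := by linear_combination htr - A.1 0 0 * (CharTwo.two_eq_zero : (2 : K) = 0)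
    rw [e11] at hd
    have e00 : A.1 0 0 = 1 := by
      rcases mul_self_eq_one_iff.1 (show A.1 0 0 * A.1 0 0 = 1 by linear_combination hd) with h | h
      · exact h
      · exact h.trans (CharTwo.neg_eq 1)
    refine h1 (Matrix.ext fun i j => ?_)
    fin_cases i <;> fin_cases j <;> simp [h01, h10, e11, e00]
  refine cov_twist P (Q := ((1 : Kˣ), antS)) (by rw [Lv_one]; exact R4_comm S _) (fun u₁ hu₁ => ?_) hu
  rw [Prod.inv_mk, inv_one, Prod.mk_mul_mk, Prod.mk_mul_mk, one_mul, mul_one]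
  refine main _ ?_ ?_ u₁ hu₁
  · rw [Matrix.SpecialLinearGroup.coe_mul, Matrix.trace_mul_comm, ← Matrix.SpecialLinearGroup.coe_mul,
      inv_mul_cancel_left]
    exact htr
  · rw [ant_inv, Matrix.SpecialLinearGroup.coe_mul, Matrix.SpecialLinearGroup.coe_mul]
    simp [antS, Matrix.mul_apply, Fin.sum_univ_two, Matrix.vecMul, dotProduct, h01]

end Cfsg.Agent.Small.FFourTwistThompson
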