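import Cfsg.Agent.Lib.Small.DFourThompson.Lin
import Cfsg.Agent.Lib.Lie.TwistMult.D4Lift

/-!
Elliptic elements of SL₂ over a finite field of characteristic two.
-/

set_option autoImplicit false
set_option linter.unusedSectionVars false

namespace Cfsg.Agent.Small.FFourTwistThompson

open Matrix Cfsg.Lie Cfsg.Agent.Lie Cfsg.Agent.Small.SpFourThompson
open Cfsg.Agent.Small.DFourThompson (Ell up2 lo2)
open Cfsg.Agent.Lie.TwistMult.D4 (dgS)
open scoped MatrixGroups

variable {F : Type*} [Field F] [CharP F 2]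

local notation "M₂" => Matrix (Fin 2) (Fin 2) F
local notation "SL₂" => Matrix.SpecialLinearGroup (Fin 2) F

theorem up_ant (w : Fˣ) :
    (upS (w : F) * antS : SL₂) = loS ((w⁻¹ : Fˣ) : F) * dgS w * upS ((w⁻¹ : Fˣ) : F) := by
  ext i j
  simp only [RankOneRel.entries_mul]
  fin_cases i <;> fin_cases j <;> simp [upS, loS, antS, dgS, CharTwo.neg_eq, CharTwo.add_self_eq_zero]

theorem ant_up (x : F) : (antS : SL₂) * upS x * antS⁻¹ = loS x := by
  rw [mul_inv_eq_iff_eq_mul]
  ext i j
  simp only [RankOneRel.entries_mul]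
  fin_cases i <;> fin_cases j <;> simp [upS, loS, antS, CharTwo.neg_eq]

theorem ant_sq : (antS : SL₂) * antS = 1 := by
  ext i j
  simp only [RankOneRel.entries_mul]
  fin_cases i <;> fin_cases j <;> simp [antS, CharTwo.neg_eq]

theorem ant_inv : (antS : SL₂)⁻¹ = antS := inv_eq_of_mul_eq_one_right ant_sq

theorem upS_val (e : F) : (upS e : SL₂).1 = up2 e := rfl

/-- The good matrices in characteristic two. -/
theorem good_of_trace {S : M₂} (h : S.trace ≠ 0) : GTwoThompson.GoodS (1 : F) S := by
  refine Or.inr ⟨fun e => h (by rw [e, CharTwo.two_eq_zero (R := F), zero_mul]), fun e => h ?_⟩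
  rw [e, Matrix.trace_neg, Matrix.trace_smul, Matrix.trace_one, Fintype.card_fin]
  simp [CharTwo.two_eq_zero]

variable [Fintype F]

theorem exists_tau (h3 : 3 ≤ Fintype.card F) : ∃ τ : F, Ell τ 1 := by
  classical
  obtain ⟨z, hz0, hz1⟩ : ∃ z : F, z ≠ 0 ∧ z ≠ 1 := by
    by_contra h
    push Not at h
    have := Finset.card_le_card (s := (Finset.univ : Finset F)) (t := {0, 1}) fun x _ => by
      simp only [Finset.mem_insert, Finset.mem_singleton]
      exact or_iff_not_imp_left.2 (h x)
    have := Finset.card_le_two (a := (0 : F)) (b := 1)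
    rw [Finset.card_univ] at *
    omega
  let f : F → F := fun x => x + x⁻¹
  have hni : ¬ Function.Injective f := by
    intro hf
    have h := hf (show f z = f z⁻¹ by simp [f, add_comm])
    have h' : z * z = 1 := by
      nth_rw 2 [h]
      exact mul_inv_cancel₀ hz0
    rcases mul_self_eq_one_iff.1 h' with e | e
    · exact hz1 e
    · exact hz1 (e.trans (CharTwo.neg_eq _))
  obtain ⟨τ, hτ⟩ : ∃ τ, ∀ x, f x ≠ τ := by
    by_contra h
    push Not at h
    exact hni (Finite.injective_iff_surjective.2 h)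
  refine ⟨τ, fun h0 => hτ 1 (by simp [f, h0, CharTwo.add_self_eq_zero]), one_ne_zero, fun x hx => ?_⟩
  have hx0 : x ≠ 0 := fun e => by simp [e] at hx
  refine hτ x ?_
  show x + x⁻¹ = τ
  field_simp
  linear_combination hx

/-- An elliptic element has order dividing q + 1. -/
theorem pow_q1 {τ : F} (hell : Ell τ 1) {n : ℕ} (hn : Fintype.card F = 2 ^ n) {A : SL₂}
    (hA : SpFourThompson.InC τ 1 A.1) : A ^ (2 ^ n + 1) = 1 := by
  have : Fact (Nat.Prime 2) := ⟨Nat.prime_two⟩
  have : CharP M₂ 2 := charP_of_injective_algebraMap (FaithfulSMul.algebraMap_injective F M₂) 2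
  obtain ⟨htr, hdet⟩ := hA
  rw [trace2] at htr
  rw [det_fin_two] at hdet
  have h2 : (2 : F) = 0 := CharTwo.two_eq_zero
  set B : M₂ := A.1 with hB
  have hsq : B * B = τ • B + 1 := by
    ext i j
    fin_cases i <;> fin_cases j <;> simp [Matrix.mul_apply, Fin.sum_univ_two]
    · linear_combination -(hdet) + (B 0 0) * htr - 1 * h2
    · linear_combination (B 0 1) * htr
    · linear_combination (B 1 0) * htr
    · linear_combination -(hdet) + (B 1 1) * htr - 1 * h2
  have hspan : ∀ k : ℕ, ∃ a b : F, B ^ k = a • (1 : M₂) + b • B := by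
    intro k
    induction k with
    | zero => exact ⟨1, 0, by simp⟩
    | succ k ih =>
      obtain ⟨a, b, e⟩ := ih
      refine ⟨b, a + b * τ, ?_⟩
      rw [pow_succ, e, add_mul, smul_mul_assoc, smul_mul_assoc, one_mul, hsq, smul_add, smul_smul, add_smul]
      abel
  obtain ⟨a, b, hab⟩ := hspan (2 ^ n)
  have hfrob : B ^ 2 ^ n * B ^ 2 ^ n = τ • B ^ 2 ^ n + 1 := by
    rw [← (Commute.refl B).mul_pow, hsq, add_pow_char_pow_of_commute (p := 2) (n := n) (Commute.one_right _), one_pow, smul_pow,
      show τ ^ 2 ^ n = τ by rw [← hn]; exact FiniteField.pow_card τ]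
  have hne : ∀ c : F, B ≠ c • (1 : M₂) := by
    intro c hc
    rw [hc] at htr hdet
    simp at htr hdet
    exact hell.2.2 c (by linear_combination -hdet + c * htr)
  rw [hab] at hfrob
  simp only [add_mul, mul_add, smul_mul_assoc, mul_smul_comm, one_mul, mul_one, hsq, smul_add, smul_smul] at hfrob
  have hz : ∀ x : M₂, x + x = 0 := CharTwo.add_self_eq_zero
  have key : (b * b * τ + τ * b) • B = (a * a + b * b + τ * a + 1) • (1 : M₂) := by
    linear_combination (norm := module) hfrob + hz ((τ * b - a * b) • B - (a * a + b * b) • (1 : M₂))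
  by_cases hc : b * b * τ + τ * b = 0
  swap
  · exact absurd (by
      rw [← inv_smul_smul₀ hc B, key, smul_smul]) (hne ((b * b * τ + τ * b)⁻¹ * (a * a + b * b + τ * a + 1)))
  have hr : a * a + b * b + τ * a + 1 = 0 := by
    rw [hc, zero_smul] at key
    have := congrFun (congrFun key 0) 0
    simpa using this.symm
  have hb : b = 1 := by
    have hb' : b * (b + 1) = 0 := (mul_eq_zero.1 (show b * (b + 1) * τ = 0 by linear_combination hc)).resolve_right hell.1
    rcases mul_eq_zero.1 hb' with hb | hb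
    · refine absurd ?_ (hell.2.2 a)
      rw [hb] at hr
      linear_combination hr - τ * a * h2
    · linear_combination hb - h2
  have ha : a = τ := by
    rw [hb] at hr
    rcases mul_eq_zero.1 (show a * (a + τ) = 0 by linear_combination hr - h2) with ha | ha
    · exfalso
      rw [ha, hb, zero_smul, zero_add, one_smul] at hab
      have hprod : ∀ s : Finset F, IsUnit (Polynomial.aeval B (∏ c ∈ s, (Polynomial.X - Polynomial.C c))) := by
        classical
        intro s
        induction s using Finset.induction with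
        | empty => simp
        | insert c s hc' ih =>
          rw [Finset.prod_insert hc', map_mul]
          refine IsUnit.mul ?_ ih
          rw [map_sub, Polynomial.aeval_X, Polynomial.aeval_C, Matrix.isUnit_iff_isUnit_det,
            det_fin_two]
          refine isUnit_iff_ne_zero.2 fun h0 => hell.2.2 c ?_
          simp [Matrix.algebraMap_matrix_apply] at h0
          linear_combination h0 - hdet + c * htr
      have h := hprod Finset.univ
      have hp : ∏ c : F, (Polynomial.X - Polynomial.C c) = Polynomial.X ^ Fintype.card F - Polynomial.X := by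
        have hq : 1 < Fintype.card F := Fintype.one_lt_card
        have hroots := FiniteField.roots_X_pow_card_sub_X F
        have hmon : (Polynomial.X ^ Fintype.card F - Polynomial.X : Polynomial F).Monic :=
          Polynomial.monic_X_pow_sub (by rw [Polynomial.degree_X]; exact_mod_cast hq)
        have := Polynomial.prod_multiset_X_sub_C_of_monic_of_roots_card_eq hmon (by
          rw [hroots, FiniteField.X_pow_card_sub_X_natDegree_eq F hq]; rfl)
        rw [hroots] at this
        exact this
      rw [hp, map_sub, map_pow, Polynomial.aeval_X, hn, hab, sub_self] at h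
      exact not_isUnit_zero h
    · linear_combination ha - τ * h2
  refine Subtype.ext ?_
  show B ^ (2 ^ n + 1) = 1
  rw [pow_succ, hab, ha, hb, one_smul, add_mul,
    smul_mul_assoc, one_mul, hsq, ← add_assoc, ← add_smul, CharTwo.add_self_eq_zero, zero_smul, zero_add]

/-- Two elliptic elements of the same trace are conjugate in SL₂. -/
theorem class_conj {τ : F} (hell : Ell τ 1) (hsq : ∀ x : F, ∃ y, y ^ 2 = x) {A A' : SL₂}
    (hA : SpFourThompson.InC τ 1 A.1) (hA' : SpFourThompson.InC τ 1 A'.1) : ∃ Q : SL₂, A' = Q * A * Q⁻¹ := by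
  obtain ⟨P, hP, hPe⟩ := exists_conj_comp2 (DFourThompson.not_scalar hell hA)
  obtain ⟨P', hP', hPe'⟩ := exists_conj_comp2 (DFourThompson.not_scalar hell hA')
  rw [hA.1, hA.2] at hPe
  rw [hA'.1, hA'.2] at hPe'
  have hR : A'.1 * (P' * P⁻¹) = P' * P⁻¹ * A.1 := by
    calc A'.1 * (P' * P⁻¹) = P' * comp2 τ 1 * P⁻¹ := by rw [← hPe', Matrix.mul_assoc]
      _ = P' * (P⁻¹ * P * comp2 τ 1) * P⁻¹ := by rw [nonsing_inv_mul P hP, Matrix.one_mul]
      _ = P' * (P⁻¹ * (A.1 * P)) * P⁻¹ := by rw [hPe, Matrix.mul_assoc P⁻¹ P]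
      _ = P' * P⁻¹ * A.1 * (P * P⁻¹) := by simp only [Matrix.mul_assoc]
      _ = _ := by rw [mul_nonsing_inv P hP, Matrix.mul_one]
  have hRu : IsUnit (P' * P⁻¹).det := by
    rw [det_mul]; exact hP'.mul (isUnit_nonsing_inv_det P hP)
  obtain ⟨c, hc⟩ := hsq ((P' * P⁻¹).det)⁻¹
  obtain ⟨Q, hQ⟩ : ∃ Q : SL₂, Q.1 = c • (P' * P⁻¹) :=
    ⟨⟨c • (P' * P⁻¹), by rw [det_smul, Fintype.card_fin, hc, inv_mul_cancel₀ hRu.ne_zero]⟩, rfl⟩
  refine ⟨Q, eq_mul_inv_iff_mul_eq.2 (Subtype.ext ?_)⟩
  show A'.1 * Q.1 = Q.1 * A.1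
  rw [hQ, Matrix.mul_smul, Matrix.smul_mul, hR]

end Cfsg.Agent.Small.FFourTwistThompson
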