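import Cfsg.Agent.Lib.Small.FFourTwistThompson.Levi
import Cfsg.Agent.Lib.Small.FFourTwistThompson.Ell
import Cfsg.Agent.Lib.Small.DFourThompson.Cover

/-!
Products of two conjugates of the Levi element: the criterion.
-/

set_option autoImplicit false
set_option maxRecDepth 4000
set_option linter.unusedSectionVars false

namespace Cfsg.Agent.Small.FFourTwistThompson

open Cfsg.Lie Cfsg.Agent.Lie Cfsg.Agent.Small.C2Inv.F4
open Cfsg.Agent.Lie.F4 (Setup Os)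
open Cfsg.Agent.Small.DFourThompson (Ell up2 coset_conj shape_up exists_pair)
open Cfsg.Agent.Small.GTwoThompson (GoodS)
open scoped MatrixGroups

variable {K : Type*} [Field K] [Fintype K] [CharP K 2] {m : ℕ}

local notation "GL₄" => GL chevF4.Idx K
local notation "SL₂" => Matrix.SpecialLinearGroup (Fin 2) K

/-- The parameters of the chosen element. -/
structure Par (S : Setup K m) where
  z : Kˣ
  hz : z ≠ 1
  τ : K
  ell : Ell τ 1
  A : Matrix.SpecialLinearGroup (Fin 2) K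
  hA : SpFourThompson.InC τ 1 A.1

variable {S : Setup K m} (P : Par S)

/-- The chosen element. -/
noncomputable def Par.x : GL chevF4.Idx K := Lv S (P.z, P.A)

/-- Products of two conjugates. -/
def Cov (g : GL chevF4.Idx K) : Prop :=
  ∃ y ∈ twistedF4 K (2 ^ m), ∃ z ∈ twistedF4 K (2 ^ m), g = y * P.x * y⁻¹ * (z * P.x * z⁻¹)

theorem cov_conj {g y : GL₄} (hy : y ∈ twistedF4 K (2 ^ m)) (h : Cov P (y * g * y⁻¹)) : Cov P g := by
  obtain ⟨a, ha, b, hb, e⟩ := h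
  refine ⟨y⁻¹ * a, mul_mem (inv_mem hy) ha, y⁻¹ * b, mul_mem (inv_mem hy) hb, ?_⟩
  rw [show g = y⁻¹ * (y * g * y⁻¹) * y by group, e]
  group

/-- The exponents of the characters. -/
theorem chi_tab : ∀ r ∈ posR ++ negR,
    wList chevF4 r = [(wList chevF4 r).getD 0 0, (wList chevF4 r).getD 1 0, (wList chevF4 r).getD 2 0,
      (wList chevF4 r).getD 3 0] ∧
    ((wList chevF4 r).getD 0 0 + 2 * (wList chevF4 r).getD 1 0,
      2 * (wList chevF4 r).getD 2 0 + (wList chevF4 r).getD 3 0) ∈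
      ([(0, 1), (0, -1), (1, 0), (-1, 0), (2, -1), (-2, 1), (3, -2), (-3, 2), (4, -2), (-4, 2), (1, -1), (-1, 1),
        (2, -2), (-2, 2), (4, -3), (-4, 3)] : List (ℤ × ℤ)) := by
  decide +kernel

include S in
theorem char_ne {t : Kˣ} (ht : t ≠ 1) {r : ℕ} (hr : r ∈ posR ++ negR) :
    torChar chevF4 (vec (t ^ 2 ^ m) ((t ^ 2) ^ 2 ^ m) (t ^ 2) t) r ≠ 1 := by
  obtain ⟨hv, hmem⟩ := chi_tab r hr
  have hlt : r < 48 := by
    rcases List.mem_append.1 hr with h | h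
    · exact (rad_tab.1 r h).2
    · exact (rad_tab.2.1 r h).trans (by norm_num)
  rw [torChar_vec _ _ _ _ hlt hv]
  generalize (wList chevF4 r).getD 0 0 = a at hmem
  generalize (wList chevF4 r).getD 1 0 = b at hmem
  generalize (wList chevF4 r).getD 2 0 = c at hmem
  generalize (wList chevF4 r).getD 3 0 = d at hmem
  have hsq : (t ^ 2) ^ 2 ^ m = (t ^ 2 ^ m) ^ 2 := by rw [← pow_mul, ← pow_mul, mul_comm]
  have hval : (List.zipWith (fun u e => u ^ e) [t ^ 2 ^ m, (t ^ 2) ^ 2 ^ m, t ^ 2, t] [a, b, c, d]).prod =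
      (t ^ 2 ^ m) ^ (a + 2 * b) * t ^ (2 * c + d) := by
    rw [hsq, _root_.zpow_add, _root_.zpow_add, _root_.zpow_mul, _root_.zpow_mul, _root_.zpow_ofNat, _root_.zpow_ofNat]
    simp only [List.zipWith_cons_cons, List.zipWith_nil_left, List.prod_cons, List.prod_nil, mul_one, mul_assoc]
  rw [hval]
  obtain ⟨hθ, hP, h3⟩ := nat_exps S (x := t)
  have h21 : (t ^ 2 ^ m) ^ 2 ≠ t := fun e => ht (hP (by
    show t ^ (2 * 2 ^ m) = t
    rw [mul_comm, pow_mul, e]))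
  have h11 : t ^ 2 ^ m ≠ t := fun e => by
    have e' := congrArg (P2 m) e
    rw [map_pow, P2_theta S] at e'
    exact ht (hP e'.symm)
  have h43 : (t ^ 2 ^ m) ^ 4 ≠ t ^ 3 := fun e => by
    have hX : P2 m t = (t ^ 2 ^ m) ^ 2 := by rw [← pow_mul, mul_comm]; rfl
    have e' : t ^ 4 = (t ^ 2 ^ m) ^ 6 := by
      have e2 := congrArg (P2 m) e
      rw [map_pow, map_pow, map_pow, P2_theta S, hX, ← pow_mul] at e2
      exact e2
    refine ht (mul_left_cancel (a := t ^ 8) ?_)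
    rw [mul_one, ← pow_succ, show (8 : ℕ) + 1 = 3 * 3 from rfl, pow_mul, ← e, show (8 : ℕ) = 4 * 2 from rfl, pow_mul,
      e', ← pow_mul, ← pow_mul, ← pow_mul, ← pow_mul]
  intro h
  rw [mul_eq_one_iff_eq_inv] at h
  simp only [List.mem_cons, Prod.mk.injEq, List.not_mem_nil, or_false] at hmem
  have cases2 : ∀ (i j : ℕ), (t ^ 2 ^ m) ^ i ≠ t ^ j →
      (a + 2 * b = (i : ℤ) ∧ 2 * c + d = -(j : ℤ)) ∨ (a + 2 * b = -(i : ℤ) ∧ 2 * c + d = (j : ℤ)) → False := by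
    rintro i j hne (⟨e1, e2⟩ | ⟨e1, e2⟩) <;> rw [e1, e2] at h <;> simp [_root_.zpow_neg] at h
    · exact hne h
    · exact hne h
  have hX1 : t ^ 2 ^ m ≠ 1 := fun e => ht (hθ e)
  rcases hmem with hm' | hm' | hm' | hm' | hm' | hm' | hm' | hm' | hm' | hm' | hm' | hm' | hm' | hm' | hm' | hm'
  all_goals first
    | exact cases2 0 1 (by simpa using Ne.symm ht) (by omega)
    | exact cases2 1 0 (by simpa using hX1) (by omega)
    | exact cases2 2 1 (by simpa using h21) (by omega)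
    | exact cases2 3 2 (fun e => ht (h3 e)) (by omega)
    | exact cases2 4 2 (fun e => h21 (sq_inj S (by rw [← pow_mul]; exact e))) (by omega)
    | exact cases2 1 1 (by simpa using h11) (by omega)
    | exact cases2 2 2 (fun e => h11 (sq_inj S e)) (by omega)
    | exact cases2 4 3 h43 (by omega)

/-- The Levi element has no fixed points on the radicals. -/
theorem fixed_free {A : SL₂} (hA : SpFourThompson.InC P.τ 1 A.1) {u : GL₄}
    (hu : u ∈ Upos (K := K) m ∨ u ∈ Uneg (K := K) m) (hc : Commute u (Lv S (P.z, A))) : u = 1 := by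
  have hq : P.z ^ (2 ^ (2 * m + 1) + 1) = P.z ^ 2 := by
    have h : P.z ^ (2 ^ (2 * m + 1) - 1) = 1 := by
      rw [← S.hK, ← Nat.card_units]; exact pow_card_eq_one'
    rw [show 2 ^ (2 * m + 1) + 1 = (2 ^ (2 * m + 1) - 1) + 2 by
      have := Nat.one_le_two_pow (n := 2 * m + 1); omega, pow_add, h, one_mul]
  have hA1 : A ^ (2 ^ (2 * m + 1) + 1) = 1 :=
    pow_q1 P.ell (by rw [← Nat.card_eq_fintype_card, S.hK]) hA
  have hw := hc.pow_right (2 ^ (2 * m + 1) + 1)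
  rw [← map_pow, Prod.pow_mk, hq, hA1, Lv_apply, map_one, mul_one, zz_apply] at hw
  obtain ⟨t, ht⟩ : ∃ t, t = P.z ^ 2 := ⟨_, rfl⟩
  rw [← ht] at hw
  have ht1 : t ≠ 1 := fun e => P.hz (sq_inj S (by rw [← ht, e, one_pow]))
  have hfix : torus chevF4 K (vec (t ^ 2 ^ m) ((t ^ 2) ^ 2 ^ m) (t ^ 2) t) * u *
      (torus chevF4 K (vec (t ^ 2 ^ m) ((t ^ 2) ^ 2 ^ m) (t ^ 2) t))⁻¹ = u :=
    mul_inv_eq_iff_eq_mul.2 hw.symm.eq
  have zero : ∀ r ∈ posR ++ negR, ∀ c : K,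
      (torChar chevF4 (vec (t ^ 2 ^ m) ((t ^ 2) ^ 2 ^ m) (t ^ 2) t) r : K) * c = c → c = 0 := by
    intro r hr c hc
    by_contra h0
    exact char_ne (S := S) ht1 hr (Units.ext ((mul_eq_right₀ h0).1 hc))
  obtain ⟨h1, h2, -, -⟩ := rad_tab
  have hone : ∀ L : List ℕ, ∀ c : ℕ → K, (∀ r ∈ L, c r = 0) → (factsF4.sys K).prodOver L c = 1 := by
    intro L c hL
    refine List.prod_eq_one fun x hx => ?_
    obtain ⟨r, hr, rfl⟩ := List.mem_map.1 hx
    rw [hL r hr, Facts.sys_x, factsF4.xg_zero]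
  rcases hu with hu | hu
  · obtain ⟨c, rfl⟩ := CommSys.exists_prodOver (factsF4.sys K).toCommSys closed_posR hu.1
    rw [factsF4.torus_conj_prodOver _ fun r hr => (h1 r hr).2] at hfix
    exact hone _ _ fun r hr =>
      zero r (List.mem_append_left _ hr) _ (factsF4.prodOver_inj closed_posR hfix r hr)
  · obtain ⟨c, rfl⟩ := CommSys.exists_prodOver_neg (factsF4.sys K).toCommSys negList_negR hu.1
    rw [factsF4.torus_conj_prodOver _ fun r hr => (h2 r hr).trans (show 24 < 48 by norm_num)] at hfix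
    exact hone _ _ fun r hr =>
      zero r (List.mem_append_right _ hr) _ (factsF4.prodOver_inj_neg negList_negR hfix r hr)

theorem class_x {A : Matrix (Fin 2) (Fin 2) K} (hA : SpFourThompson.InC P.τ 1 A) :
    ∃ z ∈ twistedF4 K (2 ^ m), Lv S (P.z, ⟨A, hA.2⟩) = z * P.x * z⁻¹ := by
  have hsq : ∀ x : K, ∃ y, y ^ 2 = x := fun x => by
    refine ⟨x ^ (2 ^ m * 2 ^ m), ?_⟩
    have := (S.pow_twist x).1
    rw [← pow_mul] at this ⊢
    rwa [show 2 ^ m * 2 ^ m * 2 = 2 ^ m * (2 * 2 ^ m) by ring]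
  obtain ⟨Q, hQ⟩ := class_conj P.ell hsq (A' := ⟨A, hA.2⟩) P.hA hA
  refine ⟨Lv S (1, Q), Lv_mem S _, ?_⟩
  rw [Par.x, ← map_inv, ← map_mul, ← map_mul, Prod.inv_mk, Prod.mk_mul_mk, Prod.mk_mul_mk, inv_one, one_mul,
    mul_one, ← hQ]

/-- The criterion. -/
theorem of_good {M : SL₂} (hM : GoodS (1 : K) M.1) {v u : GL₄} (hv : v ∈ Uneg (K := K) m)
    (hu : u ∈ Upos (K := K) m) : Cov P (v * Lv S (P.z * P.z, M) * u) := by
  obtain ⟨A, B, hA, hB, hAB⟩ := exists_pair P.ell (M := M.1) (by rw [M.2, mul_one]) hM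
  obtain ⟨a, ha, hca⟩ := class_x P hA
  obtain ⟨b, hb, hcb⟩ := class_x P hB
  have hsplit : Lv S (P.z * P.z, M) = a * P.x * a⁻¹ * (b * P.x * b⁻¹) := by
    rw [← hca, ← hcb, ← map_mul]
    exact congrArg (fun X => Lv S (P.z * P.z, X)) (Subtype.ext hAB.symm)
  obtain ⟨zv, hzv, hev⟩ := (coset_conj (Uneg (K := K) m) (a * P.x * a⁻¹)
    (fun z hz => by rw [← hca]; exact Lv_conj S (Or.inr rfl) _ hz)
    (fun z hz hc => fixed_free P hA (Or.inr hz) (hca ▸ hc)) v hv).1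
  obtain ⟨zu, hzu, heu⟩ := (coset_conj (Upos (K := K) m) (b * P.x * b⁻¹)
    (fun z hz => by rw [← hcb]; exact Lv_conj S (Or.inl rfl) _ hz)
    (fun z hz hc => fixed_free P hB (Or.inl hz) (hcb ▸ hc)) u hu).2
  refine ⟨zv * a, mul_mem hzv.2 ha, zu * b, mul_mem hzu.2 hb, ?_⟩
  rw [hsplit, show v * (a * P.x * a⁻¹ * (b * P.x * b⁻¹)) * u =
    (v * (a * P.x * a⁻¹)) * ((b * P.x * b⁻¹) * u) by simp only [mul_assoc], hev, heu]
  group

/-- A representative moves into the big cell with given first coordinate. -/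
def Big (S : Setup K m) (R : GL chevF4.Idx K) (T : Kˣ) (A : Matrix.SpecialLinearGroup (Fin 2) K) : Prop :=
  ∃ y ∈ Upos (K := K) m, ∃ v ∈ Uneg (K := K) m, ∃ u ∈ Upos (K := K) m, y * R = v * Lv S (T, A) * u

theorem reach {R u : GL₄} {T : Kˣ} {A : SL₂} {p' : Kˣ × SL₂} (hB : Big S R T A)
    (hu : u ∈ Upos (K := K) m) (hT : T * p'.1 = P.z * P.z) (hM : GoodS (1 : K) (A * p'.2).1) :
    Cov P (R * Lv S p' * u) := by
  obtain ⟨y, hy, v, hv, u', hu', he⟩ := hB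
  refine cov_conj P hy.2 ?_
  rw [show y * (R * Lv S p' * u) * y⁻¹ =
      v * (Lv S (T, A) * Lv S p') * (((Lv S p')⁻¹ * u' * Lv S p') * u * y⁻¹) by
    simp only [← mul_assoc, he]; group, ← map_mul, show (T, A) * p' = (P.z * P.z, A * p'.2) by rw [← hT]; rfl]
  exact of_good P hM hv (mul_mem (mul_mem (Lv_conj' S (Or.inl rfl) _ hu') hu) (inv_mem hy))

/-- Moving an element of the Levi subgroup to the right. -/
theorem cov_right {R : GL₄} {Q p' : Kˣ × SL₂} (hR : R⁻¹ * Lv S Q * R ∈ Upos (K := K) m)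
    (h : ∀ u ∈ Upos (K := K) m, Cov P (R * Lv S (p' * Q⁻¹) * u)) {u : GL₄}
    (hu : u ∈ Upos (K := K) m) : Cov P (R * Lv S p' * u) := by
  refine cov_conj P (Lv_mem S Q) ?_
  rw [show Lv S Q * (R * Lv S p' * u) * (Lv S Q)⁻¹ = R * (Lv S p' * (Lv S Q)⁻¹) *
      (Lv S Q * ((Lv S p')⁻¹ * (R⁻¹ * Lv S Q * R) * Lv S p' * u) * (Lv S Q)⁻¹) by group, ← map_inv (Lv S) Q,
    ← map_mul, map_inv]
  exact h _ (Lv_conj S (Or.inl rfl) Q (mul_mem (Lv_conj' S (Or.inl rfl) _ hR) hu))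

/-- Moving an element of the Levi subgroup around a representative commuting with it. -/
theorem cov_twist {R : GL₄} {Q p' : Kˣ × SL₂} (hR : Commute R (Lv S Q))
    (h : ∀ u ∈ Upos (K := K) m, Cov P (R * Lv S (Q * p' * Q⁻¹) * u)) {u : GL₄}
    (hu : u ∈ Upos (K := K) m) : Cov P (R * Lv S p' * u) := by
  refine cov_conj P (Lv_mem S Q) ?_
  rw [show Lv S Q * (R * Lv S p' * u) * (Lv S Q)⁻¹ = (Lv S Q * R) * (Lv S p' * (Lv S Q)⁻¹) *
      (Lv S Q * u * (Lv S Q)⁻¹) by group, ← hR.eq, mul_assoc R, ← mul_assoc (Lv S Q), ← map_inv (Lv S) Q,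
    ← map_mul, ← map_mul, map_inv]
  exact h _ (Lv_conj S (Or.inl rfl) Q hu)

/-- Cells with a free first coordinate and a free upper parameter. -/
theorem cell_of {R : GL₄} (hup : ∀ e : K, R⁻¹ * Lv S (1, upS e) * R ∈ Upos (K := K) m)
    (hX : ∀ T : Kˣ, ∃ A, Big S R T A) (p' : Kˣ × SL₂) {u : GL₄} (hu : u ∈ Upos (K := K) m) :
    Cov P (R * Lv S p' * u) := by
  obtain ⟨A, hB⟩ := hX (P.z * P.z * p'.1⁻¹)
  obtain ⟨e, he⟩ := shape_up (d := (1 : K)) one_ne_zero (M := (A * p'.2).1) (by rw [(A * p'.2).2, mul_one])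
  refine cov_right P (Q := ((1 : Kˣ), upS e)⁻¹) ?_ (fun u₁ hu₁ => ?_) hu
  · rw [map_inv, show R⁻¹ * (Lv S (1, upS e))⁻¹ * R = (R⁻¹ * Lv S (1, upS e) * R)⁻¹ by group]
    exact inv_mem (hup e)
  rw [inv_inv]
  refine reach P hB hu₁ ?_ ?_
  · show P.z * P.z * p'.1⁻¹ * (p'.1 * 1) = _
    rw [mul_one, inv_mul_cancel_right]
  · show GoodS (1 : K) (A * (p'.2 * upS e)).1
    rw [← mul_assoc]
    exact he

end Cfsg.Agent.Small.FFourTwistThompson
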