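import Cfsg.Agent.Lib.Small.FFourTwistThompson.Cells
import Cfsg.Agent.Lib.Lie.TwistF4S

/-!
Every non-trivial element of ²F₄(q), q ≥ 8, is a product of two conjugates of a semisimple element of odd
order.
-/

set_option autoImplicit false
set_option maxRecDepth 4000
set_option linter.unusedSectionVars false

namespace Cfsg.Agent.Small.FFourTwistThompson

open Cfsg.Lie Cfsg.Agent.Lie Cfsg.Agent.Small.C2Inv.F4
open Cfsg.Agent.Lie.F4 (Setup Os ws okPi_ws)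
open Cfsg.Agent.Lie.TwistMult.F4 (n0_sq qW qW_eq xW rank_one nw_B mem_Hsub)
open scoped MatrixGroups

variable {K : Type*} [Field K] [Fintype K] [CharP K 2] {m : ℕ} (S : Setup K m)

local notation "GL₄" => GL chevF4.Idx K

theorem orb_split (k : ℕ) (w : List ℕ) : orbWord chevF4 Os (k :: w) =
    orbWord chevF4 Os [k] ++ orbWord chevF4 Os w := by
  simp [orbWord]

include S in
theorem nO1_sq : (nO 1 : GL₄) * nO 1 ∈ (factsF4.tsys K).H := mem_Hsub.1 (n0_sq S)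

include S in
theorem cores : ∀ w ∈ [[1], [1, 0, 1], [1, 0, 1, 0, 1], [1, 0, 1, 0, 1, 0, 1]],
    ∃ R, (R = R1 ∨ R = R2 ∨ R = R3 ∨ R = R4) ∧ ∃ h ∈ Psub S,
      (factsF4.tsys K).nw (orbWord chevF4 Os w) = R * h := by
  have hb : (nO 1 : GL₄) ∈ twistedF4 K (2 ^ m) := nO_mem S (by norm_num)
  have ha : (nO 0 : GL₄) ∈ twistedF4 K (2 ^ m) := nO_mem S (by norm_num)
  have hbb := H_P S (nO1_sq S) (mul_mem hb hb)
  have e0 : (factsF4.tsys K).nw (orbWord chevF4 Os []) = 1 := TorusSys.nw_nil _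
  have ev : ∀ (k : ℕ) (w : List ℕ), (factsF4.tsys K).nw (orbWord chevF4 Os (k :: w)) =
      nO k * (factsF4.tsys K).nw (orbWord chevF4 Os w) := fun k w => by
    rw [orb_split, TorusSys.nw_append]; rfl
  intro w hw
  simp only [List.mem_cons, List.not_mem_nil, or_false] at hw
  rcases hw with rfl | rfl | rfl | rfl <;> simp only [ev, e0, mul_one]
  · exact ⟨_, Or.inl rfl, 1, one_mem _, (mul_one _).symm⟩
  · exact ⟨_, Or.inr (Or.inl rfl), _, hbb, by rw [R2]; group⟩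
  · exact ⟨_, Or.inr (Or.inr (Or.inl rfl)), _, hbb, by rw [R3, g3, _root_.mul_inv_rev, nO0_inv S]; group⟩
  · refine ⟨_, Or.inr (Or.inr (Or.inr rfl)),
      (nO 1 * (nO 0 * (nO 1 * nO 1) * (nO 0)⁻¹) * (nO 1)⁻¹) * (nO 1 * nO 1), ?_, ?_⟩
    · refine mul_mem (H_P S ?_ ?_) hbb
      · exact (factsF4.tsys K).nw_H _ ((factsF4.tsys K).nw_H _ (nO1_sq S))
      · exact mul_mem (mul_mem hb (mul_mem (mul_mem ha (mul_mem hb hb)) (inv_mem ha))) (inv_mem hb)
    · have e : (nO 1 * (nO 0 * (nO 1 * nO 1) * (nO 0)⁻¹) * (nO 1)⁻¹) * (nO 1 * nO 1) = g4 * (g4 : GL₄) := by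
        rw [nO0_inv S, g4]; group
      rw [e, show (R4 : GL₄) * (g4 * g4) = g4 * nO 0 * g4 by rw [R4]; group, g4]
      simp only [mul_assoc]

theorem ws_tab : ∀ i : Fin ws.length, ws.get i = [] ∨ ws.get i = [0] ∨
    ∃ w ∈ [[1], [1, 0, 1], [1, 0, 1, 0, 1], [1, 0, 1, 0, 1, 0, 1]],
      ∃ l ∈ [([] : List ℕ), [0]], ∃ r ∈ [([] : List ℕ), [0]], ws.get i = l ++ (w ++ r) := by
  decide +kernel

/-- The decomposition into double cosets of the parabolic subgroup. -/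
theorem cells {g : GL₄} (hg : g ∈ twistedF4 K (2 ^ m)) : ∃ R, (R = 1 ∨ R = R1 ∨ R = R2 ∨ R = R3 ∨ R = R4) ∧
    ∃ l ∈ Psub S, ∃ r ∈ Psub S, g = l * R * r := by
  obtain ⟨w, hw, u, hu, huG, a, ha, haG, v, hv, hvG, he⟩ := S.data.decomp (g := g) hg
  obtain ⟨b, hb⟩ : ∃ b : Fin ws.length, factsF4.refSys.pr (orbWord chevF4 Os (ws.get b)) = w := by
    obtain ⟨b, hb⟩ := (S.data.piMap_bij okPi_ws).2 ⟨w, hw⟩
    exact ⟨b, congrArg Subtype.val hb⟩
  obtain ⟨c, hc, hce⟩ := (factsF4.tsys K).nw_eq (ω := orbWord chevF4 Os (ws.get b)) (w := w) hb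
  have happ : ∀ l r : List ℕ, (factsF4.tsys K).nw (orbWord chevF4 Os (l ++ r)) =
      (factsF4.tsys K).nw (orbWord chevF4 Os l) * (factsF4.tsys K).nw (orbWord chevF4 Os r) := fun l r => by
    rw [← TorusSys.nw_append]; simp [orbWord]
  have h01 : ∀ l ∈ [([] : List ℕ), [0]], (factsF4.tsys K).nw (orbWord chevF4 Os l) ∈ Psub S := by
    intro l hl
    simp only [List.mem_cons, List.not_mem_nil, or_false] at hl
    rcases hl with rfl | rfl
    · rw [show orbWord chevF4 Os [] = [] from rfl, TorusSys.nw_nil]; exact one_mem _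
    · have := Lv_P S ((1 : Kˣ), antS)
      rwa [Lv_one, ← nO0_eq S] at this
  obtain ⟨R, hR, l, hl, r, hr, hn⟩ : ∃ R, (R = 1 ∨ R = R1 ∨ R = R2 ∨ R = R3 ∨ R = R4) ∧
      ∃ l ∈ Psub S, ∃ r ∈ Psub S, (factsF4.tsys K).nw (orbWord chevF4 Os (ws.get b)) = l * R * r := by
    rcases ws_tab b with h | h | ⟨w', hw', l, hl, r, hr, h⟩
    · exact ⟨1, Or.inl rfl, _, h01 [] (by simp), 1, one_mem _, by rw [h, mul_one, mul_one]⟩
    · exact ⟨1, Or.inl rfl, _, h01 [0] (by simp), 1, one_mem _, by rw [h, mul_one, mul_one]⟩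
    · obtain ⟨R, hR, hh, hhP, e⟩ := cores S w' hw'
      exact ⟨R, Or.inr hR, _, h01 l hl, hh * _, mul_mem hhP (h01 r hr), by
        rw [h, happ, happ, e]; simp only [mul_assoc]⟩
  have hnG : (factsF4.tsys K).nw (orbWord chevF4 Os (ws.get b)) ∈ twistedF4 K (2 ^ m) := by
    have hR' : R ∈ twistedF4 K (2 ^ m) := by
      obtain ⟨r1, r2, r3, r4⟩ := R_mem S
      rcases hR with rfl | rfl | rfl | rfl | rfl
      exacts [one_mem _, r1, r2, r3, r4]
    rw [hn]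
    exact mul_mem (mul_mem (P_le S hl) hR') (P_le S hr)
  have hac : a * (factsF4.tsys K).nW w * ((factsF4.tsys K).nw (orbWord chevF4 Os (ws.get b)))⁻¹ = a * c⁻¹ := by
    rw [hce]; group
  have hacP : a * c⁻¹ ∈ Psub S :=
    H_P S (mul_mem ha (inv_mem hc)) (hac ▸ mul_mem haG (inv_mem hnG))
  have hv' : v ∈ (factsF4.tsys K).U :=
    CommSys.US_mono _ (fun r hr => Facts.mem_posL.2 ((TorusSys.closed_invList w).mem_pos r hr)) hv
  refine ⟨R, hR, u * (a * c⁻¹) * l, mul_mem (mul_mem (U_P S hu huG) hacP) hl, r * v,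
    mul_mem hr (U_P S hv' hvG), ?_⟩
  rw [he, show a * (factsF4.tsys K).nW w = a * c⁻¹ * (factsF4.tsys K).nw (orbWord chevF4 Os (ws.get b)) by
    rw [hce]; group, hn]
  group

theorem key_B : wKey chevF4 ((orbWord chevF4 Os [1]).map Fin.val) ≠ wKey chevF4 [] := by decide +kernel

theorem nB_notMem : (nO 1 : GL₄) ∉ Psub S := by
  rintro ⟨p, u, hu, he⟩
  have hn : (nO 1 : GL₄) ∈ nrmz (K := K) posR := by
    rw [he]
    exact mul_mem (Lv_nrmz S (Or.inl rfl) p) (Subgroup.le_normalizer hu.1)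
  have hU : (factsF4.tsys K).US posR ≤ (factsF4.tsys K).U :=
    CommSys.US_mono _ fun r hr => Facts.mem_posL.2 (rad_tab.1 r hr)
  have hxU : ∀ a v : K, (xW S a v : GL₄) ∈ (factsF4.tsys K).US posR := fun a v =>
    CommSys.US_mono _ (fun r hr => (cell_tab.2.2.2.2.2.2.2.2.2.1 r hr).2.1) (S.w4F_mem_US a v)
  have hq : (qW S 0 1 : GL₄) ∈ (factsF4.tsys K).US posR := by
    rw [qW_eq]
    exact (Subgroup.mem_normalizer_iff.1 hn _).1 (hxU 0 1)
  obtain ⟨p', r', h0, hh0, e⟩ := rank_one S (qW_ne S)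
  have e' : (nO 1 : GL₄) = ((xW S p'.1 p'.2 : GL₄) * (h0 : GL₄))⁻¹ * (qW S 0 1 : GL₄) *
      ((xW S r'.1 r'.2 : GL₄))⁻¹ := by
    rw [show (qW S 0 1 : GL₄) = (xW S p'.1 p'.2 : GL₄) * (h0 : GL₄) * nO 1 * (xW S r'.1 r'.2 : GL₄) from
      congrArg Subtype.val e]
    group
  have hB : (nO 1 : GL₄) ∈ (factsF4.tsys K).B := by
    rw [e']
    exact mul_mem (mul_mem (inv_mem (mul_mem ((factsF4.tsys K).U_le_B (hU (hxU _ _)))
      ((factsF4.tsys K).H_le_B (mem_Hsub.1 hh0)))) ((factsF4.tsys K).U_le_B (hU hq)))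
      (inv_mem ((factsF4.tsys K).U_le_B (hU (hxU _ _))))
  exact key_B (nw_B hB)

theorem exists_moved (hm : 1 ≤ m) {g : GL₄} (hg : g ∈ twistedF4 K (2 ^ m)) (h1 : g ≠ 1) :
    ∃ z ∈ twistedF4 K (2 ^ m), z * g * z⁻¹ ∉ Psub S := by
  by_contra h
  simp only [not_exists, not_and, not_not] at h
  have hsimp := (S.simple hm).1
  let N : Subgroup ↥(twistedF4 K (2 ^ m)) := Subgroup.normalClosure {⟨g, hg⟩}
  have hle : N ≤ (Psub S).subgroupOf (twistedF4 K (2 ^ m)) := by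
    refine (Subgroup.closure_le _).2 fun x hx => ?_
    rw [Group.mem_conjugatesOfSet_iff] at hx
    obtain ⟨a, ha, hc⟩ := hx
    rw [Set.mem_singleton_iff] at ha
    subst ha
    obtain ⟨c, rfl⟩ := isConj_iff.1 hc
    exact h c.1 c.2
  have hmem : (⟨g, hg⟩ : ↥(twistedF4 K (2 ^ m))) ∈ N := Subgroup.subset_normalClosure (Set.mem_singleton _)
  rcases IsSimpleGroup.eq_bot_or_eq_top_of_normal N Subgroup.normalClosure_normal with hN | hN
  · rw [hN, Subgroup.mem_bot] at hmem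
    exact h1 (congrArg Subtype.val hmem)
  · refine nB_notMem S ?_
    exact hle (hN ▸ Subgroup.mem_top (⟨nO 1, nO_mem S (by norm_num)⟩ : ↥(twistedF4 K (2 ^ m))))

/-- Every non-trivial element is covered. -/
theorem cov_all (P : Par S) (hm : 1 ≤ m) {g : GL₄} (hg : g ∈ twistedF4 K (2 ^ m)) (h1 : g ≠ 1) : Cov P g := by
  obtain ⟨z, hz, hzP⟩ := exists_moved S hm hg h1
  refine cov_conj P hz ?_
  obtain ⟨R, hR, l, hl, r, hr, he⟩ := cells S (mul_mem (mul_mem hz hg) (inv_mem hz))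
  rcases hR with rfl | hR
  · exact absurd (he ▸ mul_mem (mul_mem hl (one_mem _)) hr) hzP
  obtain ⟨p, u, hu, hrl⟩ := mul_mem hr hl
  have e : l⁻¹ * (z * g * z⁻¹) * l⁻¹⁻¹ = R * Lv S p * u := by
    rw [he, inv_inv, mul_assoc R, ← hrl]; group
  refine cov_conj P (inv_mem (P_le S hl)) ?_
  rw [e]
  rcases hR with rfl | rfl | rfl | rfl
  · exact cell1 P p hu
  · exact cell2 P p hu
  · exact cell3 P p hu
  · exact cell4 P p hu

include S in
/-- The main statement for large fields. -/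
theorem exists_cover (hm : 1 ≤ m) :
    ∃ x : ↥(twistedF4 K (2 ^ m)), Odd (orderOf x) ∧ ∀ g : ↥(twistedF4 K (2 ^ m)), g ≠ 1 →
      ∃ u v : ↥(twistedF4 K (2 ^ m)), g = u * x * u⁻¹ * (v * x * v⁻¹) := by
  have hcard : Fintype.card K = 2 ^ (2 * m + 1) := by rw [← Nat.card_eq_fintype_card, S.hK]
  obtain ⟨τ, hτ⟩ := exists_tau (F := K) (by
    rw [hcard]
    have : 2 ^ 3 ≤ 2 ^ (2 * m + 1) := Nat.pow_le_pow_right (by norm_num) (by omega)
    omega)
  obtain ⟨z, hz⟩ := S.exists_unit hm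
  obtain ⟨A, hA⟩ : ∃ A : Matrix.SpecialLinearGroup (Fin 2) K, A.1 = SpFourThompson.comp2 τ 1 :=
    ⟨⟨_, (SpFourThompson.comp2_inC τ 1).2⟩, rfl⟩
  have hAC : SpFourThompson.InC τ 1 A.1 := by rw [hA]; exact SpFourThompson.comp2_inC τ 1
  obtain ⟨P, hP⟩ : ∃ P : Par S, P = ⟨z, hz, τ, hτ, A, hAC⟩ := ⟨_, rfl⟩
  refine ⟨⟨P.x, Lv_mem S _⟩, ?_, fun g hg => ?_⟩
  · have hpow : (⟨P.x, Lv_mem S _⟩ : ↥(twistedF4 K (2 ^ m))) ^
        ((2 ^ (2 * m + 1) - 1) * (2 ^ (2 * m + 1) + 1)) = 1 := by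
      refine Subtype.ext ?_
      show Lv S (P.z, P.A) ^ _ = 1
      have hz1 : P.z ^ (2 ^ (2 * m + 1) - 1) = 1 := by
        rw [← S.hK, ← Nat.card_units]; exact pow_card_eq_one'
      rw [← map_pow, Prod.pow_mk, pow_mul, hz1, one_pow, mul_comm, pow_mul, pow_q1 P.ell hcard P.hA, one_pow]
      exact map_one (Lv S)
    refine Odd.of_dvd_nat ?_ (orderOf_dvd_of_pow_eq_one hpow)
    have h2 : 2 ∣ 2 ^ (2 * m + 1) := dvd_pow_self 2 (by omega)
    have h1 := Nat.one_le_two_pow (n := 2 * m + 1)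
    exact Odd.mul (Nat.odd_iff.2 (by omega)) (Nat.odd_iff.2 (by omega))
  · obtain ⟨u, hu, v, hv, e⟩ := cov_all S P hm g.2 (fun h => hg (Subtype.ext h))
    exact ⟨⟨u, hu⟩, ⟨v, hv⟩, Subtype.ext e⟩

end Cfsg.Agent.Small.FFourTwistThompson
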