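import Cfsg.Agent.Lib.Small.FFourTwistThompson.Torus

/-!
The maximal parabolic subgroup of ²F₄(q) with Levi factor K* × SL₂(q).
-/

set_option autoImplicit false
set_option maxRecDepth 4000
set_option linter.unusedSectionVars false

namespace Cfsg.Agent.Small.FFourTwistThompson

open Cfsg.Lie Cfsg.Agent.Lie Cfsg.Agent.Small.C2Inv.F4
open Cfsg.Agent.Lie.F4 (Setup Os torChar_eval)
open Cfsg.Agent.Lie.F4.Setup (cP)
open Cfsg.Agent.Lie.TwistMult.F4 (phP phP_up phP_lo phA phA_dg coe_phA_ant ωA ωA_tab)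
open Cfsg.Agent.Lie.TwistMult.D4 (dgS)
open Cfsg.Agent.Small.AltSec.D4 (mem_of_gens)
open scoped MatrixGroups

/-- The roots of the radical. -/
def posR : List ℕ := ((List.range 24).map (24 + ·)).filter fun r => r != 24 && r != 33

/-- The roots of the opposite radical. -/
def negR : List ℕ := ((List.range 24).filter fun r => r != 23 && r != 14).reverse

/-- The image of a root under the kth reflection. -/
def piO (k r : ℕ) : ℕ := actL (orbWord chevF4 Os [k]) r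

theorem rad_tab : (∀ s ∈ posR, 24 ≤ s ∧ s < 48) ∧ (∀ s ∈ negR, s < 24) ∧
    (∀ r ∈ [24, 33, 23, 14], ∀ s ∈ posR, s ≠ chevF4.neg r ∧ (s ≠ r → ∀ c ∈ chevF4.commTerms r s, c.1 ∈ posR)) ∧
    (∀ r ∈ [24, 33, 23, 14], ∀ s ∈ negR, s ≠ chevF4.neg r ∧ (s ≠ r → ∀ c ∈ chevF4.commTerms r s, c.1 ∈ negR)) := by
  decide +kernel

theorem closed_posR : ClosedList chevF4 posR := by
  refine ⟨?_, ?_, ?_⟩ <;> decide +kernel

theorem negList_negR : NegList chevF4 negR := by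
  refine ⟨?_, ?_, ?_⟩ <;> decide +kernel

variable {K : Type*} [Field K] [Fintype K] [CharP K 2] {m : ℕ} (S : Setup K m)

local notation "GL₄" => GL chevF4.Idx K
local notation "SL₂" => Matrix.SpecialLinearGroup (Fin 2) K

/-- The torus centralising the rank one subgroup. -/
noncomputable def zz (m : ℕ) : Kˣ →* GL chevF4.Idx K := (tt m).comp ((MonoidHom.id Kˣ).prod (powMonoidHom 2))

omit [Fintype K] [CharP K 2] in
theorem zz_apply (t : Kˣ) : zz (K := K) m t = tt m (t, t ^ 2) := rfl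

include S in
theorem phP_mem (A : SL₂) : phP S A ∈ twistedF4 K (2 ^ m) := (phA S A).2

theorem pair_w : wList chevF4 24 = [0, 0, -1, 2] ∧ wList chevF4 33 = [2, -1, 0, 0] ∧
    wList chevF4 23 = [0, 0, 1, -2] ∧ wList chevF4 14 = [-2, 1, 0, 0] := by decide +kernel

omit [Fintype K] [CharP K 2] in
theorem zz_fix (t : Kˣ) {r : ℕ} (hr : r ∈ [24, 33, 23, 14]) (x : K) :
    Commute (zz m t) (factsF4.xg r x) := by
  have hlt : r < 48 := by simp at hr; omega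
  have h := factsF4.torus_conj (F := K) (vec (t ^ 2 ^ m) ((t ^ 2) ^ 2 ^ m) (t ^ 2) t) hlt x
  have hχ : torChar chevF4 (vec (t ^ 2 ^ m) ((t ^ 2) ^ 2 ^ m) (t ^ 2) t) r = 1 := by
    obtain ⟨w1, w2, w3, w4⟩ := pair_w
    simp only [List.mem_cons, List.not_mem_nil, or_false] at hr
    have e : (t ^ 2) ^ 2 ^ m = (t ^ 2 ^ m) ^ 2 := by rw [← pow_mul, ← pow_mul, mul_comm]
    rcases hr with rfl | rfl | rfl | rfl
    · rw [torChar_vec _ _ _ _ hlt w1]
      apply Additive.ofMul.injective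
      simp
    · rw [torChar_vec _ _ _ _ hlt w2, e]
      apply Additive.ofMul.injective
      simp
    · rw [torChar_vec _ _ _ _ hlt w3]
      apply Additive.ofMul.injective
      simp
    · rw [torChar_vec _ _ _ _ hlt w4, e]
      apply Additive.ofMul.injective
      simp
  rw [hχ, Units.val_one, one_mul] at h
  exact mul_inv_eq_iff_eq_mul.1 h

include S in
theorem phP_gens {X : Subgroup GL₄} (h : ∀ r ∈ [24, 33, 23, 14], ∀ x : K, factsF4.xg r x ∈ X) (A : SL₂) :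
    phP S A ∈ X := by
  refine mem_of_gens (phP S) (fun t => ?_) (fun t => ?_) A
  · rw [phP_up]
    simp only [CommSys.prodOver, List.map_cons, List.map_nil, List.prod_cons, List.prod_nil, mul_one, Facts.sys_x]
    exact mul_mem (h 33 (by simp) _) (h 24 (by simp) _)
  · rw [phP_lo]
    simp only [CommSys.prodOver, List.map_cons, List.map_nil, List.prod_cons, List.prod_nil, mul_one, Facts.sys_x]
    exact mul_mem (h 14 (by simp) _) (h 23 (by simp) _)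

theorem zz_comm (t : Kˣ) (A : SL₂) : Commute (zz m t) (phP S A) := by
  have := phP_gens S (X := Subgroup.centralizer {zz (K := K) m t})
    (fun r hr x => Subgroup.mem_centralizer_singleton_iff.2 (zz_fix (m := m) t hr x).symm.eq) A
  exact (Subgroup.mem_centralizer_singleton_iff.1 this).symm

/-- The parametrisation of the Levi factor. -/
noncomputable def Lv : Kˣ × SL₂ →* GL chevF4.Idx K :=
  (zz m).noncommCoprod (phP S) fun t A => zz_comm S t A

theorem Lv_apply (t : Kˣ) (A : SL₂) : Lv S (t, A) = zz m t * phP S A := rfl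

theorem Lv_mem (p : Kˣ × SL₂) : Lv S p ∈ twistedF4 K (2 ^ m) :=
  mul_mem (tt_mem S _) (phP_mem S p.2)

theorem Lv_one (A : SL₂) : Lv S (1, A) = phP S A := by rw [Lv_apply, map_one, one_mul]

theorem phP_dg (e : Kˣ) : phP S (dgS e) = tt m (e, 1) :=
  congrArg Subtype.val (phA_dg S e)

theorem Lv_dg (t e : Kˣ) : Lv S (t, dgS e) = tt m (t * e, t ^ 2) := by
  rw [Lv_apply, phP_dg, zz_apply, ← map_mul, Prod.mk_mul_mk, mul_one]

/-- The torus lies in the Levi factor. -/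
theorem tt_Lv {T : Kˣ} {t u : Kˣ} (h : T ^ 2 = u) : tt m (t, u) = Lv S (T, dgS (t * T⁻¹)) := by
  rw [Lv_dg, h, mul_comm t, mul_inv_cancel_left]

theorem exists_Lv {g : GL₄} (hg : g ∈ (factsF4.tsys K).H) (hG : g ∈ twistedF4 K (2 ^ m)) :
    ∃ p, g = Lv S p := by
  obtain ⟨⟨t, u⟩, rfl⟩ := exists_tt S hg hG
  obtain ⟨T, hT⟩ := sq_surj S u
  exact ⟨_, tt_Lv S hT⟩

theorem nO0_eq : nO (K := K) 0 = phP S antS := by
  rw [← show (phA S antS : GL₄) = phP S antS from rfl, coe_phA_ant, nO, ωA_tab.1]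

/-! ### Permuting the root subgroups -/

/-- Permuting the root subgroups. -/
def Mono (g : GL₄) (π : ℕ → ℕ) : Prop :=
  ∀ r < 48, π r < 48 ∧ ∀ t : K, g * factsF4.xg r t * g⁻¹ = factsF4.xg (π r) t

omit [Fintype K] [CharP K 2] in
theorem Mono.mul {g h : GL₄} {π π' : ℕ → ℕ} (hg : Mono g π) (hh : Mono h π') :
    Mono (g * h) fun r => π (π' r) := by
  intro r hr
  obtain ⟨h1, h2⟩ := hh r hr
  obtain ⟨g1, g2⟩ := hg _ h1
  refine ⟨g1, fun t => ?_⟩
  rw [show g * h * factsF4.xg r t * (g * h)⁻¹ = g * (h * factsF4.xg r t * h⁻¹) * g⁻¹ by group, h2, g2]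

omit [Fintype K] [CharP K 2] in
theorem Mono.inv {g : GL₄} {π π' : ℕ → ℕ} (hg : Mono g π) (h : ∀ r < 48, π' r < 48 ∧ π (π' r) = r) :
    Mono g⁻¹ π' := by
  intro r hr
  obtain ⟨h1, h2⟩ := h r hr
  refine ⟨h1, fun t => ?_⟩
  have e := (hg _ h1).2 t
  rw [h2] at e
  rw [← e, inv_inv]
  group

omit [Fintype K] [CharP K 2] in
theorem Mono.conj_US {g : GL₄} {π : ℕ → ℕ} (hg : Mono g π) {L L' : List ℕ} (h : ∀ r ∈ L, r < 48 ∧ π r ∈ L')
    {z : GL₄} (hz : z ∈ (factsF4.tsys K).US L) : g * z * g⁻¹ ∈ (factsF4.tsys K).US L' := by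
  have : (factsF4.tsys K).US L ≤ ((factsF4.tsys K).US L').comap (MulAut.conj g).toMonoidHom := by
    refine CommSys.US_le _ fun r hr t => ?_
    show g * (factsF4.tsys K).x r t * g⁻¹ ∈ (factsF4.tsys K).US L'
    rw [factsF4.tsys_x, (hg r (h r hr).1).2 t, ← factsF4.tsys_x]
    exact CommSys.x_mem_US _ (h r hr).2 _
  exact this hz

omit [Fintype K] in
theorem mono_O (k : ℕ) : Mono (nO (K := K) k) (piO k) :=
  fun _ hr => ⟨actL_lt _ hr, fun t => nw_X _ hr t⟩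

theorem piO_invol : ∀ k < 2, ∀ r < 48, piO k r < 48 ∧ piO k (piO k r) = r := by decide +kernel

/-! ### The radicals -/

omit [Fintype K] [CharP K 2] in
/-- The normaliser of a root subgroup product. -/
def nrmz (L : List ℕ) : Subgroup (GL chevF4.Idx K) :=
  Subgroup.normalizer (((factsF4.tsys K).US L) : Set (GL chevF4.Idx K))

/-- The radical. -/
noncomputable def Upos (m : ℕ) : Subgroup (GL chevF4.Idx K) :=
  (factsF4.tsys K).US posR ⊓ twistedF4 K (2 ^ m)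

/-- The opposite radical. -/
noncomputable def Uneg (m : ℕ) : Subgroup (GL chevF4.Idx K) :=
  (factsF4.tsys K).US negR ⊓ twistedF4 K (2 ^ m)

omit [Fintype K] [CharP K 2] in
theorem H_le_nrmz {L : List ℕ} (hL : ∀ r ∈ L, r < 48) {g : GL₄} (hg : g ∈ (factsF4.tsys K).H) :
    g ∈ nrmz L := by
  rw [nrmz, Subgroup.mem_normalizer_iff]
  refine fun u => ⟨fun hu => (factsF4.tsys K).H_conj_US hg hL hu, fun hu => ?_⟩
  have h := (factsF4.tsys K).H_conj_US (inv_mem hg) hL hu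
  rwa [show g⁻¹ * (g * u * g⁻¹) * g⁻¹⁻¹ = u by group] at h

theorem Lv_nrmz {L : List ℕ} (hL : L = posR ∨ L = negR) (p : Kˣ × SL₂) : Lv S p ∈ nrmz (K := K) L := by
  obtain ⟨h1, h2, h3, h4⟩ := rad_tab
  have hlt : ∀ r ∈ L, r < 48 := by
    rcases hL with rfl | rfl
    · exact fun r hr => (h1 r hr).2
    · exact fun r hr => (h2 r hr).trans (by norm_num)
  refine mul_mem (H_le_nrmz hlt (tt_H _)) (phP_gens S (fun r hr t => ?_) _)
  rw [← factsF4.tsys_x]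
  refine CommSys.x_normalizes _ (show r < 48 by simp at hr; omega) (fun s hs => ⟨hlt s hs, ?_⟩) t
  rcases hL with rfl | rfl
  · exact h3 r hr s hs
  · exact h4 r hr s hs

theorem Lv_conj {L : List ℕ} (hL : L = posR ∨ L = negR) (p : Kˣ × SL₂) {z : GL₄}
    (hz : z ∈ (factsF4.tsys K).US L ⊓ twistedF4 K (2 ^ m)) :
    Lv S p * z * (Lv S p)⁻¹ ∈ (factsF4.tsys K).US L ⊓ twistedF4 K (2 ^ m) :=
  Subgroup.mem_inf.2 ⟨(Subgroup.mem_normalizer_iff.1 (Lv_nrmz S hL p) z).1 hz.1,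
    mul_mem (mul_mem (Lv_mem S p) hz.2) (inv_mem (Lv_mem S p))⟩

theorem Lv_conj' {L : List ℕ} (hL : L = posR ∨ L = negR) (p : Kˣ × SL₂) {z : GL₄}
    (hz : z ∈ (factsF4.tsys K).US L ⊓ twistedF4 K (2 ^ m)) :
    (Lv S p)⁻¹ * z * Lv S p ∈ (factsF4.tsys K).US L ⊓ twistedF4 K (2 ^ m) := by
  have := Lv_conj S hL p⁻¹ hz
  rwa [map_inv, inv_inv] at this

theorem tail_tab : ∀ d ∈ [2, 4, 6], (sE d).1 ∈ posR ∧ (sE d).2 ∈ posR := by decide +kernel

theorem tail_tabO : ∀ d ∈ [1, 3, 5, 7], (sO d).1 ∈ posR ∧ (sO d).2.1 ∈ posR ∧ (sO d).2.2.1 ∈ posR ∧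
    (sO d).2.2.2 ∈ posR := by decide +kernel

omit [Fintype K] in
theorem E_US {d : ℕ} {L : List ℕ} (h : (sE d).1 ∈ L ∧ (sE d).2 ∈ L) (s : K) :
    E m d s ∈ (factsF4.tsys K).US L :=
  mul_mem (CommSys.x_mem_US _ h.1 _) (CommSys.x_mem_US _ h.2 _)

omit [Fintype K] in
theorem O_US {d : ℕ} (h : (sO d).1 ∈ posR ∧ (sO d).2.1 ∈ posR ∧ (sO d).2.2.1 ∈ posR ∧ (sO d).2.2.2 ∈ posR)
    (s u : K) : O m d s u ∈ (factsF4.tsys K).US posR :=
  mul_mem (mul_mem (mul_mem (CommSys.x_mem_US _ h.1 _) (CommSys.x_mem_US _ h.2.1 _))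
    (CommSys.x_mem_US _ h.2.2.1 _)) (CommSys.x_mem_US _ h.2.2.2 _)

include S in
theorem E0_eq (s : K) : E m 0 s = phP S (upS (ph m s)) := by
  rw [phP_up]
  simp [E, sE, X, CommSys.prodOver, Facts.sys_x, cP, ph, (S.pow_twist s).2]

include S in
/-- Splitting the root subgroup of the pair off the unipotent subgroup. -/
theorem split_pos {z : GL₄} (hz : z ∈ (factsF4.tsys K).U) (hG : z ∈ twistedF4 K (2 ^ m)) :
    ∃ e : K, ∃ u ∈ Upos (K := K) m, z = Lv S (1, upS e) * u := by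
  obtain ⟨l, -, rfl⟩ := exists_El S hz (S.le_fix hG)
  obtain ⟨w, hw⟩ : ∃ w, w = O m 7 (l.getD 10 0) (l.getD 11 0) * E m 6 (l.getD 9 0) *
      O m 5 (l.getD 7 0) (l.getD 8 0) * E m 4 (l.getD 6 0) * O m 3 (l.getD 4 0) (l.getD 5 0) *
      E m 2 (l.getD 3 0) * O m 1 (l.getD 1 0) (l.getD 2 0) := ⟨_, rfl⟩
  have hwP : w ∈ Upos (K := K) m := by
    have hE : ∀ d ∈ [2, 4, 6], ∀ s : K, E m d s ∈ Upos (K := K) m := fun d hd s =>
      Subgroup.mem_inf.2 ⟨E_US (tail_tab d hd) s, (E_mem S d s).2⟩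
    have hO : ∀ d ∈ [1, 3, 5, 7], ∀ s u : K, O m d s u ∈ Upos (K := K) m := fun d hd s u =>
      Subgroup.mem_inf.2 ⟨O_US (tail_tabO d hd) s u, (O_mem S d s u).2⟩
    rw [hw]
    exact mul_mem (mul_mem (mul_mem (mul_mem (mul_mem (mul_mem (hO 7 (by simp) _ _) (hE 6 (by simp) _))
      (hO 5 (by simp) _ _)) (hE 4 (by simp) _)) (hO 3 (by simp) _ _)) (hE 2 (by simp) _)) (hO 1 (by simp) _ _)
  refine ⟨ph m (l.getD 0 0), _, Lv_conj' S (Or.inl rfl) ((1 : Kˣ), upS (ph m (l.getD 0 0))) hwP, ?_⟩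
  rw [Lv_one, ← E0_eq S, El, ← hw]
  group

/-- The parabolic subgroup. -/
def Psub : Subgroup (GL chevF4.Idx K) where
  carrier := {g | ∃ p, ∃ u ∈ Upos (K := K) m, g = Lv S p * u}
  one_mem' := ⟨1, 1, one_mem _, by rw [map_one, one_mul]⟩
  mul_mem' := by
    rintro _ _ ⟨p, u, hu, rfl⟩ ⟨p', u', hu', rfl⟩
    exact ⟨p * p', (Lv S p')⁻¹ * u * Lv S p' * u', mul_mem (Lv_conj' S (Or.inl rfl) p' hu) hu', by
      rw [map_mul]; group⟩
  inv_mem' := by
    rintro _ ⟨p, u, hu, rfl⟩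
    exact ⟨p⁻¹, Lv S p * u⁻¹ * (Lv S p)⁻¹, Lv_conj S (Or.inl rfl) p (inv_mem hu), by rw [map_inv]; group⟩

theorem Lv_P (p : Kˣ × SL₂) : Lv S p ∈ Psub S := ⟨p, 1, one_mem _, by rw [mul_one]⟩

theorem P_le : Psub S ≤ twistedF4 K (2 ^ m) := by
  rintro _ ⟨p, u, hu, rfl⟩
  exact mul_mem (Lv_mem S p) hu.2

theorem H_P {g : GL₄} (hg : g ∈ (factsF4.tsys K).H) (hG : g ∈ twistedF4 K (2 ^ m)) : g ∈ Psub S := by
  obtain ⟨p, rfl⟩ := exists_Lv S hg hG
  exact Lv_P S p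

theorem U_P {g : GL₄} (hg : g ∈ (factsF4.tsys K).U) (hG : g ∈ twistedF4 K (2 ^ m)) : g ∈ Psub S := by
  obtain ⟨e, u, hu, rfl⟩ := split_pos S hg hG
  exact ⟨_, u, hu, rfl⟩

end Cfsg.Agent.Small.FFourTwistThompson
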