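import Cfsg.Agent.Lib.Lie.FixSylow.TitsTables

/-!
Tables for the covering of the Tits group by products of two conjugates of an element of order 13 (generated):
certificates, the two parabolic subgroups and an orbit of 1755 vectors.
-/

set_option autoImplicit false
set_option maxRecDepth 100000
set_option maxHeartbeats 4000000

namespace Cfsg.Agent.Small.FFourTwistThompson.TitsCov

open Cfsg.Agent.Lie

/-- Certificates for the representatives of the classes of the two-group. -/
def certTwo : List (ℕ × List ℕ × List ℕ) := [
    (1, [12, 11, 12, 4, 9, 11, 12, 11, 12, 11, 3, 1], [1, 3, 11, 12, 11, 12, 11, 9, 4, 12, 11, 12, 2, 3, 2, 2, 3, 11, 4, 12, 11, 12, 11, 12, 11, 12, 11, 1, 12, 11, 1, 0]),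
    (2, [1, 12, 11, 12, 11, 12, 11, 12, 9, 4, 1, 9], [9, 1, 4, 9, 12, 11, 12, 11, 12, 11, 12, 1, 1, 12, 11, 12, 11, 12, 11, 4, 9, 0]),
    (3, [9, 11, 12, 11, 1, 12, 11, 12, 1, 12, 2, 0], [0, 2, 12, 1, 12, 11, 12, 1, 11, 12, 11, 9, 12, 0, 4, 9, 1, 0, 11, 2, 12, 11, 12, 11, 1, 12, 11, 9, 4, 1]),
    (5, [12, 4, 9, 11, 1, 12, 11, 12, 1, 9, 2], [2, 9, 1, 12, 11, 12, 1, 11, 9, 4, 12, 1, 11, 3, 12, 4, 1, 0, 0, 11, 12, 11, 12, 11, 1, 12, 11, 12, 11, 9, 4]),
    (7, [12, 11, 12, 1, 12, 9, 11, 12, 11, 12, 9], [9, 12, 11, 12, 11, 9, 12, 1, 12, 11, 12, 4, 9, 11, 1, 12]),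
    (10, [11, 12, 4, 9, 11, 12, 11, 1, 9, 2], [2, 9, 1, 11, 12, 11, 9, 4, 12, 11, 3, 11, 12, 11, 12, 2, 0, 0, 11, 9, 1, 12, 11, 12, 9, 11, 1, 12, 11, 0]),
    (11, [11, 12, 1, 12, 9, 3, 2, 1], [1, 2, 3, 9, 12, 1, 12, 11, 11, 12, 9, 11, 12, 1, 12, 11, 12, 4, 3, 1]),
    (13, [11, 1, 12, 11, 12, 11, 1, 12, 9, 3, 0], [0, 3, 9, 12, 1, 11, 12, 11, 12, 1, 11, 0, 12, 9, 1, 11, 12, 9, 2, 1, 12, 11, 12, 1, 9, 11, 12, 4, 3, 2, 1]),
    (18, [12, 1, 12, 9, 11, 12, 11, 12, 1, 12, 4, 9], [9, 4, 12, 1, 12, 11, 12, 11, 9, 12, 1, 12, 4, 11, 1, 9, 12, 12, 12, 0, 1, 12, 11, 12, 9, 11, 12, 1, 12, 9]),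
    (20, [11, 12, 11, 12, 1, 12, 9, 11, 12, 11, 2, 0], [0, 2, 11, 12, 11, 9, 12, 1, 12, 11, 12, 11, 11, 1, 12, 4, 9, 11, 12, 1, 12, 11, 2]),
    (23, [12, 11, 12, 1, 12, 11, 4], [4, 11, 12, 1, 12, 11, 12, 1, 12, 11, 1, 12, 4, 9, 11]),
    (32, [9, 11, 1, 12, 11, 12, 4, 9, 2, 0], [0, 2, 9, 4, 12, 11, 12, 1, 11, 9, 9, 3, 3, 4, 0, 4, 11, 12, 11, 1, 12, 11, 12, 11, 1, 12, 11, 9, 3]),
    (34, [11, 9, 1, 12, 11, 12, 9, 11, 12, 1, 12, 3], [3, 12, 1, 12, 11, 9, 12, 11, 12, 1, 9, 11, 1, 12, 1, 9, 4, 3, 4, 11, 12, 11, 12, 11, 12, 1, 12, 9, 11, 4, 1, 9]),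
    (36, [9, 11, 12, 11, 12, 1, 12, 11, 12, 9, 0], [0, 9, 12, 11, 12, 1, 12, 11, 12, 11, 9, 11, 12, 1, 12, 9, 11, 12, 1, 12, 3, 0]),
    (54, [12, 9, 11, 12, 1, 12, 9, 11, 1, 12, 9, 4], [4, 9, 12, 1, 11, 9, 12, 1, 12, 11, 9, 12, 1, 12, 11, 12, 9, 11, 12, 9, 11, 3, 2, 0]),
    (60, [12, 11, 12, 11, 12, 11, 12, 1, 9, 11, 2], [2, 11, 9, 1, 12, 11, 12, 11, 12, 11, 12, 12, 0, 2, 12, 11, 0, 9, 11, 12, 11, 12, 11, 12, 1, 12, 11, 12, 11, 9, 3]),
    (85, [12, 9, 1, 12, 9, 11, 12, 11, 12, 9], [9, 12, 11, 12, 11, 9, 12, 1, 9, 12, 11, 1, 12, 1, 12, 2, 11, 3, 1, 9, 11, 12, 1, 12, 11, 12, 11, 12, 1, 9]),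
    (87, [12, 11, 1, 12, 11, 12, 11, 1, 12, 1, 9], [9, 1, 12, 1, 11, 12, 11, 12, 1, 11, 12, 2, 4, 9, 3, 4, 4, 12, 11, 9, 11, 12, 11, 1, 12, 11, 12, 1, 12, 9, 1]),
    (99, [12, 11, 12, 9, 11, 12, 11, 1, 12, 2, 1, 0], [0, 1, 2, 12, 1, 11, 12, 11, 9, 12, 11, 12, 12, 9, 11, 4, 11, 1, 11, 12, 11, 12, 9, 11, 1, 12, 11, 12, 1, 12, 3]),
    (139, [11, 4, 0], [0, 4, 11, 11, 1, 12, 11, 12, 1, 12, 11, 12]),
    (143, [11, 1, 12, 11, 12, 1, 12], [12, 1, 12, 11, 12, 1, 11, 11, 12, 11, 12, 9, 1, 12, 11, 12, 11, 3]),
    (203, [12, 1, 12, 9, 3], [3, 9, 12, 1, 12, 4, 9, 11, 12, 11, 3, 2, 0]),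
    (209, [11, 1, 12, 11, 12, 1, 12, 3, 0], [0, 3, 12, 1, 12, 11, 12, 1, 11, 11, 12, 11, 12, 1, 12, 11, 9, 1, 12, 11]),
    (218, [11, 12, 1, 12, 2, 1, 0], [0, 1, 2, 12, 1, 12, 11, 9, 11, 12, 1, 12, 11, 12, 11, 4, 1]),
    (238, [12, 11, 12, 1, 12, 11, 12, 11, 12, 2], [2, 12, 11, 12, 11, 12, 1, 12, 11, 12, 12, 11, 12, 9, 1, 12, 11, 12, 11, 12, 0]),
    (314, [12, 1, 12, 3, 2, 1, 0], [0, 1, 2, 3, 12, 1, 12, 12, 11, 12, 1, 12, 11, 12, 4, 1, 0]),
    (359, [11, 12, 1, 9, 11, 12, 11, 12, 9, 4, 1, 9], [9, 1, 4, 9, 12, 11, 12, 11, 9, 1, 12, 11, 11, 4, 11, 12, 11, 12, 3, 1, 11, 12, 1, 9, 11, 12, 11, 12, 11, 9, 4, 1]),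
    (465, [4, 9, 11, 12, 11, 12, 11, 3, 0], [0, 3, 11, 12, 11, 12, 11, 9, 4, 11, 4, 12, 4, 1, 12, 11, 3, 1, 12, 11, 12, 1, 12, 9, 11, 12, 11, 2, 1]),
    (478, [12, 1, 12, 4, 2, 1], [1, 2, 4, 12, 1, 12, 12, 1, 12, 11, 12, 11, 4, 3, 2, 0]),
    (483, [9, 11, 12, 9, 11, 12, 1, 12, 2], [2, 12, 1, 12, 11, 9, 12, 11, 9, 9, 11, 1, 12, 11, 12, 1, 12, 11, 4, 9]),
    (507, [9, 11, 12, 11, 12, 1, 12, 11, 12, 11, 3], [3, 11, 12, 11, 12, 1, 12, 11, 12, 11, 9, 9, 11, 12, 11, 12, 9, 1, 12, 3]),
    (939, [12, 11, 12, 1, 9, 11, 12, 11, 12, 9, 4, 1], [1, 4, 9, 12, 11, 12, 11, 9, 1, 12, 11, 12, 12, 1, 4, 11, 4, 1, 4, 11, 12, 11, 12, 11, 12, 1, 9, 11, 12, 11]),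
    (965, [1, 9, 11, 12, 9, 11, 9], [9, 11, 9, 12, 11, 9, 1, 0, 12, 1, 11, 4, 11, 11, 4, 12, 11, 12, 11, 1, 12, 11, 1, 12, 11, 9, 0]),
    (1629, [12, 9, 11, 12, 1, 12, 4, 9, 11, 12, 11], [11, 12, 11, 9, 4, 12, 1, 12, 11, 9, 12, 0, 4, 12, 11, 3, 3, 12, 9, 1, 12, 9, 11, 12, 1, 12, 9, 11, 3])]

/-- Certificates at the centraliser of the long involution. -/
def certZ : List (ℕ × ℕ × List ℕ × List ℕ) := [
    (0, 238, [1, 12, 11, 12, 1, 12, 11, 12, 11, 12, 1], [1, 12, 11, 12, 11, 12, 1, 12, 11, 12, 1, 0, 4, 4, 2, 0, 12, 11, 2, 12, 9, 1, 12, 11, 12, 11, 1, 12, 2, 1, 0]),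
    (1, 0, [12, 9, 1, 12, 2, 1], [1, 2, 12, 1, 9, 12, 4, 1, 12, 0, 3, 11, 0, 0, 12, 1, 12, 11, 1, 12, 11, 12, 1, 12, 11, 4]),
    (1, 238, [12, 1, 12, 11, 12, 1, 12, 9, 11, 9, 4], [4, 9, 11, 9, 12, 1, 12, 11, 12, 1, 12, 11, 12, 1, 12, 11, 9, 4, 0]),
    (2, 0, [11, 12, 1, 12, 11, 12, 11, 3, 1], [1, 3, 11, 12, 11, 12, 1, 12, 11, 11, 4, 1, 12, 1, 12, 4, 2, 11, 12, 11, 12, 1, 12, 11, 12, 9, 11, 3, 0]),
    (2, 238, [1, 12, 11, 9, 1, 12, 11, 12, 11], [11, 12, 11, 12, 1, 9, 11, 12, 1, 9, 12, 9, 11, 9, 2, 12, 2, 9, 11, 12, 1, 12, 9, 11, 12, 11, 9, 3]),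
    (3, 0, [4, 1, 9, 11, 12, 11, 12, 11, 2], [2, 11, 12, 11, 12, 11, 9, 1, 4, 1, 2, 12, 9, 4, 11, 12, 4, 11, 12, 9, 11, 12, 11, 12, 1, 12, 1, 0]),
    (3, 238, [1, 12, 9, 11, 12, 1, 9, 11, 12, 4], [4, 12, 11, 9, 1, 12, 11, 9, 12, 1, 3, 9, 12, 11, 11, 2, 9, 3, 11, 12, 11, 1, 12, 11, 12, 9, 11, 9]),
    (4, 0, [12, 11, 12, 11, 1, 12, 11, 12, 9, 3, 2, 0], [0, 2, 3, 9, 12, 11, 12, 1, 11, 12, 11, 12, 12, 11, 1, 12, 9, 11, 1, 12, 9, 11, 12]),
    (4, 238, [12, 9, 11, 12, 9, 11, 1, 12, 11, 9, 3], [3, 9, 11, 12, 1, 11, 9, 12, 11, 9, 12, 9, 11, 1, 0, 12, 3, 4, 1, 11, 12, 11, 12, 4, 9, 11, 12, 1, 12, 11, 0])]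

/-- Certificates at the centraliser of the short involution. -/
def certP : List (ℕ × ℕ × List ℕ × List ℕ) := [
    (0, 530, [4, 9, 11, 12, 1, 12, 11, 12, 4, 2, 1], [1, 2, 4, 12, 11, 12, 1, 12, 11, 9, 4, 11, 12, 11, 11, 9, 4, 9, 0, 1, 12, 11, 12, 1, 12, 9, 11, 12, 3, 2]),
    (0, 645, [12, 1, 12, 11, 12, 1, 12, 9, 11, 12, 1, 9], [9, 1, 12, 11, 9, 12, 1, 12, 11, 12, 1, 12, 12, 1, 12, 9, 11, 12, 9, 0]),
    (0, 1763, [9, 11, 1, 12, 9, 11, 12, 1, 12, 9, 3, 2], [2, 3, 9, 12, 1, 12, 11, 9, 12, 1, 11, 9, 4, 9, 0, 2, 1, 11, 9, 9, 12, 11, 9, 1, 12, 11, 12, 1, 12, 11, 12, 3]),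
    (1, 0, [12, 11, 12, 1, 12, 11, 12, 11, 12, 11, 4], [4, 11, 12, 11, 12, 11, 12, 1, 12, 11, 12, 11, 12, 11, 1, 12, 1, 9, 11, 12, 3, 1]),
    (1, 530, [12, 11, 12, 11, 1, 12, 11, 12, 11, 4, 1], [1, 4, 11, 12, 11, 12, 1, 11, 12, 11, 12, 1, 0, 11, 11, 4, 12, 11, 12, 1, 12, 9, 11, 12, 11, 12, 9, 11, 1, 12]),
    (1, 645, [11, 12, 11, 12, 11, 1, 12, 9, 3], [3, 9, 12, 1, 11, 12, 11, 12, 11, 1, 12, 11, 1, 12, 11, 12]),
    (1, 1763, [9, 11, 1, 12, 11, 12, 9, 4, 2, 0], [0, 2, 4, 9, 12, 11, 12, 1, 11, 9, 12, 11, 11, 2, 9, 11, 12, 9, 11, 12, 1, 12, 11, 12, 9, 11, 12, 11, 1, 9]),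
    (2, 0, [9, 11, 1, 12, 11, 12, 1, 9, 11, 12, 3, 1], [1, 3, 12, 11, 9, 1, 12, 11, 12, 1, 11, 9, 1, 9, 4, 11, 12, 2, 3, 3, 11, 12, 1, 12, 11, 12, 1, 9, 11, 12, 11, 4]),
    (2, 530, [11, 12, 1, 12, 11, 12, 9, 11, 4], [4, 11, 9, 12, 11, 12, 1, 12, 11, 12, 1, 12, 9, 11, 12, 1, 12, 9, 11, 9, 4]),
    (2, 645, [12, 1, 12, 11, 12, 1, 12, 9, 11, 0], [0, 11, 9, 12, 1, 12, 11, 12, 1, 12, 9, 11, 12, 1, 12, 11, 12, 9, 11, 3, 0]),
    (2, 1763, [9, 11, 1, 12, 11, 12, 1, 12, 11, 12, 11], [11, 12, 11, 12, 1, 12, 11, 12, 1, 11, 9, 0, 11, 9, 12, 2, 3, 4, 11, 12, 11, 12, 1, 12, 9, 11, 12, 11, 1, 12])]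

/-- The certificate for elements of odd prime order. -/
def certThree : List ℕ × List ℕ := ([9, 1, 12, 9, 11, 12, 1], [1, 12, 11, 9, 12, 1, 9, 1, 4, 0, 2, 12, 9, 4, 0, 9, 11, 12, 11, 12, 4, 9, 11, 12, 11, 1, 0])

/-- The certificate for elements of odd prime order. -/
def certFive : List ℕ × List ℕ := ([12, 11, 12, 4, 9, 11, 12, 11, 12, 4, 2, 1], [1, 2, 4, 12, 11, 12, 11, 9, 4, 12, 11, 12, 12, 2, 9, 4, 1, 0, 9, 0, 11, 12, 11, 12, 11, 1, 12, 11, 12, 11, 3, 2])

/-- Certificates for the powers of the element of order 13. -/
def certX : List (List ℕ × List ℕ) := [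
    ([11, 12, 9, 1, 12, 11, 12, 11, 12], [12, 11, 12, 11, 12, 1, 9, 12, 11, 9, 1, 12, 9, 11, 12, 11, 12, 9, 4]),
    ([12, 9, 1, 12, 9, 11, 12, 11, 12, 11, 2, 0], [0, 2, 11, 12, 11, 12, 11, 9, 12, 1, 9, 12, 4, 11, 1, 1, 4, 4, 12, 1, 12, 11, 12, 11, 4, 9, 1, 12, 11, 12, 1, 0]),
    ([11, 1, 12, 11, 12, 4, 9, 1, 12, 11, 12, 3], [3, 12, 11, 12, 1, 9, 4, 12, 11, 12, 1, 11, 2, 0, 3, 2, 0, 11, 3, 2, 12, 1, 12, 11, 12, 11, 9, 1, 12, 11, 4, 9]),
    ([11, 1, 12, 11, 12, 11, 1, 12, 9, 4, 2, 1], [1, 2, 4, 9, 12, 1, 11, 12, 11, 12, 1, 11, 11, 12, 3, 9, 11, 12, 4, 9, 1, 12, 11, 12, 11, 9, 1, 12, 11, 9, 0]),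
    ([11, 12, 11, 1, 12, 9, 11, 12, 11, 9, 4, 0], [0, 4, 9, 11, 12, 11, 9, 12, 1, 11, 12, 11, 0, 3, 12, 1, 4, 4, 0, 2, 12, 9, 11, 12, 11, 1, 12, 11, 12, 11, 4, 3]),
    ([12, 11, 12, 4, 9, 1, 12, 11, 12, 1, 0], [0, 1, 12, 11, 12, 1, 9, 4, 12, 11, 12, 3, 12, 2, 3, 11, 12, 0, 11, 12, 11, 12, 9, 11, 12, 1, 12, 1, 9, 11, 4]),
    ([11, 1, 12, 9, 11, 12, 1, 12, 9, 11, 12, 2], [2, 12, 11, 9, 12, 1, 12, 11, 9, 12, 1, 11, 9, 11, 12, 11, 12]),
    ([11, 12, 9, 11, 12, 11, 1, 12, 9, 11, 1, 9], [9, 1, 11, 9, 12, 1, 11, 12, 11, 9, 12, 11, 2, 11, 0, 4, 0, 4, 12, 11, 9, 11, 1, 12, 11, 12, 11, 9, 3, 0]),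
    ([9, 11, 12, 1, 12, 9, 11, 9, 0], [0, 9, 11, 9, 12, 1, 12, 11, 9, 11, 3, 12, 11, 1, 12, 1, 12, 9, 11, 1, 12, 11, 12, 9, 11, 12, 1, 9]),
    ([9, 11, 1, 9, 2], [2, 9, 1, 11, 9, 2, 3, 2, 1, 9, 2, 12, 12, 11, 1, 12, 9, 11, 12, 11, 12, 1, 12, 4, 9]),
    ([11, 12, 9, 0], [0, 9, 12, 11, 11, 12, 3, 1, 11, 12, 2, 9, 1, 12, 9, 11, 12, 9, 11, 12, 11, 12, 2, 1]),
    ([9, 11, 12, 11, 12, 11, 0], [0, 11, 12, 11, 12, 11, 9, 12, 11, 12, 2, 11, 2, 3, 0, 12, 4, 9, 11, 12, 11, 12, 1, 9, 11, 12, 2])]

/-- The positive generators times powers, rewritten in the letters. -/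
def closZ : List (List (ℕ × List ℕ)) := [
    [(0, [0]), (1, [0]), (2, [0]), (3, [0]), (4, [0])],
    [(0, [1]), (1, [5, 4, 3, 2, 0]), (2, [5, 4, 2, 0]), (3, [5, 4]), (4, [5, 4, 3, 1])],
    [(0, [2]), (1, [3, 1, 0]), (2, [5, 4, 3, 0]), (3, [5, 4, 3, 2, 1]), (4, [3, 0])],
    [(0, [3]), (1, [2, 0]), (2, [3, 1]), (3, [5, 4, 3]), (4, [5, 4, 3, 2, 1, 0])],
    [(0, [4]), (1, [9, 6]), (2, [9, 8, 7, 2]), (3, [9, 8, 7, 6, 5, 3, 2, 1]), (4, [9, 5, 4, 1])],
    [(0, [5]), (1, [9, 6, 5, 4, 3, 1, 0]), (2, [9, 8, 7, 2, 1, 0]), (3, [9, 8, 7, 6, 4, 1, 0]), (4, [9, 2, 1])],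
    [(0, [6]), (1, [9, 8, 7, 4, 3, 0]), (2, [8, 7, 4]), (3, [8, 7, 2]), (4, [9, 8, 7, 6, 5, 4, 0])],
    [(0, [13]), (1, [13, 2, 1, 0]), (2, [13, 5, 4]), (3, [13, 5, 4, 3, 2, 0]), (4, [13, 5, 4, 1])],
    [(0, [7]), (4, [9, 7, 5, 4, 3, 2, 1]), (3, [8, 6, 2, 0]), (2, [9, 7, 6, 4, 3]), (1, [7, 5, 3, 0])],
    [(0, [8]), (4, [8, 5, 4, 2, 0]), (3, [8, 2, 0]), (2, [8, 5, 4, 3, 2, 1, 0]), (1, [8, 5, 4, 3, 2, 0])],
    [(0, [9]), (1, [4, 2, 1, 0]), (2, [9, 6, 5, 4, 2, 1, 0]), (3, [9, 8, 7, 3, 0]), (4, [9, 8, 7, 6, 5, 0])],
    [(0, [10]), (3, [10, 9, 8, 7, 6, 2, 1]), (1, [10, 9, 8, 7, 3, 2, 1]), (4, [10, 4, 3]), (2, [10, 8, 7, 5, 4, 3, 2, 0])]]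

/-- The positive generators times powers, rewritten in the letters. -/
def closP : List (List (ℕ × List ℕ)) := [
    [(0, [0]), (1, [1]), (2, [1, 0])],
    [(0, [1]), (1, [1, 0]), (2, [0])],
    [(0, [2]), (1, [2]), (2, [2])],
    [(0, [3]), (1, [4]), (2, [4, 3, 2])],
    [(0, [4]), (1, [4, 3, 2]), (2, [3])],
    [(0, [5]), (1, [8, 5, 4, 3, 1]), (2, [8, 6, 4, 1, 0])],
    [(0, [6]), (1, [6, 4, 3, 0]), (2, [6, 4, 2, 1, 0])],
    [(0, [13]), (1, [13, 6, 5, 3, 0]), (2, [8, 13, 4, 3, 2])],
    [(0, [7]), (1, [10, 8, 7, 5, 4, 1, 0]), (2, [10, 3, 2, 0])],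
    [(0, [8]), (1, [6, 5, 1, 0]), (2, [8, 6, 5])],
    [(0, [9]), (2, [9]), (1, [9])],
    [(0, [10]), (1, [7, 4, 2, 1]), (2, [10, 8, 7, 5, 3])]]

def orbV0 : Janko.Tree ℕ :=
  (.node (.node (.node (.node (.node (.node (.node (.node (.leaf 128) (.leaf 291512319608832)) (.node (.leaf 28048296869890) (.leaf 309100236220417))) (.node (.node (.leaf 18144093735040) (.leaf 300310577150081)) (.node (.leaf 282711939891330) (.leaf 0)))) (.node (.node (.node (.leaf 1374397972611) (.leaf 295912538834944)) (.node (.leaf 32583773902850) (.leaf 313498274281473))) (.node (.node (.leaf 23779091130371) (.leaf 304702164359169)) (.node (.leaf 287109986472066) (.leaf 0))))) (.node (.node (.node (.node (.leaf 6451263618) (.leaf 293711342880769)) (.node (.leaf 30376169101313) (.leaf 311299259226112))) (.node (.node (.leaf 20343112906883) (.leaf 302505305290880)) (.node (.leaf 284915258273923) (.leaf 0)))) (.node (.node (.node (.leaf 1939190542464) (.leaf 298109414828161)) (.node (.leaf 34645354076163) (.leaf 315699445090432))) (.node (.node (.leaf 25849277773826) (.leaf 306907630249984))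 (.node (.leaf 289315452530819) (.leaf 0)))))) (.node (.node (.node (.node (.node (.leaf 4295237760) (.leaf 292611856298112)) (.node (.leaf 29834999207936) (.leaf 310204042410115))) (.node (.node (.leaf 19793357217920) (.leaf 301407932594307)) (.node (.leaf 283815746482304) (.leaf 0)))) (.node (.node (.node (.leaf 1662165051520) (.leaf 297009886281856)) (.node (.leaf 34224455800961) (.leaf 314604219912321))) (.node (.node (.leaf 25436948506754) (.leaf 305801684418561)) (.node (.leaf 288215940739200) (.leaf 0))))) (.node (.node (.node (.node (.leaf 1099520034816) (.leaf 294813010446338)) (.node (.leaf 31887993448449) (.leaf 312403049240707))) (.node (.node (.leaf 23091892092931) (.leaf 303609103558787)) (.node (.leaf 286010474829954) (.leaf 0)))) (.node (.node (.node (.leaf 17594333730947) (.leaf 299204614651905)) (.node (.leaf 281612428249218) (.leaf 0))) (.node (.node (.leaf 27489946892289) (.leaf 308005019566209)) (.node (.leaf 290412833163266) (.leaf 0))))))) (.node (.node (.node (.node (.node (.node (.leaf 8407168) (.leaf 292064240048256)) (.node (.leaf 28452023795713)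 (.leaf 309656417349761))) (.node (.node (.leaf 18427586762883) (.leaf 300853873666049)) (.node (.leaf 283263860078594) (.leaf 0)))) (.node (.node (.node (.leaf 1511837130880) (.leaf 296460130594945)) (.node (.leaf 32712631310337) (.leaf 314054455527424))) (.node (.node (.leaf 24062575749120) (.leaf 305258379438208)) (.node (.leaf 287661906512003) (.leaf 0))))) (.node (.node (.node (.node (.leaf 6468104320) (.leaf 294263263320193)) (.node (.leaf 30522185383939) (.leaf 311855440871552))) (.node (.node (.leaf 20626605975554) (.leaf 303057191741440)) (.node (.leaf 285467178371075) (.leaf 0)))) (.node (.node (.node (.leaf 2076625105026) (.leaf 298661301178496)) (.node (.leaf 35049093562369) (.leaf 316251331295233))) (.node (.node (.leaf 26115549030531) (.leaf 307450960320513)) (.node (.leaf 289863077701634) (.leaf 0)))))) (.node (.node (.node (.node (.node (.leaf 4320487554) (.leaf 293163759888384)) (.node (.leaf 29963848171649) (.leaf 310751651020931))) (.node (.node (.leaf 20076833536001) (.leaf 301955540942851)) (.node (.leaf 284367649810560) (.leaf 0)))) (.node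 (.node (.node (.leaf 1799599937666) (.leaf 297561789364353)) (.node (.leaf 34370476212224) (.leaf 315147533019136))) (.node (.node (.leaf 25703236417539) (.leaf 306357882665088)) (.node (.leaf 288763549059201) (.leaf 0))))) (.node (.node (.node (.node (.leaf 1236958988288) (.leaf 295360619040899)) (.node (.leaf 32308891793537) (.leaf 312950657269890))) (.node (.node (.leaf 23375359934464) (.leaf 304152416923778)) (.node (.leaf 286562378153987) (.leaf 0)))) (.node (.node (.node (.leaf 17877809956992) (.leaf 299760812890241)) (.node (.leaf 282164331589762) (.leaf 0))) (.node (.node (.leaf 27910845360257) (.leaf 308552627607681)) (.node (.leaf 290964736766082) (.leaf 0)))))))) (.node (.node (.node (.node (.node (.node (.node (.leaf 43136) (.leaf 291787222716545)) (.node (.leaf 28052591827073) (.leaf 309377236318208))) (.node (.node (.leaf 18148388702208) (.leaf 300583299283073)) (.node (.leaf 282986826193026) (.leaf 0)))) (.node (.node (.node (.leaf 1374419019779) (.leaf 296187391629313)) (.node (.leaf 32588077279360) (.leaf 313775291164672))) (.node (.node (.leaf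 23783402813442) (.leaf 304979215028353)) (.node (.leaf 287384872749186) (.leaf 0))))) (.node (.node (.node (.node (.leaf 6455371906) (.leaf 293986245996672)) (.node (.leaf 30380460009474) (.leaf 311576259323905))) (.node (.node (.leaf 20347407865987) (.leaf 302778027186176)) (.node (.leaf 285190144526339) (.leaf 0)))) (.node (.node (.node (.leaf 1939202930816) (.leaf 298384267581440)) (.node (.leaf 34649661548673) (.leaf 315972166989825))) (.node (.node (.leaf 25853556160515) (.leaf 307180385681536)) (.node (.leaf 289590338799747) (.leaf 0)))))) (.node (.node (.node (.node (.node (.leaf 4299569280) (.leaf 292886717448321)) (.node (.leaf 29839298349187) (.leaf 310481051179010))) (.node (.node (.leaf 19797652152448) (.leaf 301684974911491)) (.node (.leaf 284090641193088) (.leaf 0)))) (.node (.node (.node (.leaf 1662181859456) (.leaf 297284780996737)) (.node (.leaf 34228746352771) (.leaf 314876967200896))) (.node (.node (.leaf 25441260025987) (.leaf 306078726744193)) (.node (.leaf 288490835466240) (.leaf 0))))) (.node (.node (.node (.node (.leaf 1099536875648) (.leaf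 295087905144835)) (.node (.leaf 31892280082435) (.leaf 312680091226242))) (.node (.node (.leaf 23096203870338) (.leaf 303881850876035)) (.node (.leaf 286285369524354) (.leaf 0)))) (.node (.node (.node (.leaf 17598628739075) (.leaf 299481656952961)) (.node (.leaf 281887322935426) (.leaf 0))) (.node (.node (.leaf 27494241986562) (.leaf 308282028019840)) (.node (.leaf 290687694325891) (.leaf 0))))))) (.node (.node (.node (.node (.node (.node (.leaf 12707840) (.leaf 292339109419139)) (.node (.leaf 28456314679426) (.leaf 309929156442242))) (.node (.node (.leaf 18431877410947) (.leaf 301130924036227)) (.node (.leaf 283538712795136) (.leaf 0)))) (.node (.node (.node (.leaf 1511853713539) (.leaf 296735016855682)) (.node (.leaf 32716913854595) (.leaf 314327211315331))) (.node (.node (.leaf 24066849544321) (.leaf 305531101267970)) (.node (.leaf 287936759330817) (.leaf 0))))) (.node (.node (.node (.node (.leaf 6472097920) (.leaf 294538132699138)) (.node (.leaf 30526480373888) (.leaf 312128179447811))) (.node (.node (.leaf 20630901024769) (.leaf 303334242414722)) (.node (.leaf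 285742031128577) (.leaf 0)))) (.node (.node (.node (.leaf 2076642236417) (.leaf 298936187283587)) (.node (.leaf 35053380212739) (.leaf 316528382132354))) (.node (.node (.leaf 26119864903810) (.leaf 307727976994819)) (.node (.leaf 290137930381312) (.leaf 0)))))) (.node (.node (.node (.node (.node (.leaf 4324798594) (.leaf 293438621139075)) (.node (.leaf 29968142979202) (.leaf 311024364419072))) (.node (.node (.leaf 20081128247426) (.leaf 302228288536577)) (.node (.leaf 284642544498818) (.leaf 0)))) (.node (.node (.node (.leaf 1799616487554) (.leaf 297836684216450)) (.node (.leaf 34374779627650) (.leaf 315424575363203))) (.node (.node (.leaf 25707543996546) (.leaf 306630629718018)) (.node (.leaf 289038443825283) (.leaf 0))))) (.node (.node (.node (.node (.leaf 1236975833216) (.leaf 295635513544832)) (.node (.leaf 32313199415427) (.leaf 313223404814337))) (.node (.node (.leaf 23379675783297) (.leaf 304429458997376)) (.node (.leaf 286837272801409) (.leaf 0)))) (.node (.node (.node (.leaf 17882109018112) (.leaf 300033559963779)) (.node (.leaf 282439226265728) (.leaf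 0))) (.node (.node (.leaf 27915144509570) (.leaf 308825341546626)) (.node (.leaf 291239597729921) (.leaf 0)))))))))

def orbV1 : Janko.Tree ℕ :=
  (.node (.node (.node (.node (.node (.node (.node (.node (.leaf 2048) (.leaf 291523061559424)) (.node (.leaf 28048313438337) (.leaf 309115256010883))) (.node (.node (.leaf 18144093976579) (.leaf 300314876074115)) (.node (.leaf 282720517228674) (.leaf 0)))) (.node (.node (.node (.leaf 1374398089344) (.leaf 295918952065154)) (.node (.leaf 32583798886529) (.leaf 313513294065793))) (.node (.node (.leaf 23779099232384) (.leaf 304715070187651)) (.node (.leaf 287118580598914) (.leaf 0))))) (.node (.node (.node (.node (.leaf 6451286146) (.leaf 293722084565121)) (.node (.leaf 30376181616770) (.leaf 311314279274498))) (.node (.node (.leaf 20343116896256) (.leaf 302518194178178)) (.node (.leaf 284923835901955) (.leaf 0)))) (.node (.node (.node (.leaf 1939190651011) (.leaf 298120122791939)) (.node (.leaf 34645383282688) (.leaf 315710169624704))) (.node (.node (.leaf 25849290082433) (.leaf 306911945943042)) (.node (.leaf 289324046391427)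 (.leaf 0)))))) (.node (.node (.node (.node (.node (.leaf 4295262336) (.leaf 292622589493248)) (.node (.leaf 29835019743363) (.leaf 310210480679043))) (.node (.node (.leaf 19793361217667) (.leaf 301412223670275)) (.node (.leaf 283824332501120) (.leaf 0)))) (.node (.node (.node (.leaf 1662165389443) (.leaf 297020636514434)) (.node (.leaf 34224467994626) (.leaf 314606379923459))) (.node (.node (.leaf 25436952442881) (.leaf 305814582005889)) (.node (.leaf 288224542982144) (.leaf 0))))) (.node (.node (.node (.node (.leaf 1099520184451) (.leaf 294819465552000)) (.node (.leaf 31888001663106) (.leaf 312409504043137))) (.node (.node (.leaf 23091900203136) (.leaf 303613410941059)) (.node (.leaf 286019077343362) (.leaf 0)))) (.node (.node (.node (.leaf 17594333954176) (.leaf 299217495351425)) (.node (.leaf 281621014005890) (.leaf 0))) (.node (.node (.leaf 27489963556994) (.leaf 308011457515649)) (.node (.leaf 290423566645378) (.leaf 0))))))) (.node (.node (.node (.node (.node (.node (.leaf 8409216) (.leaf 292070686206080)) (.node (.leaf 28452040345730) (.leaf 309658552125443)))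 (.node (.node (.leaf 18427586983936) (.leaf 300866762530947)) (.node (.leaf 283272437544962) (.leaf 0)))) (.node (.node (.node (.leaf 1511841169411) (.leaf 296470871980163)) (.node (.leaf 32712639531138) (.leaf 314056623867904))) (.node (.node (.leaf 24062583838851) (.leaf 305262661972098)) (.node (.leaf 287670467221507) (.leaf 0))))) (.node (.node (.node (.node (.leaf 6468126848) (.leaf 294269709744257)) (.node (.leaf 30522206312448) (.leaf 311857575405698))) (.node (.node (.leaf 20626609852545) (.leaf 303061490970754)) (.node (.leaf 285475755874435) (.leaf 0)))) (.node (.node (.node (.leaf 2076629708929) (.leaf 298667747829890)) (.node (.leaf 35049097627778) (.leaf 316257794820225))) (.node (.node (.leaf 26115561324544) (.leaf 307463832268931)) (.node (.leaf 289871637874818) (.leaf 0)))))) (.node (.node (.node (.node (.node (.leaf 4320516226) (.leaf 293170198222976)) (.node (.leaf 29963868829698) (.leaf 310762384363651))) (.node (.node (.leaf 20076837382146) (.leaf 301968422035587)) (.node (.leaf 284376235960448) (.leaf 0)))) (.node (.node (.node (.leaf 1799604242561)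 (.leaf 297568244453507)) (.node (.leaf 34370505203843) (.leaf 315162578018434))) (.node (.node (.leaf 25703240364160) (.leaf 306362190243968)) (.node (.leaf 288772151457921) (.leaf 0))))) (.node (.node (.node (.node (.leaf 1236963342467) (.leaf 295371368749057)) (.node (.leaf 32308916799618) (.leaf 312961407477888))) (.node (.node (.leaf 23375368032387) (.leaf 304165314101250)) (.node (.leaf 286570980806787) (.leaf 0)))) (.node (.node (.node (.leaf 17877810200707) (.leaf 299765103851521)) (.node (.leaf 282172917477506) (.leaf 0))) (.node (.node (.leaf 27910861883522) (.leaf 308563360942209)) (.node (.leaf 290971174567938) (.leaf 0)))))))) (.node (.node (.node (.node (.node (.node (.node (.leaf 47104) (.leaf 291797947820161)) (.node (.leaf 28052608428034) (.leaf 309387977881602))) (.node (.node (.leaf 18148388935683) (.leaf 300587581261827)) (.node (.leaf 282995420369026) (.leaf 0)))) (.node (.node (.node (.leaf 1374419124224) (.leaf 296193855119491)) (.node (.leaf 32588085577859) (.leaf 313786032826368))) (.node (.node (.leaf 23783410921601) (.leaf 304992070662147))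 (.node (.leaf 287393450039426) (.leaf 0))))) (.node (.node (.node (.node (.leaf 6455394306) (.leaf 293996970825856)) (.node (.leaf 30380480643201) (.leaf 311587001088131))) (.node (.node (.leaf 20347411863680) (.leaf 302790899611778)) (.node (.leaf 285198739001475) (.leaf 0)))) (.node (.node (.node (.leaf 1939203305603) (.leaf 298395025870978)) (.node (.leaf 34649665624066) (.leaf 315987203246209))) (.node (.node (.leaf 25853568475264) (.leaf 307184650983554)) (.node (.leaf 289598915963011) (.leaf 0)))))) (.node (.node (.node (.node (.node (.leaf 4299593728) (.leaf 292897450733697)) (.node (.leaf 29839310454784) (.leaf 310483194382466))) (.node (.node (.leaf 19797656143875) (.leaf 301689265905795)) (.node (.leaf 284099227277440) (.leaf 0)))) (.node (.node (.node (.leaf 1662182013059) (.leaf 297295497537667)) (.node (.leaf 34228767187072) (.leaf 314883388708994))) (.node (.node (.leaf 25441263943680) (.leaf 306091590480001)) (.node (.leaf 288499404234880) (.leaf 0))))) (.node (.node (.node (.node (.leaf 1099537037315) (.leaf 295094326767745)) (.node (.leaf 31892304822272)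 (.leaf 312682217472000))) (.node (.node (.leaf 23096212056065) (.leaf 303886124533763)) (.node (.leaf 286293938428034) (.leaf 0)))) (.node (.node (.node (.leaf 17598628888704) (.leaf 299494537619457)) (.node (.leaf 281895908757634) (.leaf 0))) (.node (.node (.leaf 27494258405505) (.leaf 308284170960896)) (.node (.leaf 290698427873411) (.leaf 0))))))) (.node (.node (.node (.node (.node (.node (.leaf 12710016) (.leaf 292345539192835)) (.node (.leaf 28456331024385) (.leaf 309935603028096))) (.node (.node (.leaf 18431877623936) (.leaf 301143796615297)) (.node (.leaf 283547307005952) (.leaf 0)))) (.node (.node (.node (.leaf 1511858022528) (.leaf 296745741334656)) (.node (.leaf 32716938670208) (.leaf 314333624391683))) (.node (.node (.leaf 24066857631746) (.leaf 305535400347648)) (.node (.leaf 287945370296449) (.leaf 0))))) (.node (.node (.node (.node (.leaf 6472128512) (.leaf 294544562657410)) (.node (.leaf 30526501265539) (.leaf 312134626300033))) (.node (.node (.leaf 20630905008258) (.leaf 303338524833920)) (.node (.leaf 285750625310849) (.leaf 0)))) (.node (.node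 (.node (.leaf 2076646258818) (.leaf 298942617208961)) (.node (.leaf 35053400799232) (.leaf 316530499827842))) (.node (.node (.leaf 26119868819457) (.leaf 307740866406529)) (.node (.leaf 290146540949632) (.leaf 0)))))) (.node (.node (.node (.node (.node (.leaf 4324818946) (.leaf 293445059293315)) (.node (.leaf 29968163883009) (.leaf 311039392622720))) (.node (.node (.leaf 20081132265601) (.leaf 302241168810113)) (.node (.leaf 284651130714242) (.leaf 0)))) (.node (.node (.node (.leaf 1799621054593) (.leaf 297843105708160)) (.node (.leaf 34374791798913) (.leaf 315435291936897))) (.node (.node (.leaf 25707556325377) (.leaf 306634903773314)) (.node (.leaf 289047012601987) (.leaf 0))))) (.node (.node (.node (.node (.leaf 1236980170755) (.leaf 295646229692418)) (.node (.leaf 32313207621632) (.leaf 313238415814787))) (.node (.node (.leaf 23379683940354) (.leaf 304442323138688)) (.node (.leaf 286845841958913) (.leaf 0)))) (.node (.node (.node (.leaf 17882109208707) (.leaf 300037850548227)) (.node (.leaf 282447812219008) (.leaf 0))) (.node (.node (.leaf 27915161073793) (.leaf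 308840369225730)) (.node (.leaf 291246035933313) (.leaf 0)))))))))

def orbV2 : Janko.Tree ℕ :=
  (.node (.node (.node (.node (.node (.node (.node (.node (.leaf 2176) (.leaf 291523065630850)) (.node (.leaf 28048313587841) (.leaf 309115259820033))) (.node (.node (.leaf 18144094038144) (.leaf 300314880546817)) (.node (.leaf 282720521439360) (.leaf 0)))) (.node (.node (.node (.leaf 1374398107776) (.leaf 295918956337280)) (.node (.leaf 32583799128193) (.leaf 313513297936387))) (.node (.node (.leaf 23779099457664) (.leaf 304715074238465)) (.node (.leaf 287118584715392) (.leaf 0))))) (.node (.node (.node (.node (.leaf 6451292290) (.leaf 293722088636419)) (.node (.leaf 30376181731458) (.leaf 311314283100160))) (.node (.node (.leaf 20343117166592) (.leaf 302518198651008)) (.node (.leaf 284923840047233) (.leaf 0)))) (.node (.node (.node (.leaf 1939190669443) (.leaf 298120127121537)) (.node (.leaf 34645383370880) (.leaf 315710173888642))) (.node (.node (.leaf 25849290403969) (.leaf 306911950321664)) (.node (.leaf 289324050630657) (.leaf 0)))))) (.node (.node (.node (.node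 (.node (.leaf 4295270528) (.leaf 292622593861634)) (.node (.leaf 29835020112003) (.leaf 310210485256193))) (.node (.node (.leaf 19793361479683) (.leaf 301412227600513)) (.node (.leaf 283824336730242) (.leaf 0)))) (.node (.node (.node (.leaf 1662165416067) (.leaf 297020640489600)) (.node (.leaf 34224468301826) (.leaf 314606384038017))) (.node (.node (.leaf 25436952651777) (.leaf 305814585870339)) (.node (.leaf 288224547280898) (.leaf 0))))) (.node (.node (.node (.node (.leaf 1099520202755) (.leaf 294819469940866)) (.node (.leaf 31888001792130) (.leaf 312409508341763))) (.node (.node (.leaf 23091900553344) (.leaf 303613415489537)) (.node (.leaf 286019081474176) (.leaf 0)))) (.node (.node (.node (.leaf 17594334025731) (.leaf 299217499318275)) (.node (.leaf 281621018198144) (.leaf 0))) (.node (.node (.leaf 27489963714690) (.leaf 308011461883907)) (.node (.leaf 290423570698368) (.leaf 0))))))) (.node (.node (.node (.node (.node (.node (.leaf 8411264) (.leaf 292070690547842)) (.node (.leaf 28452040530050) (.leaf 309658556729473))) (.node (.node (.leaf 18427587061891)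 (.leaf 300866766995457)) (.node (.leaf 283272441747456) (.leaf 0)))) (.node (.node (.node (.leaf 1511841190019) (.leaf 296470876121089)) (.node (.leaf 32712639742082) (.leaf 314056628410370))) (.node (.node (.leaf 24062584092803) (.leaf 305262665810048)) (.node (.leaf 287670471469185) (.leaf 0))))) (.node (.node (.node (.node (.leaf 6468139136) (.leaf 294269714085891)) (.node (.leaf 30522206421120) (.leaf 311857580009600))) (.node (.node (.leaf 20626610118785) (.leaf 303061495435392)) (.node (.leaf 285475760093185) (.leaf 0)))) (.node (.node (.node (.leaf 2076629713025) (.leaf 298667751782528)) (.node (.leaf 35049097709698) (.leaf 316257798969347))) (.node (.node (.leaf 26115561547776) (.leaf 307463836762113)) (.node (.leaf 289871641999488) (.leaf 0)))))) (.node (.node (.node (.node (.node (.leaf 4320522370) (.leaf 293170202316930)) (.node (.leaf 29963869192194) (.leaf 310762388166657))) (.node (.node (.leaf 20076837648514) (.leaf 301968425961473)) (.node (.leaf 284376240111746) (.leaf 0)))) (.node (.node (.node (.leaf 1799604267137) (.leaf 297568248678401)) (.node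 (.leaf 34370505640067) (.leaf 315162582415488))) (.node (.node (.leaf 25703240675456) (.leaf 306362194104450)) (.node (.leaf 288772155736067) (.leaf 0))))) (.node (.node (.node (.node (.leaf 1236963358723) (.leaf 295371372871811)) (.node (.leaf 32308917020674) (.leaf 312961411510402))) (.node (.node (.leaf 23375368411267) (.leaf 304165318670336)) (.node (.leaf 286570984941569) (.leaf 0)))) (.node (.node (.node (.leaf 17877810255872) (.leaf 299765107740803)) (.node (.leaf 282172921665664) (.leaf 0))) (.node (.node (.leaf 27910862075906) (.leaf 308563365036035)) (.node (.leaf 290971178895360) (.leaf 0)))))))) (.node (.node (.node (.node (.node (.node (.node (.leaf 47232) (.leaf 291797951895555)) (.node (.leaf 28052608540802) (.leaf 309387981883392))) (.node (.node (.leaf 18148389005312) (.leaf 300587585738881)) (.node (.leaf 282995424575616) (.leaf 0)))) (.node (.node (.node (.leaf 1374419146752) (.leaf 296193859485697)) (.node (.leaf 32588085598339) (.leaf 313786036799490))) (.node (.node (.leaf 23783411253249) (.leaf 304992074479745)) (.node (.leaf 287393454315648)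 (.leaf 0))))) (.node (.node (.node (.node (.leaf 6455408642) (.leaf 293996974844034)) (.node (.leaf 30380481019905) (.leaf 311587005155329))) (.node (.node (.leaf 20347412134016) (.leaf 302790904080512)) (.node (.leaf 285198743207937) (.leaf 0)))) (.node (.node (.node (.leaf 1939203311747) (.leaf 298395030188160)) (.node (.leaf 34649665798274) (.leaf 315987207890947))) (.node (.node (.leaf 25853568653312) (.leaf 307184655521920)) (.node (.leaf 289598920108033) (.leaf 0)))))) (.node (.node (.node (.node (.node (.leaf 4299601920) (.leaf 292897455015939)) (.node (.leaf 29839310872704) (.leaf 310483198718080))) (.node (.node (.leaf 19797656406147) (.leaf 301689269843969)) (.node (.leaf 284099231432834) (.leaf 0)))) (.node (.node (.node (.leaf 1662182019203) (.leaf 297295501688833)) (.node (.leaf 34228767363200) (.leaf 314883392450688))) (.node (.node (.leaf 25441264291968) (.leaf 306091594479619)) (.node (.leaf 288499408332930) (.leaf 0))))) (.node (.node (.node (.node (.leaf 1099537051779) (.leaf 295094331021315)) (.node (.leaf 31892305344512) (.leaf 312682222168066)))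 (.node (.node (.leaf 23096212205697) (.leaf 303886128955521)) (.node (.leaf 286293942685824) (.leaf 0)))) (.node (.node (.node (.leaf 17598628968579) (.leaf 299494541521027)) (.node (.leaf 281895912949888) (.leaf 0))) (.node (.node (.leaf 27494258808833) (.leaf 308284175595522)) (.node (.leaf 290698431922177) (.leaf 0))))))) (.node (.node (.node (.node (.node (.node (.leaf 12711936) (.leaf 292345543243905)) (.node (.leaf 28456331397249) (.leaf 309935607070850))) (.node (.node (.leaf 18431877693571) (.leaf 301143800608771)) (.node (.leaf 283547311187970) (.leaf 0)))) (.node (.node (.node (.leaf 1511858043008) (.leaf 296745745741954)) (.node (.leaf 32716938950784) (.leaf 314333628340353))) (.node (.node (.leaf 24066858016898) (.leaf 305535404795906)) (.node (.leaf 287945374531587) (.leaf 0))))) (.node (.node (.node (.node (.leaf 6472132608) (.leaf 294544566765696)) (.node (.leaf 30526501419139) (.leaf 312134630342659))) (.node (.node (.leaf 20630905257986) (.leaf 303338528737410)) (.node (.leaf 285750629558275) (.leaf 0)))) (.node (.node (.node (.leaf 2076646262786)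 (.leaf 298942621419523)) (.node (.leaf 35053401274368) (.leaf 316530504497280))) (.node (.node (.leaf 26119869153409) (.leaf 307740870379523)) (.node (.leaf 290146545070210) (.leaf 0)))))) (.node (.node (.node (.node (.node (.leaf 4324829186) (.leaf 293445063649281)) (.node (.leaf 29968164008065) (.leaf 311039396950146))) (.node (.node (.leaf 20081132531841) (.leaf 302241173264387)) (.node (.leaf 284651134861440) (.leaf 0)))) (.node (.node (.node (.leaf 1799621079169) (.leaf 297843109671042)) (.node (.leaf 34374792136833) (.leaf 315435295801347))) (.node (.node (.leaf 25707556505729) (.leaf 306634908158080)) (.node (.leaf 289047016888321) (.leaf 0))))) (.node (.node (.node (.node (.leaf 1236980187267) (.leaf 295646234085376)) (.node (.leaf 32313207744640) (.leaf 313238420371457))) (.node (.node (.leaf 23379684118658) (.leaf 304442327158914)) (.node (.leaf 286845846077571) (.leaf 0)))) (.node (.node (.node (.leaf 17882109251712) (.leaf 300037855047809)) (.node (.leaf 282447816419458) (.leaf 0))) (.node (.node (.leaf 27915161208961) (.leaf 308840373852160)) (.node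 (.leaf 291246039990275) (.leaf 0)))))))))

def orbV3 : Janko.Tree ℕ :=
  (.node (.node (.node (.node (.node (.node (.node (.node (.leaf 32768) (.leaf 291649754267651)) (.node (.leaf 28050431410176) (.leaf 309239818098817))) (.node (.node (.leaf 18146236868611) (.leaf 300445847420928)) (.node (.leaf 282849391413248) (.leaf 0)))) (.node (.node (.node (.leaf 1374410612867) (.leaf 296049965058179)) (.node (.leaf 32585916950657) (.leaf 313637864626305))) (.node (.node (.leaf 23781250742273) (.leaf 304841771600000)) (.node (.leaf 287247429552128) (.leaf 0))))) (.node (.node (.node (.node (.leaf 6455248898) (.leaf 293848777654272)) (.node (.leaf 30378308012035) (.leaf 311438841260034))) (.node (.node (.leaf 20345260292224) (.leaf 302640575578115)) (.node (.leaf 285052709779587) (.leaf 0)))) (.node (.node (.node (.leaf 1939198804096) (.leaf 298246841231360)) (.node (.leaf 34647501176832) (.leaf 315834740566146))) (.node (.node (.leaf 25851408154624) (.leaf 307042942482563)) (.node (.leaf 289452895660163) (.leaf 0)))))) (.node (.node (.node (.node (.node (.leaf 4299294720)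 (.leaf 292749282686977)) (.node (.leaf 29837142165634) (.leaf 310343616346241))) (.node (.node (.leaf 19795504300032) (.leaf 301547523319936)) (.node (.leaf 283953189660672) (.leaf 0)))) (.node (.node (.node (.leaf 1662169350272) (.leaf 297147321073793)) (.node (.leaf 34226607089794) (.leaf 314739507220611))) (.node (.node (.leaf 25439108327424) (.leaf 305941283530754)) (.node (.leaf 288353392326656) (.leaf 0))))) (.node (.node (.node (.node (.leaf 1099528470656) (.leaf 294950445043841)) (.node (.leaf 31890140805250) (.leaf 312542631215235))) (.node (.node (.leaf 23094056001665) (.leaf 303744407492610)) (.node (.leaf 286147926312960) (.leaf 0)))) (.node (.node (.node (.leaf 17596481011712) (.leaf 299344205056128)) (.node (.leaf 281749871396864) (.leaf 0))) (.node (.node (.leaf 27492085825539) (.leaf 308144593082497)) (.node (.leaf 290550259423233) (.leaf 0))))))) (.node (.node (.node (.node (.node (.node (.leaf 12681216) (.leaf 292201674799233)) (.node (.leaf 28454162753667) (.leaf 309791704598659))) (.node (.node (.leaf 18429734215811) (.leaf 300993472886786))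 (.node (.leaf 283401278060674) (.leaf 0)))) (.node (.node (.node (.leaf 1511845308419) (.leaf 296597556985856)) (.node (.leaf 32714778626050) (.leaf 314189751040002))) (.node (.node (.leaf 24064706205698) (.leaf 305393658398851)) (.node (.leaf 287799316086787) (.leaf 0))))) (.node (.node (.node (.node (.leaf 6472009728) (.leaf 294400697948162)) (.node (.leaf 30524345235585) (.leaf 311990727989376))) (.node (.node (.leaf 20628753088514) (.leaf 303196790937729)) (.node (.leaf 285604596377729) (.leaf 0)))) (.node (.node (.node (.leaf 2076633639042) (.leaf 298798727331843)) (.node (.leaf 35051236700290) (.leaf 316390922135681))) (.node (.node (.leaf 26117717248001) (.leaf 307590533781504)) (.node (.leaf 290000487219200) (.leaf 0)))))) (.node (.node (.node (.node (.node (.leaf 4324476930) (.leaf 293301186373763)) (.node (.leaf 29965986856963) (.leaf 310886929573891))) (.node (.node (.leaf 20078980741122) (.leaf 302090836940930)) (.node (.leaf 284505092954114) (.leaf 0)))) (.node (.node (.node (.leaf 1799608571905) (.leaf 297699224315906)) (.node (.leaf 34372623525891)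 (.leaf 315287115520000))) (.node (.node (.leaf 25705400346753) (.leaf 306493186621569)) (.node (.leaf 288901000687747) (.leaf 0))))) (.node (.node (.node (.node (.leaf 1236967430272) (.leaf 295498053842946)) (.node (.leaf 32311043291138) (.leaf 313085944481792))) (.node (.node (.leaf 23377528113154) (.leaf 304292016156801)) (.node (.leaf 286699829706883) (.leaf 0)))) (.node (.node (.node (.leaf 17879961569280) (.leaf 299896108660866)) (.node (.leaf 282301774739458) (.leaf 0))) (.node (.node (.leaf 27913005088899) (.leaf 308687906277379)) (.node (.leaf 291102163077251) (.leaf 0)))))))) (.node (.node (.node (.node (.node (.node (.node (.leaf 8388608) (.leaf 291926788384770)) (.node (.leaf 28449863452672) (.leaf 309518982807680))) (.node (.node (.leaf 18425434884099) (.leaf 300716438652928)) (.node (.leaf 283126408511616) (.leaf 0)))) (.node (.node (.node (.leaf 1511828731904) (.leaf 296322704148611)) (.node (.leaf 32710471010304) (.leaf 313917029326977))) (.node (.node (.leaf 24060423587843) (.leaf 305120936042625)) (.node (.leaf 287524463421569) (.leaf 0))))) (.node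 (.node (.node (.node (.leaf 6467616768) (.leaf 294125811775617)) (.node (.leaf 30520050315394) (.leaf 311718006169731))) (.node (.node (.leaf 20624458379393) (.leaf 302919757043843)) (.node (.leaf 285329726840963) (.leaf 0)))) (.node (.node (.node (.leaf 2076617160833) (.leaf 298523874801664)) (.node (.leaf 35046933182464) (.leaf 316113904959618))) (.node (.node (.leaf 26113401415680) (.leaf 307313517232258)) (.node (.leaf 289725634549762) (.leaf 0)))))) (.node (.node (.node (.node (.node (.leaf 4320133122) (.leaf 293026291548160)) (.node (.leaf 29961692020736) (.leaf 310614182625280))) (.node (.node (.leaf 20074685579393) (.leaf 301818089340928)) (.node (.leaf 284230198263808) (.leaf 0)))) (.node (.node (.node (.leaf 1799591561345) (.leaf 297424362969089)) (.node (.leaf 34368336859265) (.leaf 315010106570755))) (.node (.node (.leaf 25701084338176) (.leaf 306220439443587)) (.node (.leaf 288626105923713) (.leaf 0))))) (.node (.node (.node (.node (.leaf 1236950583296) (.leaf 295223192463489)) (.node (.leaf 32306752389120) (.leaf 312813231048835))) (.node (.node (.leaf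 23373212108803) (.leaf 304014973470723)) (.node (.leaf 286424934950913) (.leaf 0)))) (.node (.node (.node (.leaf 17875662274560) (.leaf 299623361052672)) (.node (.leaf 282026880040960) (.leaf 0))) (.node (.node (.leaf 27908705878016) (.leaf 308415159369728)) (.node (.leaf 290827268292608) (.leaf 0))))))) (.node (.node (.node (.node (.node (.node (.leaf 4294967296) (.leaf 292474387955712)) (.node (.leaf 29832843020417) (.leaf 310066574000128))) (.node (.node (.leaf 19791209332736) (.leaf 301270480977920)) (.node (.leaf 283678294933504) (.leaf 0)))) (.node (.node (.node (.leaf 1662152343552) (.leaf 296872459907200)) (.node (.leaf 34222299600896) (.leaf 314466793468034))) (.node (.node (.leaf 25434796382337) (.leaf 305664241209474)) (.node (.leaf 288078497583232) (.leaf 0))))) (.node (.node (.node (.node (.leaf 1099511627776) (.leaf 294675583860736)) (.node (.leaf 31885837205504) (.leaf 312265622421506))) (.node (.node (.leaf 23089744183296) (.leaf 303471660105730)) (.node (.leaf 285873031610368) (.leaf 0)))) (.node (.node (.node (.leaf 17592186044416) (.leaf 299067162755072))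 (.node (.leaf 281474976710656) (.leaf 0))) (.node (.node (.leaf 27487790694400) (.leaf 307867550744576)) (.node (.leaf 290275364700160) (.leaf 0)))))) (.node (.node (.node (.node (.node (.leaf 6450839554) (.leaf 293573924892801)) (.node (.leaf 30374008760320) (.leaf 311161790824451))) (.node (.node (.leaf 20340965357568) (.leaf 302367870464131)) (.node (.leaf 284777806725123) (.leaf 0)))) (.node (.node (.node (.leaf 1939177897984) (.leaf 297971954880641)) (.node (.leaf 34643218915458) (.leaf 315561985081347))) (.node (.node (.leaf 25847130202241) (.leaf 306770187026435)) (.node (.leaf 289178009374851) (.leaf 0))))) (.node (.node (.node (.node (.leaf 1374389567491) (.leaf 295775078711298)) (.node (.leaf 32581630314499) (.leaf 313360813916160))) (.node (.node (.leaf 23776939018240) (.leaf 304564720893952)) (.node (.leaf 286972543238144) (.leaf 0)))) (.node (.node (.node (.leaf 18141941860355) (.leaf 300173141999616)) (.node (.leaf 282574488338432) (.leaf 0))) (.node (.node (.leaf 28046136461315) (.leaf 308962767405056)) (.node (.leaf 291374901493762) (.leaf 0)))))))))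

def orbV4 : Janko.Tree ℕ :=
  (.node (.node (.node (.node (.node (.node (.node (.node (.leaf 32896) (.leaf 291649758623745)) (.node (.leaf 28050431854720) (.leaf 309239822475395))) (.node (.node (.leaf 18146236926080) (.leaf 300445851867266)) (.node (.leaf 282849395626114) (.leaf 0)))) (.node (.node (.node (.leaf 1374410635267) (.leaf 296049969438849)) (.node (.leaf 32585917331585) (.leaf 313637869039747))) (.node (.node (.leaf 23781251041409) (.leaf 304841776136194)) (.node (.leaf 287247433793666) (.leaf 0))))) (.node (.node (.node (.node (.leaf 6455259266) (.leaf 293848781715586)) (.node (.leaf 30378308159619) (.leaf 311438845857920))) (.node (.node (.leaf 20345260546176) (.leaf 302640580057089)) (.node (.leaf 285052714016897) (.leaf 0)))) (.node (.node (.node (.leaf 1939198834688) (.leaf 298246845300866)) (.node (.leaf 34647501658240) (.leaf 315834744668160))) (.node (.node (.leaf 25851408513152) (.leaf 307042946461825)) (.node (.leaf 289452899934337) (.leaf 0)))))) (.node (.node (.node (.node (.node (.leaf 4299303040) (.leaf 292749286967299)) (.node (.leaf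 29837142321154) (.leaf 310343620659331))) (.node (.node (.leaf 19795504562176) (.leaf 301547527780354)) (.node (.leaf 283953193826434) (.leaf 0)))) (.node (.node (.node (.leaf 1662169376768) (.leaf 297147325440131)) (.node (.leaf 34226607396994) (.leaf 314739511095425))) (.node (.node (.leaf 25439108511872) (.leaf 305941287528576)) (.node (.leaf 288353396553858) (.leaf 0))))) (.node (.node (.node (.node (.leaf 1099528489088) (.leaf 294950449442947)) (.node (.leaf 31890140840066) (.leaf 312542635581569))) (.node (.node (.leaf 23094056253441) (.leaf 303744411981952)) (.node (.leaf 286147930572930) (.leaf 0)))) (.node (.node (.node (.leaf 17596481087619) (.leaf 299344209549314)) (.node (.leaf 281749875595394) (.leaf 0))) (.node (.node (.leaf 27492085950595) (.leaf 308144597379203)) (.node (.leaf 290550263752707) (.leaf 0))))))) (.node (.node (.node (.node (.node (.node (.leaf 12683392) (.leaf 292201678839939)) (.node (.leaf 28454162905091) (.leaf 309791709139073))) (.node (.node (.leaf 18429734256640) (.leaf 300993476755584)) (.node (.leaf 283401282224128) (.leaf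 0)))) (.node (.node (.node (.leaf 1511845329027) (.leaf 296597561133186)) (.node (.leaf 32714778836994) (.leaf 314189755674752))) (.node (.node (.leaf 24064706361474) (.leaf 305393662386305)) (.node (.leaf 287799320373249) (.leaf 0))))) (.node (.node (.node (.node (.leaf 6472022144) (.leaf 294400702218368)) (.node (.leaf 30524345639041) (.leaf 311990732292098))) (.node (.node (.leaf 20628753363074) (.leaf 303196794855555)) (.node (.leaf 285604600582275) (.leaf 0)))) (.node (.node (.node (.leaf 2076633651202) (.leaf 298798731708417)) (.node (.leaf 35051236782210) (.leaf 316390926016643))) (.node (.node (.leaf 26117717565569) (.leaf 307590538326146)) (.node (.leaf 290000491473026) (.leaf 0)))))) (.node (.node (.node (.node (.node (.leaf 4324483202) (.leaf 293301190408321)) (.node (.leaf 29965987281027) (.leaf 310886934165505))) (.node (.node (.leaf 20078980999298) (.leaf 302090840877056)) (.node (.leaf 284505097119872) (.leaf 0)))) (.node (.node (.node (.leaf 1799608596481) (.leaf 297699228280960)) (.node (.leaf 34372623564803) (.leaf 315287119517826))) (.node (.node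 (.leaf 25705400559617) (.leaf 306493191020675)) (.node (.leaf 288901004841089) (.leaf 0))))) (.node (.node (.node (.node (.leaf 1236967446656) (.leaf 295498057840768)) (.node (.leaf 32311043561602) (.leaf 313085949036674))) (.node (.node (.leaf 23377528455298) (.leaf 304292019982467)) (.node (.leaf 286699833843841) (.leaf 0)))) (.node (.node (.node (.leaf 17879961657475) (.leaf 299896112547840)) (.node (.leaf 282301778921600) (.leaf 0))) (.node (.node (.leaf 27913005445251) (.leaf 308687910901761)) (.node (.leaf 291102167144577) (.leaf 0)))))))) (.node (.node (.node (.node (.node (.node (.node (.leaf 8390656) (.leaf 291926792724608)) (.node (.leaf 28449863866368) (.leaf 309518986856450))) (.node (.node (.leaf 18425434933248) (.leaf 300716443164802)) (.node (.leaf 283126412732418) (.leaf 0)))) (.node (.node (.node (.leaf 1511828744192) (.leaf 296322708426881)) (.node (.leaf 32710471352320) (.leaf 313917033314435))) (.node (.node (.leaf 24060423940099) (.leaf 305120940415107)) (.node (.leaf 287524467560579) (.leaf 0))))) (.node (.node (.node (.node (.leaf 6467629184)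 (.leaf 294125815820419)) (.node (.leaf 30520050690050) (.leaf 311718009989249))) (.node (.node (.leaf 20624458629249) (.leaf 302919761522817)) (.node (.leaf 285329731078273) (.leaf 0)))) (.node (.node (.node (.leaf 2076617164929) (.leaf 298523878776962)) (.node (.leaf 35046933657600) (.leaf 316113909241856))) (.node (.node (.leaf 26113401585664) (.leaf 307313521129472)) (.node (.leaf 289725638664320) (.leaf 0)))))) (.node (.node (.node (.node (.node (.leaf 4320143490) (.leaf 293026295840898)) (.node (.leaf 29961692182528) (.leaf 310614186688642))) (.node (.node (.leaf 20074685845633) (.leaf 301818093805698)) (.node (.leaf 284230202433666) (.leaf 0)))) (.node (.node (.node (.leaf 1799591585921) (.leaf 297424367323139)) (.node (.leaf 34368337082497) (.leaf 315010111219713))) (.node (.node (.leaf 25701084682240) (.leaf 306220443445377)) (.node (.leaf 288626110204035) (.leaf 0))))) (.node (.node (.node (.node (.leaf 1236950599680) (.leaf 295223196858499)) (.node (.leaf 32306752905344) (.leaf 312813235148929))) (.node (.node (.leaf 23373212319747) (.leaf 304014978037761))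 (.node (.leaf 286424939206659) (.leaf 0)))) (.node (.node (.node (.leaf 17875662358531) (.leaf 299623365484674)) (.node (.leaf 282026884243586) (.leaf 0))) (.node (.node (.leaf 27908706332800) (.leaf 308415163400322)) (.node (.leaf 290827272618114) (.leaf 0))))))) (.node (.node (.node (.node (.node (.node (.leaf 4294975616) (.leaf 292474392322178)) (.node (.leaf 29832843143297) (.leaf 310066578595970))) (.node (.node (.leaf 19791209594880) (.leaf 301270485434498)) (.node (.leaf 283678299160706) (.leaf 0)))) (.node (.node (.node (.leaf 1662152370304) (.leaf 296872464318466)) (.node (.leaf 34222299785216) (.leaf 314466797584384))) (.node (.node (.leaf 25434796689537) (.leaf 305664245202944)) (.node (.leaf 288078501871618) (.leaf 0))))) (.node (.node (.node (.node (.leaf 1099511646208) (.leaf 294675588264066)) (.node (.leaf 31885837727744) (.leaf 312265627119744))) (.node (.node (.leaf 23089744566272) (.leaf 303471664664704)) (.node (.leaf 285873035874434) (.leaf 0)))) (.node (.node (.node (.leaf 17592186112003) (.leaf 299067167244418)) (.node (.leaf 281474980905090)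 (.leaf 0))) (.node (.node (.leaf 27487791147008) (.leaf 307867555373186)) (.node (.leaf 290275369033858) (.leaf 0)))))) (.node (.node (.node (.node (.node (.leaf 6450854018) (.leaf 293573928999043)) (.node (.leaf 30374009169920) (.leaf 311161795176449))) (.node (.node (.leaf 20340965611520) (.leaf 302367874939009)) (.node (.leaf 284777810905089) (.leaf 0)))) (.node (.node (.node (.leaf 1939177928832) (.leaf 297971959064707)) (.node (.leaf 34643219232770) (.leaf 315561988978689))) (.node (.node (.leaf 25847130413185) (.leaf 306770191046657)) (.node (.leaf 289178013616257) (.leaf 0))))) (.node (.node (.node (.node (.leaf 1374389590147) (.leaf 295775083133056)) (.node (.leaf 32581630793731) (.leaf 313360818632834))) (.node (.node (.leaf 23776939276288) (.leaf 304564725471362)) (.node (.leaf 286972547520642) (.leaf 0)))) (.node (.node (.node (.leaf 18141941925888) (.leaf 300173146507394)) (.node (.leaf 282574492551298) (.leaf 0))) (.node (.node (.leaf 28046136868867) (.leaf 308962772052098)) (.node (.leaf 291374905845888) (.leaf 0)))))))))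

def orbV5 : Janko.Tree ℕ :=
  (.node (.node (.node (.node (.node (.node (.node (.node (.leaf 38912) (.leaf 291660500471937)) (.node (.leaf 28050448261251) (.leaf 309250547374081))) (.node (.node (.leaf 18146237089923) (.leaf 300450150612992)) (.node (.leaf 282857973045378) (.leaf 0)))) (.node (.node (.node (.leaf 1374410735744) (.leaf 296056399380611)) (.node (.leaf 32585942040578) (.leaf 313648577019907))) (.node (.node (.leaf 23781259186306) (.leaf 304854631612416)) (.node (.leaf 287256011100290) (.leaf 0))))) (.node (.node (.node (.node (.leaf 6455285762) (.leaf 293859523297282)) (.node (.leaf 30378320689280) (.leaf 311449570474114))) (.node (.node (.leaf 20345264408579) (.leaf 302653469233283)) (.node (.leaf 285061291702273) (.leaf 0)))) (.node (.node (.node (.leaf 1939199205507) (.leaf 298257570254976)) (.node (.leaf 34647530614915) (.leaf 315849747890176))) (.node (.node (.leaf 25851420831875) (.leaf 307047212285955)) (.node (.leaf 289461476966529) (.leaf 0)))))) (.node (.node (.node (.node (.node (.leaf 4299327616) (.leaf 292760020265091)) (.node (.leaf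 29837154826241) (.leaf 310345764022275))) (.node (.node (.leaf 19795508574339) (.leaf 301551818356738)) (.node (.leaf 283961779894402) (.leaf 0)))) (.node (.node (.node (.leaf 1662169456771) (.leaf 297158075328513)) (.node (.leaf 34226611197953) (.leaf 314745966147715))) (.node (.node (.leaf 25439120822403) (.leaf 305954151239808)) (.node (.leaf 288361965158402) (.leaf 0))))) (.node (.node (.node (.node (.leaf 1099528642691) (.leaf 294956904585345)) (.node (.leaf 31890149136385) (.leaf 312544795363331))) (.node (.node (.leaf 23094064316418) (.leaf 303748685496320)) (.node (.leaf 286156499456130) (.leaf 0)))) (.node (.node (.node (.leaf 17596481306624) (.leaf 299357090322434)) (.node (.leaf 281758461401218) (.leaf 0))) (.node (.node (.leaf 27492102695040) (.leaf 308146740463619)) (.node (.leaf 290560997296259) (.leaf 0))))))) (.node (.node (.node (.node (.node (.node (.leaf 12685440) (.leaf 292208125395075)) (.node (.leaf 28454179440640) (.leaf 309798138839043))) (.node (.node (.leaf 18429734441091) (.leaf 301006366142594)) (.node (.leaf 283409859641344) (.leaf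 0)))) (.node (.node (.node (.leaf 1511849633792) (.leaf 296608319143936)) (.node (.leaf 32714787070081) (.leaf 314196202145920))) (.node (.node (.leaf 24064714518657) (.leaf 305397961345027)) (.node (.leaf 287807931330689) (.leaf 0))))) (.node (.node (.node (.node (.leaf 6472040448) (.leaf 294407148793984)) (.node (.leaf 30524357738498) (.leaf 311997161963520))) (.node (.node (.leaf 20628757379201) (.leaf 303201094058113)) (.node (.leaf 285613177995267) (.leaf 0)))) (.node (.node (.node (.leaf 2076637931649) (.leaf 298805195059331)) (.node (.leaf 35051249223681) (.leaf 316393078056963))) (.node (.node (.leaf 26117721518210) (.leaf 307603427190912)) (.node (.leaf 290009101893634) (.leaf 0)))))) (.node (.node (.node (.node (.node (.leaf 4324511874) (.leaf 293307628886017)) (.node (.leaf 29966007924864) (.leaf 310901962250369))) (.node (.node (.leaf 20078984874113) (.leaf 302103721781248)) (.node (.leaf 284513683318912) (.leaf 0)))) (.node (.node (.node (.leaf 1799612372994) (.leaf 297705683288066)) (.node (.leaf 34372652814464) (.leaf 315297869377664))) (.node (.node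 (.leaf 25705404471298) (.leaf 306497465063427)) (.node (.leaf 288909573728385) (.leaf 0))))) (.node (.node (.node (.node (.leaf 1236971788419) (.leaf 295508807528578)) (.node (.leaf 32311068383361) (.leaf 313100993560576))) (.node (.node (.leaf 23377536559233) (.leaf 304304884222083)) (.node (.leaf 286708402993153) (.leaf 0)))) (.node (.node (.node (.leaf 17879961868416) (.leaf 299900403255296)) (.node (.leaf 282310364858496) (.leaf 0))) (.node (.node (.leaf 27913021941760) (.leaf 308702938740865)) (.node (.leaf 291108605376513) (.leaf 0)))))))) (.node (.node (.node (.node (.node (.node (.node (.leaf 8392832) (.leaf 291933222076416)) (.node (.leaf 28449880147971) (.leaf 309521138403328))) (.node (.node (.leaf 18425435191299) (.leaf 300729315098624)) (.node (.leaf 283135006992386) (.leaf 0)))) (.node (.node (.node (.leaf 1511832786947) (.leaf 296333416235011)) (.node (.leaf 32710496094211) (.leaf 313919168071683))) (.node (.node (.leaf 24060432025600) (.leaf 305125222967297)) (.node (.leaf 287533028245507) (.leaf 0))))) (.node (.node (.node (.node (.leaf 6467651712)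 (.leaf 294132245757955)) (.node (.leaf 30520062830721) (.leaf 311720162097155))) (.node (.node (.leaf 20624462489730) (.leaf 302924043812867)) (.node (.leaf 285338325342209) (.leaf 0)))) (.node (.node (.node (.leaf 2076620986498) (.leaf 298530291843072)) (.node (.leaf 35046962620419) (.leaf 316120338978816))) (.node (.node (.leaf 26113413937155) (.leaf 307326393579522)) (.node (.leaf 289734198820864) (.leaf 0)))))) (.node (.node (.node (.node (.node (.leaf 4320172034) (.leaf 293032734007426)) (.node (.leaf 29961713080323) (.leaf 310624919789698))) (.node (.node (.leaf 20074689826946) (.leaf 301830974349442)) (.node (.leaf 284238788567170) (.leaf 0)))) (.node (.node (.node (.leaf 1799595632770) (.leaf 297430788765825)) (.node (.leaf 34368349503618) (.leaf 315025122416771))) (.node (.node (.leaf 25701096980483) (.leaf 306224751040641)) (.node (.leaf 288634712619139) (.leaf 0))))) (.node (.node (.node (.node (.leaf 1236954949635) (.leaf 295233913022593)) (.node (.leaf 32306760845315) (.leaf 312823951673475))) (.node (.node (.leaf 23373220413440) (.leaf 304027875240065))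 (.node (.leaf 286433541867651) (.leaf 0)))) (.node (.node (.node (.leaf 17875662573696) (.leaf 299627656421506)) (.node (.leaf 282035470114946) (.leaf 0))) (.node (.node (.leaf 27908722722819) (.leaf 308425896763522)) (.node (.leaf 290833710456962) (.leaf 0))))))) (.node (.node (.node (.node (.node (.node (.leaf 4295000064) (.leaf 292485125537922)) (.node (.leaf 29832864061570) (.leaf 310073016877186))) (.node (.node (.leaf 19791213598723) (.leaf 301274775978114)) (.node (.leaf 283686885163138) (.leaf 0)))) (.node (.node (.node (.leaf 1662152769539) (.leaf 296883180556416)) (.node (.leaf 34222329004035) (.leaf 314468924051586))) (.node (.node (.leaf 25434809010306) (.leaf 305677142814848)) (.node (.leaf 288087104155778) (.leaf 0))))) (.node (.node (.node (.node (.leaf 1099511791619) (.leaf 294682009813120)) (.node (.leaf 31885862455299) (.leaf 312272048242818))) (.node (.node (.leaf 23089752639491) (.leaf 303475972063360)) (.node (.leaf 285881638404226) (.leaf 0)))) (.node (.node (.node (.leaf 17592186339328) (.leaf 299080047919234)) (.node (.leaf 281483566645378)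 (.leaf 0))) (.node (.node (.leaf 27487807555587) (.leaf 307873993326722)) (.node (.leaf 290286102511746) (.leaf 0)))))) (.node (.node (.node (.node (.node (.leaf 6450876546) (.leaf 293584653885571)) (.node (.leaf 30374029817859) (.leaf 311176831488131))) (.node (.node (.leaf 20340969482243) (.leaf 302380747169923)) (.node (.leaf 284786405298305) (.leaf 0)))) (.node (.node (.node (.leaf 1939178029059) (.leaf 297982700757121)) (.node (.leaf 34643223050369) (.leaf 315572747595905))) (.node (.node (.leaf 25847142742146) (.leaf 306774507253891)) (.node (.leaf 289186607472769) (.leaf 0))))) (.node (.node (.node (.node (.leaf 1374389698560) (.leaf 295781529878658)) (.node (.leaf 32581638768640) (.leaf 313375871942786))) (.node (.node (.leaf 23776947341315) (.leaf 304577631305856)) (.node (.leaf 286981141627010) (.leaf 0)))) (.node (.node (.node (.leaf 18141942163587) (.leaf 300177428775040)) (.node (.leaf 282583086678146) (.leaf 0))) (.node (.node (.leaf 28046153304064) (.leaf 308977808588928)) (.node (.leaf 291385630982272) (.leaf 0)))))))))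

def orbV6 : Janko.Tree ℕ :=
  (.node (.node (.node (.node (.node (.node (.node (.node (.leaf 39040) (.leaf 291660504557571)) (.node (.leaf 28050448705667) (.leaf 309250551390339))) (.node (.node (.leaf 18146237163648) (.leaf 300450155124738)) (.node (.leaf 282857977217152) (.leaf 0)))) (.node (.node (.node (.leaf 1374410758272) (.leaf 296056403765249)) (.node (.leaf 32585942552706) (.leaf 313648581142657))) (.node (.node (.leaf 23781259370626) (.leaf 304854635595778)) (.node (.leaf 287256015345792) (.leaf 0))))) (.node (.node (.node (.node (.leaf 6455287938) (.leaf 293859527686144)) (.node (.leaf 30378320803968) (.leaf 311449574768768))) (.node (.node (.leaf 20345264679043) (.leaf 302653473179649)) (.node (.leaf 285061295841411) (.leaf 0)))) (.node (.node (.node (.leaf 1939199219843) (.leaf 298257574344834)) (.node (.leaf 34647530956931) (.leaf 315849751783426))) (.node (.node (.leaf 25851421001859) (.leaf 307047216302209)) (.node (.leaf 289461481179139) (.leaf 0)))))) (.node (.node (.node (.node (.node (.leaf 4299335680) (.leaf 292760024356865)) (.node (.leaf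 29837154965505) (.leaf 310345768081537))) (.node (.node (.leaf 19795508836355) (.leaf 301551822809088)) (.node (.leaf 283961784117376) (.leaf 0)))) (.node (.node (.node (.leaf 1662169467011) (.leaf 297158079547523)) (.node (.leaf 34226611677313) (.leaf 314745970661377))) (.node (.node (.leaf 25439121162371) (.leaf 305954155761794)) (.node (.leaf 288361969451008) (.leaf 0))))) (.node (.node (.node (.node (.leaf 1099528660995) (.leaf 294956908853251)) (.node (.leaf 31890149286017) (.leaf 312544799926401))) (.node (.node (.leaf 23094064699394) (.leaf 303748690051074)) (.node (.leaf 286156503715968) (.leaf 0)))) (.node (.node (.node (.leaf 17596481382403) (.leaf 299357094217728)) (.node (.leaf 281758465591424) (.leaf 0))) (.node (.node (.leaf 27492102766720) (.leaf 308146745096321)) (.node (.leaf 290561001371649) (.leaf 0))))))) (.node (.node (.node (.node (.node (.node (.leaf 12687360) (.leaf 292208129447937)) (.node (.leaf 28454179624960) (.leaf 309798142892161))) (.node (.node (.leaf 18429734498432) (.leaf 301006370080896)) (.node (.leaf 283409863866370) (.leaf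 0)))) (.node (.node (.node (.leaf 1511849654272) (.leaf 296608323553282)) (.node (.leaf 32714787186689) (.leaf 314196206223490))) (.node (.node (.leaf 24064714821761) (.leaf 305397965889665)) (.node (.leaf 287807935600643) (.leaf 0))))) (.node (.node (.node (.node (.leaf 6472052864) (.leaf 294407153068162)) (.node (.leaf 30524358154370) (.leaf 311997166311426))) (.node (.node (.leaf 20628757629057) (.leaf 303201098512387)) (.node (.leaf 285613182187649) (.leaf 0)))) (.node (.node (.node (.leaf 2076637943937) (.leaf 298805199239169)) (.node (.leaf 35051249404033) (.leaf 316393081905281))) (.node (.node (.leaf 26117721692290) (.leaf 307603431686274)) (.node (.leaf 290009106212864) (.leaf 0)))))) (.node (.node (.node (.node (.node (.leaf 4324521986) (.leaf 293307632912515)) (.node (.leaf 29966008287360) (.leaf 310901966309379))) (.node (.node (.leaf 20078985140353) (.leaf 302103725709314)) (.node (.leaf 284513687541890) (.leaf 0)))) (.node (.node (.node (.leaf 1799612397698) (.leaf 297705687711744)) (.node (.leaf 34372653004800) (.leaf 315297874030722))) (.node (.node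 (.leaf 25705404815362) (.leaf 306497468938369)) (.node (.leaf 288909577816067) (.leaf 0))))) (.node (.node (.node (.node (.leaf 1236971804675) (.leaf 295508811919488)) (.node (.leaf 32311068801153) (.leaf 313100998246402))) (.node (.node (.leaf 23377536802945) (.leaf 304304888129537)) (.node (.leaf 286708407113859) (.leaf 0)))) (.node (.node (.node (.leaf 17879961956483) (.leaf 299900407756802)) (.node (.leaf 282310369065090) (.leaf 0))) (.node (.node (.leaf 27913022281856) (.leaf 308702943356931)) (.node (.leaf 291108609435779) (.leaf 0)))))))) (.node (.node (.node (.node (.node (.node (.node (.leaf 8394880) (.leaf 291933226420226)) (.node (.leaf 28449880594563) (.leaf 309521143005186))) (.node (.node (.leaf 18425435240576) (.leaf 300729319614466)) (.node (.leaf 283135011160064) (.leaf 0)))) (.node (.node (.node (.leaf 1511832799363) (.leaf 296333420386433)) (.node (.leaf 32710496600195) (.leaf 313919172743297))) (.node (.node (.leaf 24060432279680) (.leaf 305125226909827)) (.node (.leaf 287533032536193) (.leaf 0))))) (.node (.node (.node (.node (.leaf 6467663872)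 (.leaf 294132249806977)) (.node (.leaf 30520063209601) (.leaf 311720165879937))) (.node (.node (.leaf 20624462747650) (.leaf 302924047771777)) (.node (.leaf 285338329493635) (.leaf 0)))) (.node (.node (.node (.leaf 2076621006850) (.leaf 298530296289282)) (.node (.leaf 35046962931843) (.leaf 316120343347202))) (.node (.node (.leaf 26113414238339) (.leaf 307326397546496)) (.node (.leaf 289734203144194) (.leaf 0)))))) (.node (.node (.node (.node (.node (.leaf 4320178306) (.leaf 293032738300032)) (.node (.leaf 29961713197187) (.leaf 310624924377216))) (.node (.node (.leaf 20074690084866) (.leaf 301830978797696)) (.node (.leaf 284238792786048) (.leaf 0)))) (.node (.node (.node (.leaf 1799595640834) (.leaf 297430792923139)) (.node (.leaf 34368349595650) (.leaf 315025126541313))) (.node (.node (.leaf 25701097193603) (.leaf 306224755435523)) (.node (.leaf 288634716702721) (.leaf 0))))) (.node (.node (.node (.node (.leaf 1236954966147) (.leaf 295233917155331)) (.node (.leaf 32306761230339) (.leaf 312823955838977))) (.node (.node (.leaf 23373220792448) (.leaf 304027879659523))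 (.node (.leaf 286433546008577) (.leaf 0)))) (.node (.node (.node (.leaf 17875662657539) (.leaf 299627660312704)) (.node (.leaf 282035474301056) (.leaf 0))) (.node (.node (.leaf 27908723177475) (.leaf 308425900859520)) (.node (.leaf 290833714782336) (.leaf 0))))))) (.node (.node (.node (.node (.node (.node (.leaf 4295008384) (.leaf 292485129576576)) (.node (.leaf 29832864184322) (.leaf 310073020686464))) (.node (.node (.leaf 19791213860995) (.leaf 301274780434560)) (.node (.leaf 283686889324672) (.leaf 0)))) (.node (.node (.node (.leaf 1662152796163) (.leaf 296883184984194)) (.node (.leaf 34222329098371) (.leaf 314468928446592))) (.node (.node (.leaf 25434809227266) (.leaf 305677147201666)) (.node (.leaf 288087108247680) (.leaf 0))))) (.node (.node (.node (.node (.leaf 1099511810179) (.leaf 294682014216322)) (.node (.leaf 31885862809731) (.leaf 312272052678784))) (.node (.node (.leaf 23089752887427) (.leaf 303475976491138)) (.node (.leaf 285881642537088) (.leaf 0)))) (.node (.node (.node (.leaf 17592186407043) (.leaf 299080051884160)) (.node (.leaf 281483570839680)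 (.leaf 0))) (.node (.node (.leaf 27487807971459) (.leaf 307873997693056)) (.node (.leaf 290286106583168) (.leaf 0)))))) (.node (.node (.node (.node (.node (.leaf 6450882562) (.leaf 293584658188289)) (.node (.leaf 30374030194819) (.leaf 311176836069377))) (.node (.node (.leaf 20340969736323) (.leaf 302380751120385)) (.node (.leaf 284786409510915) (.leaf 0)))) (.node (.node (.node (.leaf 1939178059779) (.leaf 297982704801795)) (.node (.leaf 34643223486593) (.leaf 315572751566851))) (.node (.node (.leaf 25847143038978) (.leaf 306774511101953)) (.node (.leaf 289186611656707) (.leaf 0))))) (.node (.node (.node (.node (.leaf 1374389721088) (.leaf 295781534169216)) (.node (.leaf 32581639116928) (.leaf 313375875709056))) (.node (.node (.leaf 23776947730563) (.leaf 304577635195010)) (.node (.leaf 286981145778304) (.leaf 0)))) (.node (.node (.node (.leaf 18141942228992) (.leaf 300177433282690)) (.node (.leaf 282583090858112) (.leaf 0))) (.node (.node (.leaf 28046153711744) (.leaf 308977812416642)) (.node (.leaf 291385635072130) (.leaf 0)))))))))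

def orbV7 : Janko.Tree ℕ :=
  (.node (.node (.node (.node (.node (.node (.node (.node (.leaf 43008) (.leaf 291787218411651)) (.node (.leaf 28052591710337) (.leaf 309377231964290))) (.node (.node (.leaf 18148388649091) (.leaf 300583294838915)) (.node (.leaf 282986821978112) (.leaf 0)))) (.node (.node (.node (.leaf 1374419005571) (.leaf 296187387230211)) (.node (.leaf 32588077135872) (.leaf 313775286847618))) (.node (.node (.leaf 23783402588162) (.leaf 304979210621059)) (.node (.leaf 287384868505600) (.leaf 0))))) (.node (.node (.node (.node (.leaf 6455365762) (.leaf 293986241609730)) (.node (.leaf 30380459599874) (.leaf 311576255502339))) (.node (.node (.leaf 20347407611907) (.leaf 302778023266434)) (.node (.leaf 285190140385281) (.leaf 0)))) (.node (.node (.node (.leaf 1939202899968) (.leaf 298384263313538)) (.node (.leaf 34649661501569) (.leaf 315972162607107))) (.node (.node (.leaf 25853555802115) (.leaf 307180381143042)) (.node (.leaf 289590334687361) (.leaf 0)))))) (.node (.node (.node (.node (.node (.leaf 4299561088) (.leaf 292886713366659)) (.node (.leaf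 29839297947779) (.leaf 310481047117952))) (.node (.node (.leaf 19797651890304) (.leaf 301684970985473)) (.node (.leaf 284090636959746) (.leaf 0)))) (.node (.node (.node (.leaf 1662181836800) (.leaf 297284776956035)) (.node (.leaf 34228746258435) (.leaf 314876962537474))) (.node (.node (.leaf 25441259841667) (.leaf 306078722220163)) (.node (.leaf 288490831302786) (.leaf 0))))) (.node (.node (.node (.node (.leaf 1099536861312) (.leaf 295087900764161)) (.node (.leaf 31892279752835) (.leaf 312680087009280))) (.node (.node (.leaf 23096203597954) (.leaf 303881846519937)) (.node (.leaf 286285365266432) (.leaf 0)))) (.node (.node (.node (.leaf 17598628659328) (.leaf 299481652465795)) (.node (.leaf 281887318738944) (.leaf 0))) (.node (.node (.leaf 27494241533954) (.leaf 308282023733250)) (.node (.leaf 290687690010753) (.leaf 0))))))) (.node (.node (.node (.node (.node (.node (.leaf 12705920) (.leaf 292339105335425)) (.node (.leaf 28456314331266) (.leaf 309929151866880))) (.node (.node (.leaf 18431877316608) (.leaf 301130920157313)) (.node (.leaf 283538708621442) (.leaf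 0)))) (.node (.node (.node (.leaf 1511853701123) (.leaf 296735012743168)) (.node (.leaf 32716913410051) (.leaf 314327206842497))) (.node (.node (.leaf 24066849339521) (.leaf 305531097426048)) (.node (.leaf 287936755046403) (.leaf 0))))) (.node (.node (.node (.node (.leaf 6472093824) (.leaf 294538128615552)) (.node (.leaf 30526480220160) (.leaf 312128175405057))) (.node (.node (.leaf 20630900758529) (.leaf 303334237929472)) (.node (.leaf 285742026962947) (.leaf 0)))) (.node (.node (.node (.leaf 2076642224129) (.leaf 298936183236737)) (.node (.leaf 35053379901571) (.leaf 316528377462784))) (.node (.node (.leaf 26119864680578) (.leaf 307727973021697)) (.node (.leaf 290137926228098) (.leaf 0)))))) (.node (.node (.node (.node (.node (.leaf 4324792450) (.leaf 293438616787073)) (.node (.leaf 29968142837890) (.leaf 311024360611970))) (.node (.node (.leaf 20081127981058) (.leaf 302228284094467)) (.node (.leaf 284642540257280) (.leaf 0)))) (.node (.node (.node (.leaf 1799616462850) (.leaf 297836679790592)) (.node (.leaf 34374779142146) (.leaf 315424571101313))) (.node (.node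 (.leaf 25707543685250) (.leaf 306630625841280)) (.node (.leaf 289038439604353) (.leaf 0))))) (.node (.node (.node (.node (.leaf 1236975816832) (.leaf 295635509549058)) (.node (.leaf 32313199177859) (.leaf 313223400130563))) (.node (.node (.leaf 23379675506817) (.leaf 304429455042562)) (.node (.leaf 286837268666499) (.leaf 0)))) (.node (.node (.node (.leaf 17882108983427) (.leaf 300033556058241)) (.node (.leaf 282439222077442) (.leaf 0))) (.node (.node (.leaf 27915144349698) (.leaf 308825336924160)) (.node (.leaf 291239593668739) (.leaf 0)))))))) (.node (.node (.node (.node (.node (.node (.node (.leaf 8405120) (.leaf 292064235739138)) (.node (.leaf 28452023652481) (.leaf 309656413335683))) (.node (.node (.leaf 18427586676864) (.leaf 300853869152259)) (.node (.leaf 283263855859840) (.leaf 0)))) (.node (.node (.node (.leaf 1511837118592) (.leaf 296460126347395)) (.node (.leaf 32712631193729) (.leaf 314054451452034))) (.node (.node (.leaf 24062575396992) (.leaf 305258374928386)) (.node (.leaf 287661902379137) (.leaf 0))))) (.node (.node (.node (.node (.leaf 6468092032)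 (.leaf 294263258945667)) (.node (.leaf 30522185275395) (.leaf 311855436267522))) (.node (.node (.leaf 20626605709442) (.leaf 303057187817602)) (.node (.leaf 285467174234113) (.leaf 0)))) (.node (.node (.node (.leaf 2076625076226) (.leaf 298661296734210)) (.node (.leaf 35049093382273) (.leaf 316251327277059))) (.node (.node (.leaf 26115548676099) (.leaf 307450955950083)) (.node (.leaf 289863073421440) (.leaf 0)))))) (.node (.node (.node (.node (.node (.leaf 4320477314) (.leaf 293163755790466)) (.node (.leaf 29963847776257) (.leaf 310751646697601))) (.node (.node (.leaf 20076833269761) (.leaf 301955537020929)) (.node (.leaf 284367645573122) (.leaf 0)))) (.node (.node (.node (.leaf 1799599929346) (.leaf 297561785327747)) (.node (.leaf 34370475911296) (.leaf 315147529154690))) (.node (.node (.leaf 25703236237443) (.leaf 306357878128642)) (.node (.leaf 288763544973443) (.leaf 0))))) (.node (.node (.node (.node (.leaf 1236958971904) (.leaf 295360614647937)) (.node (.leaf 32308891703425) (.leaf 312950653310976))) (.node (.node (.leaf 23375359723648) (.leaf 304152412489728))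 (.node (.leaf 286562373908481) (.leaf 0)))) (.node (.node (.node (.leaf 17877809909891) (.leaf 299760808472707)) (.node (.leaf 282164327389184) (.leaf 0))) (.node (.node (.leaf 27910845175937) (.leaf 308552623575171)) (.node (.leaf 290964732442624) (.leaf 0))))))) (.node (.node (.node (.node (.node (.node (.leaf 4295229568) (.leaf 292611852261378)) (.node (.leaf 29834998839424) (.leaf 310204038598785))) (.node (.node (.leaf 19793356955776) (.leaf 301407928660097)) (.node (.leaf 283815742322690) (.leaf 0)))) (.node (.node (.node (.leaf 1662165024768) (.leaf 297009882331138)) (.node (.leaf 34224455329793) (.leaf 314604215527555))) (.node (.node (.leaf 25436948199426) (.leaf 305801679902723)) (.node (.leaf 288215936641026) (.leaf 0))))) (.node (.node (.node (.node (.leaf 1099520016384) (.leaf 294813006065792)) (.node (.leaf 31887993229441) (.leaf 312403044688001))) (.node (.node (.leaf 23091891886211) (.leaf 303609099137153)) (.node (.leaf 286010470563840) (.leaf 0)))) (.node (.node (.node (.leaf 17594333659264) (.leaf 299204610164739)) (.node (.leaf 281612424052736)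 (.leaf 0))) (.node (.node (.leaf 27489946701953) (.leaf 308005014956163)) (.node (.leaf 290412828844160) (.leaf 0)))))) (.node (.node (.node (.node (.node (.leaf 6451249282) (.leaf 293711338579971)) (.node (.leaf 30376168953985) (.leaf 311299255154818))) (.node (.node (.leaf 20343112636419) (.leaf 302505301374978)) (.node (.leaf 284915254063233) (.leaf 0)))) (.node (.node (.node (.leaf 1939190515712) (.leaf 298109410580611)) (.node (.leaf 34645353857027) (.leaf 315699440433154))) (.node (.node (.leaf 25849277546626) (.leaf 306907625748610)) (.node (.leaf 289315448381569) (.leaf 0))))) (.node (.node (.node (.node (.leaf 1374397962243) (.leaf 295912534472834)) (.node (.leaf 32583773784194) (.leaf 313498269730819))) (.node (.node (.leaf 23779090782339) (.leaf 304702159915011)) (.node (.leaf 287109982191616) (.leaf 0)))) (.node (.node (.node (.leaf 18144093673603) (.leaf 300310572644483)) (.node (.leaf 282711935680512) (.leaf 0))) (.node (.node (.leaf 28048296724610) (.leaf 309100231608323)) (.node (.leaf 291512315308162) (.leaf 0)))))))))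

/-- The vectors of the orbit of length 1755, in increasing order. -/
def orbV : Janko.Tree ℕ :=
  .node (.node (.node orbV0 orbV4) (.node orbV2 orbV6)) (.node (.node orbV1 orbV5) (.node orbV3 orbV7))

def orbI0_0 : Janko.Tree ℕ :=
  (.node (.node (.node (.node (.node (.node (.node (.node (.leaf 2) (.leaf 1010)) (.node (.leaf 1557) (.leaf 476))) (.node (.node (.leaf 1300) (.leaf 281)) (.node (.leaf 764) (.leaf 0)))) (.node (.node (.node (.leaf 142) (.leaf 1146)) (.node (.leaf 1689) (.leaf 604))) (.node (.node (.leaf 1399) (.leaf 348)) (.node (.leaf 892) (.leaf 0))))) (.node (.node (.node (.node (.leaf 201) (.leaf 1202)) (.node (.leaf 1715) (.leaf 667))) (.node (.node (.leaf 1492) (.leaf 433)) (.node (.leaf 941) (.leaf 0)))) (.node (.node (.node (.leaf 84) (.leaf 1070)) (.node (.leaf 1622) (.leaf 560))) (.node (.node (.leaf 1366) (.leaf 344)) (.node (.leaf 825) (.leaf 0)))))) (.node (.node (.node (.node (.node (.leaf 172) (.leaf 1234)) (.node (.leaf 1702) (.leaf 709))) (.node (.node (.leaf 1448) (.leaf 453)) (.node (.leaf 978) (.leaf 0)))) (.node (.node (.node (.leaf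 30) (.leaf 1102)) (.node (.leaf 1604) (.leaf 600))) (.node (.node (.leaf 1321) (.leaf 284)) (.node (.leaf 854) (.leaf 0))))) (.node (.node (.node (.node (.leaf 96) (.leaf 1174)) (.node (.leaf 1672) (.leaf 646))) (.node (.node (.leaf 1412) (.leaf 410)) (.node (.leaf 860) (.leaf 0)))) (.node (.node (.node (.leaf 1255) (.leaf 221)) (.node (.leaf 732) (.leaf 0))) (.node (.node (.leaf 1544) (.leaf 516)) (.node (.leaf 1038) (.leaf 0))))))) (.node (.node (.node (.node (.node (.node (.leaf 15) (.leaf 1029)) (.node (.leaf 1515) (.leaf 505))) (.node (.node (.leaf 1266) (.leaf 254)) (.node (.leaf 755) (.leaf 0)))) (.node (.node (.node (.leaf 153) (.leaf 1150)) (.node (.leaf 1647) (.leaf 633))) (.node (.node (.leaf 1421) (.leaf 376)) (.node (.leaf 883) (.leaf 0))))) (.node (.node (.node (.node (.leaf 203) (.leaf 1221)) (.node (.leaf 1742) (.leaf 698))) (.node (.node (.leaf 1454) (.leaf 419)) (.node (.leaf 966) (.leaf 0)))) (.node (.node (.node (.leaf 60) (.leaf 1097)) (.node (.leaf 1579) (.leaf 549))) (.node (.node (.leaf 1324) (.leaf 316)) (.node (.leaf 833) (.leaf 0))))))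 (.node (.node (.node (.node (.node (.leaf 165) (.leaf 1189)) (.node (.leaf 1728) (.leaf 722))) (.node (.node (.leaf 1474) (.leaf 463)) (.node (.leaf 937) (.leaf 0)))) (.node (.node (.node (.leaf 53) (.leaf 1065)) (.node (.leaf 1570) (.leaf 571))) (.node (.node (.leaf 1343) (.leaf 314)) (.node (.leaf 798) (.leaf 0))))) (.node (.node (.node (.node (.leaf 112) (.leaf 1122)) (.node (.leaf 1630) (.leaf 657))) (.node (.node (.leaf 1378) (.leaf 382)) (.node (.leaf 915) (.leaf 0)))) (.node (.node (.node (.leaf 1277) (.leaf 250)) (.node (.leaf 787) (.leaf 0))) (.node (.node (.leaf 1502) (.leaf 527)) (.node (.leaf 1001) (.leaf 0)))))))) (.node (.node (.node (.node (.node (.node (.node (.leaf 23) (.leaf 1017)) (.node (.leaf 1512) (.leaf 480))) (.node (.node (.leaf 1254) (.leaf 278)) (.node (.leaf 772) (.leaf 0)))) (.node (.node (.node (.leaf 147) (.leaf 1137)) (.node (.leaf 1636) (.leaf 608))) (.node (.node (.leaf 1417) (.leaf 354)) (.node (.leaf 900) (.leaf 0))))) (.node (.node (.node (.node (.leaf 194) (.leaf 1209)) (.node (.leaf 1738) (.leaf 671))) (.node (.node (.leaf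 1446) (.leaf 427)) (.node (.leaf 950) (.leaf 0)))) (.node (.node (.node (.leaf 76) (.leaf 1077)) (.node (.leaf 1575) (.leaf 556))) (.node (.node (.leaf 1316) (.leaf 342)) (.node (.leaf 818) (.leaf 0)))))) (.node (.node (.node (.node (.node (.leaf 186) (.leaf 1241)) (.node (.leaf 1752) (.leaf 713))) (.node (.node (.leaf 1497) (.leaf 455)) (.node (.leaf 985) (.leaf 0)))) (.node (.node (.node (.leaf 36) (.leaf 1109)) (.node (.leaf 1594) (.leaf 596))) (.node (.node (.leaf 1368) (.leaf 288)) (.node (.leaf 845) (.leaf 0))))) (.node (.node (.node (.node (.leaf 100) (.leaf 1165)) (.node (.leaf 1654) (.leaf 650))) (.node (.node (.leaf 1397) (.leaf 404)) (.node (.leaf 868) (.leaf 0)))) (.node (.node (.node (.leaf 1306) (.leaf 225)) (.node (.leaf 740) (.leaf 0))) (.node (.node (.leaf 1526) (.leaf 520)) (.node (.leaf 1045) (.leaf 0))))))) (.node (.node (.node (.node (.node (.node (.leaf 7) (.leaf 1026)) (.node (.leaf 1537) (.leaf 500))) (.node (.node (.leaf 1279) (.leaf 255)) (.node (.leaf 751) (.leaf 0)))) (.node (.node (.node (.leaf 131) (.leaf 1161)) (.node (.leaf 1661)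 (.leaf 628))) (.node (.node (.leaf 1372) (.leaf 371)) (.node (.leaf 879) (.leaf 0))))) (.node (.node (.node (.node (.leaf 213) (.leaf 1217)) (.node (.leaf 1696) (.leaf 691))) (.node (.node (.leaf 1472) (.leaf 424)) (.node (.leaf 962) (.leaf 0)))) (.node (.node (.node (.leaf 89) (.leaf 1085)) (.node (.leaf 1601) (.leaf 552))) (.node (.node (.leaf 1341) (.leaf 319)) (.node (.leaf 837) (.leaf 0)))))) (.node (.node (.node (.node (.node (.leaf 162) (.leaf 1185)) (.node (.leaf 1709) (.leaf 715))) (.node (.node (.leaf 1451) (.leaf 460)) (.node (.leaf 925) (.leaf 0)))) (.node (.node (.node (.leaf 44) (.leaf 1053)) (.node (.leaf 1611) (.leaf 578))) (.node (.node (.leaf 1329) (.leaf 307)) (.node (.leaf 810) (.leaf 0))))) (.node (.node (.node (.node (.leaf 116) (.leaf 1125)) (.node (.leaf 1679) (.leaf 652))) (.node (.node (.leaf 1424) (.leaf 385)) (.node (.leaf 911) (.leaf 0)))) (.node (.node (.node (.leaf 1259) (.leaf 244)) (.node (.leaf 783) (.leaf 0))) (.node (.node (.leaf 1551) (.leaf 526)) (.node (.leaf 990) (.leaf 0)))))))))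

def orbI0_1 : Janko.Tree ℕ :=
  (.node (.node (.node (.node (.node (.node (.node (.node (.leaf 1) (.leaf 1043)) (.node (.leaf 1558) (.leaf 536))) (.node (.node (.leaf 1299) (.leaf 239)) (.node (.leaf 733) (.leaf 0)))) (.node (.node (.node (.leaf 133) (.leaf 1167)) (.node (.leaf 1690) (.leaf 666))) (.node (.node (.leaf 1400) (.leaf 390)) (.node (.leaf 861) (.leaf 0))))) (.node (.node (.node (.node (.leaf 198) (.leaf 1239)) (.node (.leaf 1716) (.leaf 728))) (.node (.node (.leaf 1491) (.leaf 471)) (.node (.leaf 976) (.leaf 0)))) (.node (.node (.node (.leaf 71) (.leaf 1112)) (.node (.leaf 1621) (.leaf 581))) (.node (.node (.leaf 1365) (.leaf 305)) (.node (.leaf 852) (.leaf 0)))))) (.node (.node (.node (.node (.node (.leaf 177) (.leaf 1207)) (.node (.leaf 1701) (.leaf 689))) (.node (.node (.leaf 1447) (.leaf 414)) (.node (.leaf 939) (.leaf 0)))) (.node (.node (.node (.leaf 55) (.leaf 1080)) (.node (.leaf 1603) (.leaf 542))) (.node (.node (.leaf 1322) (.leaf 324)) (.node (.leaf 823) (.leaf 0))))) (.node (.node (.node (.node (.leaf 117) (.leaf 1131)) (.node (.leaf 1671)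 (.leaf 623))) (.node (.node (.leaf 1411) (.leaf 369)) (.node (.leaf 893) (.leaf 0)))) (.node (.node (.node (.leaf 1256) (.leaf 262)) (.node (.leaf 765) (.leaf 0))) (.node (.node (.leaf 1543) (.leaf 495)) (.node (.leaf 1015) (.leaf 0))))))) (.node (.node (.node (.node (.node (.node (.leaf 18) (.leaf 991)) (.node (.leaf 1516) (.leaf 507))) (.node (.node (.leaf 1265) (.leaf 228)) (.node (.leaf 790) (.leaf 0)))) (.node (.node (.node (.leaf 123) (.leaf 1124)) (.node (.leaf 1648) (.leaf 637))) (.node (.node (.leaf 1422) (.leaf 402)) (.node (.leaf 918) (.leaf 0))))) (.node (.node (.node (.node (.leaf 210) (.leaf 1179)) (.node (.leaf 1741) (.leaf 699))) (.node (.node (.leaf 1453) (.leaf 445)) (.node (.leaf 935) (.leaf 0)))) (.node (.node (.node (.leaf 82) (.leaf 1052)) (.node (.leaf 1580) (.leaf 594))) (.node (.node (.leaf 1323) (.leaf 293)) (.node (.leaf 796) (.leaf 0)))))) (.node (.node (.node (.node (.node (.leaf 170) (.leaf 1211)) (.node (.leaf 1727) (.leaf 676))) (.node (.node (.leaf 1473) (.leaf 440)) (.node (.leaf 964) (.leaf 0)))) (.node (.node (.node (.leaf 33)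 (.leaf 1084)) (.node (.leaf 1569) (.leaf 567))) (.node (.node (.leaf 1344) (.leaf 338)) (.node (.leaf 831) (.leaf 0))))) (.node (.node (.node (.node (.leaf 106) (.leaf 1160)) (.node (.leaf 1629) (.leaf 614))) (.node (.node (.leaf 1377) (.leaf 357)) (.node (.leaf 886) (.leaf 0)))) (.node (.node (.node (.leaf 1278) (.leaf 273)) (.node (.leaf 758) (.leaf 0))) (.node (.node (.leaf 1501) (.leaf 486)) (.node (.leaf 1019) (.leaf 0)))))))) (.node (.node (.node (.node (.node (.node (.node (.leaf 26) (.leaf 1036)) (.node (.leaf 1511) (.leaf 532))) (.node (.node (.leaf 1253) (.leaf 236)) (.node (.leaf 741) (.leaf 0)))) (.node (.node (.node (.leaf 125) (.leaf 1176)) (.node (.leaf 1635) (.leaf 662))) (.node (.node (.leaf 1418) (.leaf 392)) (.node (.leaf 869) (.leaf 0))))) (.node (.node (.node (.node (.leaf 189) (.leaf 1232)) (.node (.leaf 1737) (.leaf 724))) (.node (.node (.leaf 1445) (.leaf 469)) (.node (.leaf 983) (.leaf 0)))) (.node (.node (.node (.leaf 64) (.leaf 1103)) (.node (.leaf 1576) (.leaf 585))) (.node (.node (.leaf 1315) (.leaf 301)) (.node (.leaf 843) (.leaf 0))))))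 (.node (.node (.node (.node (.node (.leaf 179) (.leaf 1200)) (.node (.leaf 1751) (.leaf 685))) (.node (.node (.leaf 1498) (.leaf 416)) (.node (.leaf 948) (.leaf 0)))) (.node (.node (.node (.leaf 50) (.leaf 1071)) (.node (.leaf 1593) (.leaf 546))) (.node (.node (.leaf 1367) (.leaf 330)) (.node (.leaf 816) (.leaf 0))))) (.node (.node (.node (.node (.leaf 114) (.leaf 1140)) (.node (.leaf 1653) (.leaf 619))) (.node (.node (.leaf 1398) (.leaf 363)) (.node (.leaf 901) (.leaf 0)))) (.node (.node (.node (.leaf 1305) (.leaf 266)) (.node (.leaf 773) (.leaf 0))) (.node (.node (.leaf 1525) (.leaf 491)) (.node (.leaf 1008) (.leaf 0))))))) (.node (.node (.node (.node (.node (.node (.leaf 10) (.leaf 996)) (.node (.leaf 1538) (.leaf 514))) (.node (.node (.leaf 1280) (.leaf 233)) (.node (.leaf 786) (.leaf 0)))) (.node (.node (.node (.leaf 144) (.leaf 1119)) (.node (.leaf 1662) (.leaf 640))) (.node (.node (.leaf 1371) (.leaf 397)) (.node (.leaf 914) (.leaf 0))))) (.node (.node (.node (.node (.leaf 216) (.leaf 1191)) (.node (.leaf 1695) (.leaf 706))) (.node (.node (.leaf 1471) (.leaf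 450)) (.node (.leaf 923) (.leaf 0)))) (.node (.node (.node (.leaf 68) (.leaf 1064)) (.node (.leaf 1602) (.leaf 587))) (.node (.node (.leaf 1342) (.leaf 296)) (.node (.leaf 808) (.leaf 0)))))) (.node (.node (.node (.node (.node (.leaf 157) (.leaf 1223)) (.node (.leaf 1710) (.leaf 681))) (.node (.node (.leaf 1452) (.leaf 435)) (.node (.leaf 960) (.leaf 0)))) (.node (.node (.node (.leaf 39) (.leaf 1096)) (.node (.leaf 1612) (.leaf 566))) (.node (.node (.leaf 1330) (.leaf 333)) (.node (.leaf 835) (.leaf 0))))) (.node (.node (.node (.node (.leaf 93) (.leaf 1147)) (.node (.leaf 1680) (.leaf 615))) (.node (.node (.leaf 1423) (.leaf 362)) (.node (.leaf 882) (.leaf 0)))) (.node (.node (.node (.leaf 1260) (.leaf 267)) (.node (.leaf 754) (.leaf 0))) (.node (.node (.leaf 1552) (.leaf 487)) (.node (.leaf 1032) (.leaf 0)))))))))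

def orbI0_2 : Janko.Tree ℕ :=
  (.node (.node (.node (.node (.node (.node (.node (.node (.leaf 0) (.leaf 1048)) (.node (.leaf 1561) (.leaf 537))) (.node (.node (.leaf 1303) (.leaf 242)) (.node (.leaf 738) (.leaf 0)))) (.node (.node (.node (.leaf 134) (.leaf 1164)) (.node (.leaf 1685) (.leaf 663))) (.node (.node (.leaf 1395) (.leaf 387)) (.node (.leaf 866) (.leaf 0))))) (.node (.node (.node (.node (.leaf 197) (.leaf 1235)) (.node (.leaf 1720) (.leaf 729))) (.node (.node (.leaf 1495) (.leaf 474)) (.node (.leaf 972) (.leaf 0)))) (.node (.node (.node (.leaf 72) (.leaf 1108)) (.node (.leaf 1625) (.leaf 580))) (.node (.node (.leaf 1369) (.leaf 304)) (.node (.leaf 856) (.leaf 0)))))) (.node (.node (.node (.node (.node (.leaf 178) (.leaf 1203)) (.node (.leaf 1705) (.leaf 688))) (.node (.node (.leaf 1443) (.leaf 411)) (.node (.leaf 943) (.leaf 0)))) (.node (.node (.node (.leaf 56) (.leaf 1076)) (.node (.leaf 1607) (.leaf 539))) (.node (.node (.leaf 1318) (.leaf 325)) (.node (.leaf 819) (.leaf 0))))) (.node (.node (.node (.node (.leaf 118) (.leaf 1136)) (.node (.leaf 1668)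 (.leaf 626))) (.node (.node (.leaf 1416) (.leaf 368)) (.node (.leaf 898) (.leaf 0)))) (.node (.node (.node (.leaf 1252) (.leaf 259)) (.node (.leaf 770) (.leaf 0))) (.node (.node (.leaf 1540) (.leaf 498)) (.node (.leaf 1012) (.leaf 0))))))) (.node (.node (.node (.node (.node (.node (.leaf 17) (.leaf 988)) (.node (.leaf 1519) (.leaf 510))) (.node (.node (.leaf 1261) (.leaf 229)) (.node (.leaf 793) (.leaf 0)))) (.node (.node (.node (.leaf 124) (.leaf 1127)) (.node (.leaf 1643) (.leaf 636))) (.node (.node (.leaf 1425) (.leaf 399)) (.node (.leaf 921) (.leaf 0))))) (.node (.node (.node (.node (.leaf 209) (.leaf 1183)) (.node (.leaf 1745) (.leaf 702))) (.node (.node (.leaf 1457) (.leaf 444)) (.node (.leaf 931) (.leaf 0)))) (.node (.node (.node (.leaf 81) (.leaf 1056)) (.node (.leaf 1584) (.leaf 591))) (.node (.node (.leaf 1327) (.leaf 292)) (.node (.leaf 800) (.leaf 0)))))) (.node (.node (.node (.node (.node (.leaf 169) (.leaf 1215)) (.node (.leaf 1723) (.leaf 677))) (.node (.node (.leaf 1469) (.leaf 441)) (.node (.leaf 968) (.leaf 0)))) (.node (.node (.node (.leaf 34)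 (.leaf 1088)) (.node (.leaf 1565) (.leaf 570))) (.node (.node (.leaf 1340) (.leaf 335)) (.node (.leaf 827) (.leaf 0))))) (.node (.node (.node (.node (.leaf 105) (.leaf 1155)) (.node (.leaf 1634) (.leaf 611))) (.node (.node (.leaf 1374) (.leaf 356)) (.node (.leaf 889) (.leaf 0)))) (.node (.node (.node (.leaf 1282) (.leaf 272)) (.node (.leaf 761) (.leaf 0))) (.node (.node (.leaf 1506) (.leaf 483)) (.node (.leaf 1024) (.leaf 0)))))))) (.node (.node (.node (.node (.node (.node (.node (.leaf 25) (.leaf 1039)) (.node (.leaf 1508) (.leaf 533))) (.node (.node (.leaf 1257) (.leaf 237)) (.node (.leaf 746) (.leaf 0)))) (.node (.node (.node (.leaf 126) (.leaf 1171)) (.node (.leaf 1640) (.leaf 659))) (.node (.node (.leaf 1413) (.leaf 393)) (.node (.leaf 874) (.leaf 0))))) (.node (.node (.node (.node (.leaf 190) (.leaf 1228)) (.node (.leaf 1733) (.leaf 725))) (.node (.node (.leaf 1449) (.leaf 468)) (.node (.leaf 979) (.leaf 0)))) (.node (.node (.node (.leaf 63) (.leaf 1099)) (.node (.leaf 1572) (.leaf 584))) (.node (.node (.leaf 1319) (.leaf 300)) (.node (.leaf 847) (.leaf 0))))))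 (.node (.node (.node (.node (.node (.leaf 180) (.leaf 1196)) (.node (.leaf 1747) (.leaf 684))) (.node (.node (.leaf 1494) (.leaf 417)) (.node (.leaf 952) (.leaf 0)))) (.node (.node (.node (.leaf 49) (.leaf 1067)) (.node (.leaf 1589) (.leaf 543))) (.node (.node (.leaf 1363) (.leaf 327)) (.node (.leaf 812) (.leaf 0))))) (.node (.node (.node (.node (.leaf 113) (.leaf 1143)) (.node (.leaf 1658) (.leaf 622))) (.node (.node (.leaf 1401) (.leaf 366)) (.node (.leaf 906) (.leaf 0)))) (.node (.node (.node (.leaf 1301) (.leaf 263)) (.node (.leaf 778) (.leaf 0))) (.node (.node (.leaf 1530) (.leaf 494)) (.node (.leaf 1003) (.leaf 0))))))) (.node (.node (.node (.node (.node (.node (.leaf 9) (.leaf 999)) (.node (.leaf 1533) (.leaf 511))) (.node (.node (.leaf 1276) (.leaf 232)) (.node (.leaf 781) (.leaf 0)))) (.node (.node (.node (.leaf 143) (.leaf 1116)) (.node (.leaf 1665) (.leaf 641))) (.node (.node (.leaf 1376) (.leaf 396)) (.node (.leaf 909) (.leaf 0))))) (.node (.node (.node (.node (.leaf 215) (.leaf 1187)) (.node (.leaf 1691) (.leaf 703))) (.node (.node (.leaf 1467) (.leaf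 447)) (.node (.leaf 927) (.leaf 0)))) (.node (.node (.node (.leaf 67) (.leaf 1060)) (.node (.leaf 1598) (.leaf 590))) (.node (.node (.leaf 1346) (.leaf 297)) (.node (.leaf 804) (.leaf 0)))))) (.node (.node (.node (.node (.node (.leaf 158) (.leaf 1219)) (.node (.leaf 1714) (.leaf 680))) (.node (.node (.leaf 1456) (.leaf 438)) (.node (.leaf 956) (.leaf 0)))) (.node (.node (.node (.leaf 40) (.leaf 1092)) (.node (.leaf 1616) (.leaf 563))) (.node (.node (.leaf 1326) (.leaf 332)) (.node (.leaf 839) (.leaf 0))))) (.node (.node (.node (.node (.leaf 94) (.leaf 1152)) (.node (.leaf 1675) (.leaf 618))) (.node (.node (.leaf 1420) (.leaf 359)) (.node (.leaf 877) (.leaf 0)))) (.node (.node (.node (.leaf 1264) (.leaf 270)) (.node (.leaf 749) (.leaf 0))) (.node (.node (.leaf 1547) (.leaf 490)) (.node (.leaf 1027) (.leaf 0)))))))))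

def orbI0_3 : Janko.Tree ℕ :=
  (.node (.node (.node (.node (.node (.node (.node (.node (.leaf 19) (.leaf 1018)) (.node (.leaf 1499) (.leaf 479))) (.node (.node (.leaf 1250) (.leaf 276)) (.node (.leaf 771) (.leaf 0)))) (.node (.node (.node (.leaf 152) (.leaf 1138)) (.node (.leaf 1631) (.leaf 607))) (.node (.node (.leaf 1410) (.leaf 353)) (.node (.leaf 899) (.leaf 0))))) (.node (.node (.node (.node (.leaf 218) (.leaf 1206)) (.node (.leaf 1726) (.leaf 673))) (.node (.node (.leaf 1437) (.leaf 429)) (.node (.leaf 953) (.leaf 0)))) (.node (.node (.node (.leaf 77) (.leaf 1082)) (.node (.leaf 1563) (.leaf 558))) (.node (.node (.leaf 1307) (.leaf 340)) (.node (.leaf 813) (.leaf 0)))))) (.node (.node (.node (.node (.node (.leaf 167) (.leaf 1238)) (.node (.leaf 1739) (.leaf 711))) (.node (.node (.leaf 1486) (.leaf 457)) (.node (.leaf 982) (.leaf 0)))) (.node (.node (.node (.leaf 37) (.leaf 1114)) (.node (.leaf 1581) (.leaf 598))) (.node (.node (.leaf 1360) (.leaf 290)) (.node (.leaf 850) (.leaf 0))))) (.node (.node (.node (.node (.leaf 103) (.leaf 1166)) (.node (.leaf 1650)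 (.leaf 649))) (.node (.node (.leaf 1389) (.leaf 403)) (.node (.leaf 867) (.leaf 0)))) (.node (.node (.node (.leaf 1293) (.leaf 223)) (.node (.leaf 739) (.leaf 0))) (.node (.node (.leaf 1522) (.leaf 519)) (.node (.leaf 1046) (.leaf 0))))))) (.node (.node (.node (.node (.node (.node (.leaf 3) (.leaf 1025)) (.node (.leaf 1542) (.leaf 499))) (.node (.node (.leaf 1287) (.leaf 257)) (.node (.leaf 752) (.leaf 0)))) (.node (.node (.node (.leaf 136) (.leaf 1162)) (.node (.leaf 1674) (.leaf 627))) (.node (.node (.leaf 1379) (.leaf 372)) (.node (.leaf 880) (.leaf 0))))) (.node (.node (.node (.node (.leaf 191) (.leaf 1214)) (.node (.leaf 1700) (.leaf 693))) (.node (.node (.leaf 1479) (.leaf 426)) (.node (.leaf 957) (.leaf 0)))) (.node (.node (.node (.leaf 70) (.leaf 1090)) (.node (.leaf 1605) (.leaf 554))) (.node (.node (.leaf 1350) (.leaf 321)) (.node (.leaf 842) (.leaf 0)))))) (.node (.node (.node (.node (.node (.leaf 174) (.leaf 1182)) (.node (.leaf 1722) (.leaf 717))) (.node (.node (.leaf 1464) (.leaf 462)) (.node (.leaf 930) (.leaf 0)))) (.node (.node (.node (.leaf 41)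 (.leaf 1058)) (.node (.leaf 1624) (.leaf 576))) (.node (.node (.leaf 1337) (.leaf 309)) (.node (.leaf 805) (.leaf 0))))) (.node (.node (.node (.node (.leaf 119) (.leaf 1126)) (.node (.leaf 1683) (.leaf 651))) (.node (.node (.leaf 1432) (.leaf 386)) (.node (.leaf 912) (.leaf 0)))) (.node (.node (.node (.leaf 1268) (.leaf 246)) (.node (.leaf 784) (.leaf 0))) (.node (.node (.leaf 1555) (.leaf 525)) (.node (.leaf 989) (.leaf 0)))))))) (.node (.node (.node (.node (.node (.node (.node (.leaf 11) (.leaf 1030)) (.node (.leaf 1527) (.leaf 506))) (.node (.node (.leaf 1273) (.leaf 252)) (.node (.leaf 756) (.leaf 0)))) (.node (.node (.node (.leaf 150) (.leaf 1149)) (.node (.leaf 1651) (.leaf 634))) (.node (.node (.leaf 1429) (.leaf 375)) (.node (.leaf 884) (.leaf 0))))) (.node (.node (.node (.node (.leaf 199) (.leaf 1226)) (.node (.leaf 1753) (.leaf 696))) (.node (.node (.leaf 1462) (.leaf 421)) (.node (.leaf 969) (.leaf 0)))) (.node (.node (.node (.leaf 80) (.leaf 1094)) (.node (.leaf 1592) (.leaf 547))) (.node (.node (.leaf 1332) (.leaf 318)) (.node (.leaf 830) (.leaf 0))))))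 (.node (.node (.node (.node (.node (.leaf 183) (.leaf 1194)) (.node (.leaf 1732) (.leaf 720))) (.node (.node (.leaf 1478) (.leaf 465)) (.node (.leaf 934) (.leaf 0)))) (.node (.node (.node (.leaf 31) (.leaf 1062)) (.node (.leaf 1574) (.leaf 573))) (.node (.node (.leaf 1352) (.leaf 312)) (.node (.leaf 801) (.leaf 0))))) (.node (.node (.node (.node (.leaf 107) (.leaf 1121)) (.node (.leaf 1641) (.leaf 658))) (.node (.node (.leaf 1385) (.leaf 381)) (.node (.leaf 916) (.leaf 0)))) (.node (.node (.node (.leaf 1285) (.leaf 248)) (.node (.leaf 788) (.leaf 0))) (.node (.node (.leaf 1513) (.leaf 528)) (.node (.leaf 1002) (.leaf 0))))))) (.node (.node (.node (.node (.node (.node (.leaf 155) (.leaf 1229)) (.node (.leaf 1698) (.leaf 707))) (.node (.node (.leaf 1436) (.leaf 451)) (.node (.leaf 973) (.leaf 0)))) (.node (.node (.node (.leaf 27) (.leaf 1105)) (.node (.leaf 1600) (.leaf 602))) (.node (.node (.leaf 1314) (.leaf 286)) (.node (.leaf 857) (.leaf 0))))) (.node (.node (.node (.node (.leaf 91) (.leaf 1173)) (.node (.leaf 1659) (.leaf 645))) (.node (.node (.leaf 1403) (.leaf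 409)) (.node (.leaf 859) (.leaf 0)))) (.node (.node (.node (.leaf 1243) (.leaf 219)) (.node (.leaf 731) (.leaf 0))) (.node (.node (.leaf 1531) (.leaf 515)) (.node (.leaf 1037) (.leaf 0)))))) (.node (.node (.node (.node (.node (.leaf 207) (.leaf 1197)) (.node (.leaf 1712) (.leaf 669))) (.node (.node (.leaf 1484) (.leaf 431)) (.node (.leaf 946) (.leaf 0)))) (.node (.node (.node (.leaf 85) (.leaf 1073)) (.node (.leaf 1617) (.leaf 562))) (.node (.node (.leaf 1358) (.leaf 346)) (.node (.leaf 822) (.leaf 0))))) (.node (.node (.node (.node (.leaf 145) (.leaf 1145)) (.node (.leaf 1677) (.leaf 603))) (.node (.node (.leaf 1391) (.leaf 347)) (.node (.leaf 891) (.leaf 0)))) (.node (.node (.node (.leaf 1295) (.leaf 279)) (.node (.leaf 763) (.leaf 0))) (.node (.node (.leaf 1553) (.leaf 475)) (.node (.leaf 1009) (.leaf 0)))))))))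

def orbI0_4 : Janko.Tree ℕ :=
  (.node (.node (.node (.node (.node (.node (.node (.node (.leaf 20) (.leaf 1013)) (.node (.leaf 1504) (.leaf 482))) (.node (.node (.leaf 1246) (.leaf 277)) (.node (.leaf 776) (.leaf 0)))) (.node (.node (.node (.leaf 151) (.leaf 1133)) (.node (.leaf 1628) (.leaf 610))) (.node (.node (.leaf 1405) (.leaf 352)) (.node (.leaf 904) (.leaf 0))))) (.node (.node (.node (.node (.leaf 217) (.leaf 1210)) (.node (.leaf 1730) (.leaf 672))) (.node (.node (.leaf 1441) (.leaf 428)) (.node (.leaf 949) (.leaf 0)))) (.node (.node (.node (.leaf 78) (.leaf 1078)) (.node (.leaf 1567) (.leaf 555))) (.node (.node (.leaf 1311) (.leaf 341)) (.node (.leaf 817) (.leaf 0)))))) (.node (.node (.node (.node (.node (.leaf 168) (.leaf 1242)) (.node (.leaf 1743) (.leaf 714))) (.node (.node (.leaf 1490) (.leaf 456)) (.node (.leaf 986) (.leaf 0)))) (.node (.node (.node (.leaf 38) (.leaf 1110)) (.node (.leaf 1585) (.leaf 595))) (.node (.node (.leaf 1356) (.leaf 287)) (.node (.leaf 846) (.leaf 0))))) (.node (.node (.node (.node (.leaf 104) (.leaf 1169)) (.node (.leaf 1645)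 (.leaf 648))) (.node (.node (.leaf 1394) (.leaf 406)) (.node (.leaf 872) (.leaf 0)))) (.node (.node (.node (.leaf 1297) (.leaf 226)) (.node (.leaf 744) (.leaf 0))) (.node (.node (.leaf 1517) (.leaf 522)) (.node (.leaf 1049) (.leaf 0))))))) (.node (.node (.node (.node (.node (.node (.leaf 4) (.leaf 1022)) (.node (.leaf 1545) (.leaf 502))) (.node (.node (.leaf 1283) (.leaf 256)) (.node (.leaf 747) (.leaf 0)))) (.node (.node (.node (.leaf 135) (.leaf 1157)) (.node (.leaf 1669) (.leaf 630))) (.node (.node (.leaf 1384) (.leaf 373)) (.node (.leaf 875) (.leaf 0))))) (.node (.node (.node (.node (.leaf 192) (.leaf 1218)) (.node (.leaf 1704) (.leaf 692))) (.node (.node (.leaf 1475) (.leaf 423)) (.node (.leaf 961) (.leaf 0)))) (.node (.node (.node (.leaf 69) (.leaf 1086)) (.node (.leaf 1609) (.leaf 551))) (.node (.node (.leaf 1354) (.leaf 320)) (.node (.leaf 838) (.leaf 0)))))) (.node (.node (.node (.node (.node (.leaf 173) (.leaf 1186)) (.node (.leaf 1718) (.leaf 716))) (.node (.node (.leaf 1460) (.leaf 459)) (.node (.leaf 926) (.leaf 0)))) (.node (.node (.node (.leaf 42)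 (.leaf 1054)) (.node (.leaf 1620) (.leaf 577))) (.node (.node (.leaf 1333) (.leaf 308)) (.node (.leaf 809) (.leaf 0))))) (.node (.node (.node (.node (.leaf 120) (.leaf 1129)) (.node (.leaf 1688) (.leaf 654))) (.node (.node (.leaf 1427) (.leaf 383)) (.node (.leaf 907) (.leaf 0)))) (.node (.node (.node (.leaf 1272) (.leaf 243)) (.node (.leaf 779) (.leaf 0))) (.node (.node (.leaf 1560) (.leaf 524)) (.node (.leaf 994) (.leaf 0)))))))) (.node (.node (.node (.node (.node (.node (.node (.leaf 12) (.leaf 1033)) (.node (.leaf 1524) (.leaf 503))) (.node (.node (.leaf 1269) (.leaf 253)) (.node (.leaf 759) (.leaf 0)))) (.node (.node (.node (.leaf 149) (.leaf 1154)) (.node (.leaf 1656) (.leaf 631))) (.node (.node (.leaf 1434) (.leaf 378)) (.node (.leaf 887) (.leaf 0))))) (.node (.node (.node (.node (.leaf 200) (.leaf 1222)) (.node (.leaf 1749) (.leaf 697))) (.node (.node (.leaf 1466) (.leaf 420)) (.node (.leaf 965) (.leaf 0)))) (.node (.node (.node (.leaf 79) (.leaf 1098)) (.node (.leaf 1588) (.leaf 550))) (.node (.node (.leaf 1336) (.leaf 315)) (.node (.leaf 834) (.leaf 0))))))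 (.node (.node (.node (.node (.node (.leaf 184) (.leaf 1190)) (.node (.leaf 1736) (.leaf 721))) (.node (.node (.leaf 1482) (.leaf 464)) (.node (.leaf 938) (.leaf 0)))) (.node (.node (.node (.leaf 32) (.leaf 1066)) (.node (.leaf 1578) (.leaf 572))) (.node (.node (.leaf 1348) (.leaf 313)) (.node (.leaf 797) (.leaf 0))))) (.node (.node (.node (.node (.leaf 108) (.leaf 1118)) (.node (.leaf 1638) (.leaf 655))) (.node (.node (.leaf 1382) (.leaf 380)) (.node (.leaf 919) (.leaf 0)))) (.node (.node (.node (.leaf 1289) (.leaf 249)) (.node (.leaf 791) (.leaf 0))) (.node (.node (.leaf 1510) (.leaf 529)) (.node (.leaf 997) (.leaf 0))))))) (.node (.node (.node (.node (.node (.node (.leaf 156) (.leaf 1233)) (.node (.leaf 1694) (.leaf 710))) (.node (.node (.leaf 1440) (.leaf 454)) (.node (.leaf 977) (.leaf 0)))) (.node (.node (.node (.leaf 28) (.leaf 1101)) (.node (.leaf 1596) (.leaf 599))) (.node (.node (.leaf 1310) (.leaf 283)) (.node (.leaf 853) (.leaf 0))))) (.node (.node (.node (.node (.leaf 92) (.leaf 1178)) (.node (.leaf 1664) (.leaf 644))) (.node (.node (.leaf 1408) (.leaf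 408)) (.node (.leaf 864) (.leaf 0)))) (.node (.node (.node (.leaf 1247) (.leaf 222)) (.node (.leaf 736) (.leaf 0))) (.node (.node (.leaf 1536) (.leaf 518)) (.node (.leaf 1042) (.leaf 0)))))) (.node (.node (.node (.node (.node (.leaf 208) (.leaf 1201)) (.node (.leaf 1708) (.leaf 668))) (.node (.node (.leaf 1488) (.leaf 434)) (.node (.leaf 942) (.leaf 0)))) (.node (.node (.node (.leaf 86) (.leaf 1069)) (.node (.leaf 1613) (.leaf 559))) (.node (.node (.leaf 1362) (.leaf 343)) (.node (.leaf 826) (.leaf 0))))) (.node (.node (.node (.node (.leaf 146) (.leaf 1142)) (.node (.leaf 1682) (.leaf 606))) (.node (.node (.leaf 1388) (.leaf 350)) (.node (.leaf 896) (.leaf 0)))) (.node (.node (.node (.leaf 1291) (.leaf 282)) (.node (.leaf 768) (.leaf 0))) (.node (.node (.leaf 1550) (.leaf 478)) (.node (.leaf 1006) (.leaf 0)))))))))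

def orbI0_5 : Janko.Tree ℕ :=
  (.node (.node (.node (.node (.node (.node (.node (.node (.leaf 22) (.leaf 1040)) (.node (.leaf 1503) (.leaf 534))) (.node (.node (.leaf 1245) (.leaf 235)) (.node (.leaf 745) (.leaf 0)))) (.node (.node (.node (.leaf 129) (.leaf 1172)) (.node (.leaf 1627) (.leaf 660))) (.node (.node (.leaf 1406) (.leaf 394)) (.node (.leaf 873) (.leaf 0))))) (.node (.node (.node (.node (.leaf 212) (.leaf 1231)) (.node (.leaf 1729) (.leaf 723))) (.node (.node (.leaf 1442) (.leaf 470)) (.node (.leaf 984) (.leaf 0)))) (.node (.node (.node (.leaf 66) (.leaf 1104)) (.node (.leaf 1568) (.leaf 586))) (.node (.node (.leaf 1312) (.leaf 302)) (.node (.leaf 844) (.leaf 0)))))) (.node (.node (.node (.node (.node (.leaf 163) (.leaf 1199)) (.node (.leaf 1744) (.leaf 686))) (.node (.node (.leaf 1489) (.leaf 415)) (.node (.leaf 947) (.leaf 0)))) (.node (.node (.node (.leaf 48) (.leaf 1072)) (.node (.leaf 1586) (.leaf 545))) (.node (.node (.leaf 1355) (.leaf 329)) (.node (.leaf 815) (.leaf 0))))) (.node (.node (.node (.node (.leaf 110) (.leaf 1144)) (.node (.leaf 1646)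 (.leaf 621))) (.node (.node (.leaf 1393) (.leaf 365)) (.node (.leaf 905) (.leaf 0)))) (.node (.node (.node (.leaf 1298) (.leaf 265)) (.node (.leaf 777) (.leaf 0))) (.node (.node (.leaf 1518) (.leaf 493)) (.node (.leaf 1004) (.leaf 0))))))) (.node (.node (.node (.node (.node (.node (.leaf 6) (.leaf 1000)) (.node (.leaf 1546) (.leaf 512))) (.node (.node (.leaf 1284) (.leaf 234)) (.node (.leaf 782) (.leaf 0)))) (.node (.node (.node (.leaf 140) (.leaf 1115)) (.node (.leaf 1670) (.leaf 642))) (.node (.node (.leaf 1383) (.leaf 395)) (.node (.leaf 910) (.leaf 0))))) (.node (.node (.node (.node (.leaf 187) (.leaf 1192)) (.node (.leaf 1703) (.leaf 705))) (.node (.node (.leaf 1476) (.leaf 449)) (.node (.leaf 924) (.leaf 0)))) (.node (.node (.node (.leaf 88) (.leaf 1063)) (.node (.leaf 1610) (.leaf 588))) (.node (.node (.leaf 1353) (.leaf 295)) (.node (.leaf 807) (.leaf 0)))))) (.node (.node (.node (.node (.node (.leaf 176) (.leaf 1224)) (.node (.leaf 1717) (.leaf 682))) (.node (.node (.leaf 1459) (.leaf 436)) (.node (.leaf 959) (.leaf 0)))) (.node (.node (.node (.leaf 45)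 (.leaf 1095)) (.node (.leaf 1619) (.leaf 565))) (.node (.node (.leaf 1334) (.leaf 334)) (.node (.leaf 836) (.leaf 0))))) (.node (.node (.node (.node (.leaf 97) (.leaf 1151)) (.node (.leaf 1687) (.leaf 617))) (.node (.node (.leaf 1428) (.leaf 360)) (.node (.leaf 878) (.leaf 0)))) (.node (.node (.node (.leaf 1271) (.leaf 268)) (.node (.leaf 750) (.leaf 0))) (.node (.node (.leaf 1559) (.leaf 489)) (.node (.leaf 1028) (.leaf 0)))))))) (.node (.node (.node (.node (.node (.node (.node (.leaf 14) (.leaf 987)) (.node (.leaf 1523) (.leaf 509))) (.node (.node (.leaf 1270) (.leaf 227)) (.node (.leaf 794) (.leaf 0)))) (.node (.node (.node (.leaf 127) (.leaf 1128)) (.node (.leaf 1655) (.leaf 635))) (.node (.node (.leaf 1433) (.leaf 400)) (.node (.leaf 922) (.leaf 0))))) (.node (.node (.node (.node (.leaf 195) (.leaf 1180)) (.node (.leaf 1750) (.leaf 700))) (.node (.node (.leaf 1465) (.leaf 446)) (.node (.leaf 936) (.leaf 0)))) (.node (.node (.node (.leaf 61) (.leaf 1051)) (.node (.leaf 1587) (.leaf 593))) (.node (.node (.leaf 1335) (.leaf 294)) (.node (.leaf 795) (.leaf 0))))))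 (.node (.node (.node (.node (.node (.leaf 181) (.leaf 1212)) (.node (.leaf 1735) (.leaf 675))) (.node (.node (.leaf 1481) (.leaf 439)) (.node (.leaf 963) (.leaf 0)))) (.node (.node (.node (.leaf 52) (.leaf 1083)) (.node (.leaf 1577) (.leaf 568))) (.node (.node (.leaf 1347) (.leaf 337)) (.node (.leaf 832) (.leaf 0))))) (.node (.node (.node (.node (.leaf 102) (.leaf 1156)) (.node (.leaf 1637) (.leaf 612))) (.node (.node (.leaf 1381) (.leaf 355)) (.node (.leaf 890) (.leaf 0)))) (.node (.node (.node (.leaf 1290) (.leaf 274)) (.node (.leaf 762) (.leaf 0))) (.node (.node (.leaf 1509) (.leaf 484)) (.node (.leaf 1023) (.leaf 0))))))) (.node (.node (.node (.node (.node (.node (.leaf 159) (.leaf 1208)) (.node (.leaf 1693) (.leaf 690))) (.node (.node (.leaf 1439) (.leaf 413)) (.node (.leaf 940) (.leaf 0)))) (.node (.node (.node (.leaf 57) (.leaf 1079)) (.node (.leaf 1595) (.leaf 541))) (.node (.node (.leaf 1309) (.leaf 323)) (.node (.leaf 824) (.leaf 0))))) (.node (.node (.node (.node (.leaf 121) (.leaf 1135)) (.node (.leaf 1663) (.leaf 625))) (.node (.node (.leaf 1407) (.leaf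 367)) (.node (.leaf 897) (.leaf 0)))) (.node (.node (.node (.leaf 1248) (.leaf 261)) (.node (.leaf 769) (.leaf 0))) (.node (.node (.leaf 1535) (.leaf 497)) (.node (.leaf 1011) (.leaf 0)))))) (.node (.node (.node (.node (.node (.leaf 205) (.leaf 1240)) (.node (.leaf 1707) (.leaf 727))) (.node (.node (.leaf 1487) (.leaf 472)) (.node (.leaf 975) (.leaf 0)))) (.node (.node (.node (.leaf 73) (.leaf 1111)) (.node (.leaf 1614) (.leaf 582))) (.node (.node (.leaf 1361) (.leaf 306)) (.node (.leaf 851) (.leaf 0))))) (.node (.node (.node (.node (.leaf 137) (.leaf 1163)) (.node (.leaf 1681) (.leaf 664))) (.node (.node (.leaf 1387) (.leaf 388)) (.node (.leaf 865) (.leaf 0)))) (.node (.node (.node (.leaf 1292) (.leaf 240)) (.node (.leaf 737) (.leaf 0))) (.node (.node (.leaf 1549) (.leaf 538)) (.node (.leaf 1047) (.leaf 0)))))))))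

def orbI0_6 : Janko.Tree ℕ :=
  (.node (.node (.node (.node (.node (.node (.node (.node (.leaf 21) (.leaf 1035)) (.node (.leaf 1500) (.leaf 531))) (.node (.node (.leaf 1249) (.leaf 238)) (.node (.leaf 742) (.leaf 0)))) (.node (.node (.node (.leaf 130) (.leaf 1175)) (.node (.leaf 1632) (.leaf 661))) (.node (.node (.leaf 1409) (.leaf 391)) (.node (.leaf 870) (.leaf 0))))) (.node (.node (.node (.node (.leaf 211) (.leaf 1227)) (.node (.leaf 1725) (.leaf 726))) (.node (.node (.leaf 1438) (.leaf 467)) (.node (.leaf 980) (.leaf 0)))) (.node (.node (.node (.leaf 65) (.leaf 1100)) (.node (.leaf 1564) (.leaf 583))) (.node (.node (.leaf 1308) (.leaf 299)) (.node (.leaf 848) (.leaf 0)))))) (.node (.node (.node (.node (.node (.leaf 164) (.leaf 1195)) (.node (.leaf 1740) (.leaf 683))) (.node (.node (.leaf 1485) (.leaf 418)) (.node (.leaf 951) (.leaf 0)))) (.node (.node (.node (.leaf 47) (.leaf 1068)) (.node (.leaf 1582) (.leaf 544))) (.node (.node (.leaf 1359) (.leaf 328)) (.node (.leaf 811) (.leaf 0))))) (.node (.node (.node (.node (.leaf 109) (.leaf 1139)) (.node (.leaf 1649)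 (.leaf 620))) (.node (.node (.leaf 1390) (.leaf 364)) (.node (.leaf 902) (.leaf 0)))) (.node (.node (.node (.leaf 1294) (.leaf 264)) (.node (.leaf 774) (.leaf 0))) (.node (.node (.leaf 1521) (.leaf 492)) (.node (.leaf 1007) (.leaf 0))))))) (.node (.node (.node (.node (.node (.node (.leaf 5) (.leaf 995)) (.node (.leaf 1541) (.leaf 513))) (.node (.node (.leaf 1288) (.leaf 231)) (.node (.leaf 785) (.leaf 0)))) (.node (.node (.node (.leaf 139) (.leaf 1120)) (.node (.leaf 1673) (.leaf 639))) (.node (.node (.leaf 1380) (.leaf 398)) (.node (.leaf 913) (.leaf 0))))) (.node (.node (.node (.node (.leaf 188) (.leaf 1188)) (.node (.leaf 1699) (.leaf 704))) (.node (.node (.leaf 1480) (.leaf 448)) (.node (.leaf 928) (.leaf 0)))) (.node (.node (.node (.leaf 87) (.leaf 1059)) (.node (.leaf 1606) (.leaf 589))) (.node (.node (.leaf 1349) (.leaf 298)) (.node (.leaf 803) (.leaf 0)))))) (.node (.node (.node (.node (.node (.leaf 175) (.leaf 1220)) (.node (.leaf 1721) (.leaf 679))) (.node (.node (.leaf 1463) (.leaf 437)) (.node (.leaf 955) (.leaf 0)))) (.node (.node (.node (.leaf 46)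 (.leaf 1091)) (.node (.leaf 1623) (.leaf 564))) (.node (.node (.leaf 1338) (.leaf 331)) (.node (.leaf 840) (.leaf 0))))) (.node (.node (.node (.node (.leaf 98) (.leaf 1148)) (.node (.leaf 1684) (.leaf 616))) (.node (.node (.leaf 1431) (.leaf 361)) (.node (.leaf 881) (.leaf 0)))) (.node (.node (.node (.leaf 1267) (.leaf 269)) (.node (.leaf 753) (.leaf 0))) (.node (.node (.leaf 1556) (.leaf 488)) (.node (.leaf 1031) (.leaf 0)))))))) (.node (.node (.node (.node (.node (.node (.node (.leaf 13) (.leaf 992)) (.node (.leaf 1528) (.leaf 508))) (.node (.node (.leaf 1274) (.leaf 230)) (.node (.leaf 789) (.leaf 0)))) (.node (.node (.node (.leaf 128) (.leaf 1123)) (.node (.leaf 1652) (.leaf 638))) (.node (.node (.leaf 1430) (.leaf 401)) (.node (.leaf 917) (.leaf 0))))) (.node (.node (.node (.node (.leaf 196) (.leaf 1184)) (.node (.leaf 1754) (.leaf 701))) (.node (.node (.leaf 1461) (.leaf 443)) (.node (.leaf 932) (.leaf 0)))) (.node (.node (.node (.leaf 62) (.leaf 1055)) (.node (.leaf 1591) (.leaf 592))) (.node (.node (.leaf 1331) (.leaf 291)) (.node (.leaf 799) (.leaf 0))))))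 (.node (.node (.node (.node (.node (.leaf 182) (.leaf 1216)) (.node (.leaf 1731) (.leaf 678))) (.node (.node (.leaf 1477) (.leaf 442)) (.node (.leaf 967) (.leaf 0)))) (.node (.node (.node (.leaf 51) (.leaf 1087)) (.node (.leaf 1573) (.leaf 569))) (.node (.node (.leaf 1351) (.leaf 336)) (.node (.leaf 828) (.leaf 0))))) (.node (.node (.node (.node (.leaf 101) (.leaf 1159)) (.node (.leaf 1642) (.leaf 613))) (.node (.node (.leaf 1386) (.leaf 358)) (.node (.leaf 885) (.leaf 0)))) (.node (.node (.node (.leaf 1286) (.leaf 271)) (.node (.leaf 757) (.leaf 0))) (.node (.node (.leaf 1514) (.leaf 485)) (.node (.leaf 1020) (.leaf 0))))))) (.node (.node (.node (.node (.node (.node (.leaf 160) (.leaf 1204)) (.node (.leaf 1697) (.leaf 687))) (.node (.node (.leaf 1435) (.leaf 412)) (.node (.leaf 944) (.leaf 0)))) (.node (.node (.node (.leaf 58) (.leaf 1075)) (.node (.leaf 1599) (.leaf 540))) (.node (.node (.leaf 1313) (.leaf 326)) (.node (.leaf 820) (.leaf 0))))) (.node (.node (.node (.node (.leaf 122) (.leaf 1132)) (.node (.leaf 1660) (.leaf 624))) (.node (.node (.leaf 1404) (.leaf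 370)) (.node (.leaf 894) (.leaf 0)))) (.node (.node (.node (.leaf 1244) (.leaf 260)) (.node (.leaf 766) (.leaf 0))) (.node (.node (.leaf 1532) (.leaf 496)) (.node (.leaf 1016) (.leaf 0)))))) (.node (.node (.node (.node (.node (.leaf 206) (.leaf 1236)) (.node (.leaf 1711) (.leaf 730))) (.node (.node (.leaf 1483) (.leaf 473)) (.node (.leaf 971) (.leaf 0)))) (.node (.node (.node (.leaf 74) (.leaf 1107)) (.node (.leaf 1618) (.leaf 579))) (.node (.node (.leaf 1357) (.leaf 303)) (.node (.leaf 855) (.leaf 0))))) (.node (.node (.node (.node (.leaf 138) (.leaf 1168)) (.node (.leaf 1678) (.leaf 665))) (.node (.node (.leaf 1392) (.leaf 389)) (.node (.leaf 862) (.leaf 0)))) (.node (.node (.node (.leaf 1296) (.leaf 241)) (.node (.leaf 734) (.leaf 0))) (.node (.node (.leaf 1554) (.leaf 535)) (.node (.leaf 1044) (.leaf 0)))))))))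

def orbI0_7 : Janko.Tree ℕ :=
  (.node (.node (.node (.node (.node (.node (.node (.node (.leaf 24) (.leaf 1014)) (.node (.leaf 1507) (.leaf 481))) (.node (.node (.leaf 1258) (.leaf 275)) (.node (.leaf 775) (.leaf 0)))) (.node (.node (.node (.leaf 148) (.leaf 1134)) (.node (.leaf 1639) (.leaf 609))) (.node (.node (.leaf 1414) (.leaf 351)) (.node (.leaf 903) (.leaf 0))))) (.node (.node (.node (.node (.leaf 193) (.leaf 1205)) (.node (.leaf 1734) (.leaf 674))) (.node (.node (.leaf 1450) (.leaf 430)) (.node (.leaf 954) (.leaf 0)))) (.node (.node (.node (.leaf 75) (.leaf 1081)) (.node (.leaf 1571) (.leaf 557))) (.node (.node (.leaf 1320) (.leaf 339)) (.node (.leaf 814) (.leaf 0)))))) (.node (.node (.node (.node (.node (.leaf 185) (.leaf 1237)) (.node (.leaf 1748) (.leaf 712))) (.node (.node (.leaf 1493) (.leaf 458)) (.node (.leaf 981) (.leaf 0)))) (.node (.node (.node (.leaf 35) (.leaf 1113)) (.node (.leaf 1590) (.leaf 597))) (.node (.node (.leaf 1364) (.leaf 289)) (.node (.leaf 849) (.leaf 0))))) (.node (.node (.node (.node (.leaf 99) (.leaf 1170)) (.node (.leaf 1657)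 (.leaf 647))) (.node (.node (.leaf 1402) (.leaf 405)) (.node (.leaf 871) (.leaf 0)))) (.node (.node (.node (.leaf 1302) (.leaf 224)) (.node (.leaf 743) (.leaf 0))) (.node (.node (.leaf 1529) (.leaf 521)) (.node (.leaf 1050) (.leaf 0))))))) (.node (.node (.node (.node (.node (.node (.leaf 8) (.leaf 1021)) (.node (.leaf 1534) (.leaf 501))) (.node (.node (.leaf 1275) (.leaf 258)) (.node (.leaf 748) (.leaf 0)))) (.node (.node (.node (.leaf 132) (.leaf 1158)) (.node (.leaf 1666) (.leaf 629))) (.node (.node (.leaf 1375) (.leaf 374)) (.node (.leaf 876) (.leaf 0))))) (.node (.node (.node (.node (.leaf 214) (.leaf 1213)) (.node (.leaf 1692) (.leaf 694))) (.node (.node (.leaf 1468) (.leaf 425)) (.node (.leaf 958) (.leaf 0)))) (.node (.node (.node (.leaf 90) (.leaf 1089)) (.node (.leaf 1597) (.leaf 553))) (.node (.node (.leaf 1345) (.leaf 322)) (.node (.leaf 841) (.leaf 0)))))) (.node (.node (.node (.node (.node (.leaf 161) (.leaf 1181)) (.node (.leaf 1713) (.leaf 718))) (.node (.node (.leaf 1455) (.leaf 461)) (.node (.leaf 929) (.leaf 0)))) (.node (.node (.node (.leaf 43)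 (.leaf 1057)) (.node (.leaf 1615) (.leaf 575))) (.node (.node (.leaf 1325) (.leaf 310)) (.node (.leaf 806) (.leaf 0))))) (.node (.node (.node (.node (.leaf 115) (.leaf 1130)) (.node (.leaf 1676) (.leaf 653))) (.node (.node (.leaf 1419) (.leaf 384)) (.node (.leaf 908) (.leaf 0)))) (.node (.node (.node (.leaf 1263) (.leaf 245)) (.node (.leaf 780) (.leaf 0))) (.node (.node (.leaf 1548) (.leaf 523)) (.node (.leaf 993) (.leaf 0)))))))) (.node (.node (.node (.node (.node (.node (.node (.leaf 16) (.leaf 1034)) (.node (.leaf 1520) (.leaf 504))) (.node (.node (.leaf 1262) (.leaf 251)) (.node (.leaf 760) (.leaf 0)))) (.node (.node (.node (.leaf 154) (.leaf 1153)) (.node (.leaf 1644) (.leaf 632))) (.node (.node (.leaf 1426) (.leaf 377)) (.node (.leaf 888) (.leaf 0))))) (.node (.node (.node (.node (.leaf 204) (.leaf 1225)) (.node (.leaf 1746) (.leaf 695))) (.node (.node (.leaf 1458) (.leaf 422)) (.node (.leaf 970) (.leaf 0)))) (.node (.node (.node (.leaf 59) (.leaf 1093)) (.node (.leaf 1583) (.leaf 548))) (.node (.node (.leaf 1328) (.leaf 317)) (.node (.leaf 829) (.leaf 0))))))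 (.node (.node (.node (.node (.node (.leaf 166) (.leaf 1193)) (.node (.leaf 1724) (.leaf 719))) (.node (.node (.leaf 1470) (.leaf 466)) (.node (.leaf 933) (.leaf 0)))) (.node (.node (.node (.leaf 54) (.leaf 1061)) (.node (.leaf 1566) (.leaf 574))) (.node (.node (.leaf 1339) (.leaf 311)) (.node (.leaf 802) (.leaf 0))))) (.node (.node (.node (.node (.leaf 111) (.leaf 1117)) (.node (.leaf 1633) (.leaf 656))) (.node (.node (.leaf 1373) (.leaf 379)) (.node (.leaf 920) (.leaf 0)))) (.node (.node (.node (.leaf 1281) (.leaf 247)) (.node (.leaf 792) (.leaf 0))) (.node (.node (.leaf 1505) (.leaf 530)) (.node (.leaf 998) (.leaf 0))))))) (.node (.node (.node (.node (.node (.node (.leaf 171) (.leaf 1230)) (.node (.leaf 1706) (.leaf 708))) (.node (.node (.leaf 1444) (.leaf 452)) (.node (.leaf 974) (.leaf 0)))) (.node (.node (.node (.leaf 29) (.leaf 1106)) (.node (.leaf 1608) (.leaf 601))) (.node (.node (.leaf 1317) (.leaf 285)) (.node (.leaf 858) (.leaf 0))))) (.node (.node (.node (.node (.leaf 95) (.leaf 1177)) (.node (.leaf 1667) (.leaf 643))) (.node (.node (.leaf 1415) (.leaf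 407)) (.node (.leaf 863) (.leaf 0)))) (.node (.node (.node (.leaf 1251) (.leaf 220)) (.node (.leaf 735) (.leaf 0))) (.node (.node (.leaf 1539) (.leaf 517)) (.node (.leaf 1041) (.leaf 0)))))) (.node (.node (.node (.node (.node (.leaf 202) (.leaf 1198)) (.node (.leaf 1719) (.leaf 670))) (.node (.node (.leaf 1496) (.leaf 432)) (.node (.leaf 945) (.leaf 0)))) (.node (.node (.node (.leaf 83) (.leaf 1074)) (.node (.leaf 1626) (.leaf 561))) (.node (.node (.leaf 1370) (.leaf 345)) (.node (.leaf 821) (.leaf 0))))) (.node (.node (.node (.node (.leaf 141) (.leaf 1141)) (.node (.leaf 1686) (.leaf 605))) (.node (.node (.leaf 1396) (.leaf 349)) (.node (.leaf 895) (.leaf 0)))) (.node (.node (.node (.leaf 1304) (.leaf 280)) (.node (.leaf 767) (.leaf 0))) (.node (.node (.leaf 1562) (.leaf 477)) (.node (.leaf 1005) (.leaf 0)))))))))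

/-- The images of the vectors under a generator. -/
def orbI0_ : Janko.Tree ℕ :=
  .node (.node (.node orbI0_0 orbI0_4) (.node orbI0_2 orbI0_6)) (.node (.node orbI0_1 orbI0_5) (.node orbI0_3 orbI0_7))

def orbI1_0 : Janko.Tree ℕ :=
  (.node (.node (.node (.node (.node (.node (.node (.node (.leaf 80) (.leaf 1664)) (.node (.leaf 1486) (.leaf 544))) (.node (.node (.leaf 309) (.leaf 526)) (.node (.leaf 800) (.leaf 0)))) (.node (.node (.node (.leaf 606) (.leaf 1366)) (.node (.leaf 1546) (.leaf 419))) (.node (.node (.leaf 316) (.leaf 1242)) (.node (.leaf 1184) (.leaf 0))))) (.node (.node (.node (.node (.leaf 1048) (.leaf 1592)) (.node (.leaf 840) (.leaf 297))) (.node (.node (.leaf 575) (.leaf 1017)) (.node (.leaf 28) (.leaf 0)))) (.node (.node (.node (.leaf 1447) (.leaf 1593)) (.node (.leaf 1637) (.leaf 298))) (.node (.node (.leaf 521) (.leaf 226)) (.node (.leaf 32) (.leaf 0)))))) (.node (.node (.node (.node (.node (.leaf 1402) (.leaf 1591)) (.node (.leaf 1273) (.leaf 1079))) (.node (.node (.leaf 527) (.leaf 224)) (.node (.leaf 30) (.leaf 0)))) (.node (.node (.node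 (.leaf 1457) (.leaf 1594)) (.node (.leaf 1151) (.leaf 1080))) (.node (.node (.leaf 589) (.leaf 1018)) (.node (.leaf 34) (.leaf 0))))) (.node (.node (.node (.node (.leaf 604) (.leaf 1306)) (.node (.leaf 1496) (.leaf 1178))) (.node (.node (.leaf 221) (.leaf 464)) (.node (.leaf 1344) (.leaf 0)))) (.node (.node (.node (.leaf 270) (.leaf 1722)) (.node (.leaf 1728) (.leaf 0))) (.node (.node (.leaf 1624) (.leaf 1718)) (.node (.leaf 1724) (.leaf 0))))))) (.node (.node (.node (.node (.node (.node (.leaf 77) (.leaf 1132)) (.node (.leaf 880) (.leaf 1261))) (.node (.node (.leaf 154) (.leaf 845)) (.node (.leaf 1673) (.leaf 0)))) (.node (.node (.node (.leaf 655) (.leaf 749)) (.node (.leaf 1060) (.leaf 850))) (.node (.node (.leaf 179) (.leaf 440)) (.node (.leaf 1190) (.leaf 0))))) (.node (.node (.node (.node (.leaf 1460) (.leaf 1092)) (.node (.leaf 1165) (.leaf 1552))) (.node (.node (.leaf 377) (.leaf 319)) (.node (.leaf 694) (.leaf 0)))) (.node (.node (.node (.leaf 1036) (.leaf 1386)) (.node (.leaf 1328) (.leaf 1603))) (.node (.node (.leaf 435) (.leaf 1414)) (.node (.leaf 636)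 (.leaf 0)))))) (.node (.node (.node (.node (.node (.leaf 1110) (.leaf 1039)) (.node (.leaf 1691) (.leaf 135))) (.node (.node (.leaf 400) (.leaf 1490)) (.node (.leaf 687) (.leaf 0)))) (.node (.node (.node (.leaf 1105) (.leaf 1453)) (.node (.leaf 853) (.leaf 126))) (.node (.node (.leaf 459) (.leaf 324)) (.node (.leaf 649) (.leaf 0))))) (.node (.node (.node (.node (.leaf 716) (.leaf 818)) (.node (.leaf 886) (.leaf 500))) (.node (.node (.leaf 189) (.leaf 1325)) (.node (.leaf 1298) (.leaf 0)))) (.node (.node (.node (.leaf 94) (.leaf 574)) (.node (.leaf 813) (.leaf 0))) (.node (.node (.leaf 1014) (.leaf 445)) (.node (.leaf 1199) (.leaf 0)))))))) (.node (.node (.node (.node (.node (.node (.node (.leaf 675) (.leaf 796)) (.node (.leaf 247) (.leaf 476))) (.node (.node (.leaf 998) (.leaf 598)) (.node (.leaf 1660) (.leaf 0)))) (.node (.node (.node (.leaf 613) (.leaf 1146)) (.node (.leaf 156) (.leaf 348))) (.node (.node (.leaf 1487) (.leaf 1244)) (.node (.leaf 1276) (.leaf 0))))) (.node (.node (.node (.node (.leaf 1023) (.leaf 959)) (.node (.leaf 557) (.leaf 343))) (.node (.node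 (.leaf 835) (.leaf 1432)) (.node (.leaf 42) (.leaf 0)))) (.node (.node (.node (.leaf 1380) (.leaf 962)) (.node (.leaf 496) (.leaf 344))) (.node (.node (.leaf 1642) (.leaf 278)) (.node (.leaf 37) (.leaf 0)))))) (.node (.node (.node (.node (.node (.leaf 1377) (.leaf 960)) (.node (.leaf 413) (.leaf 1498))) (.node (.node (.leaf 1696) (.leaf 276)) (.node (.leaf 40) (.leaf 0)))) (.node (.node (.node (.leaf 1029) (.leaf 961)) (.node (.leaf 351) (.leaf 1497))) (.node (.node (.leaf 857) (.leaf 1431)) (.node (.leaf 35) (.leaf 0))))) (.node (.node (.node (.node (.leaf 723) (.leaf 1206)) (.node (.leaf 292) (.leaf 1308))) (.node (.node (.leaf 1015) (.leaf 410)) (.node (.leaf 1116) (.leaf 0)))) (.node (.node (.node (.leaf 1434) (.leaf 764)) (.node (.leaf 732) (.leaf 0))) (.node (.node (.leaf 118) (.leaf 768)) (.node (.leaf 736) (.leaf 0))))))) (.node (.node (.node (.node (.node (.node (.leaf 667) (.leaf 1200)) (.node (.leaf 131) (.leaf 849))) (.node (.node (.leaf 1540) (.leaf 1326)) (.node (.leaf 1674) (.leaf 0)))) (.node (.node (.node (.leaf 718) (.leaf 817)) (.node (.leaf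 260) (.leaf 1262))) (.node (.node (.leaf 945) (.leaf 573)) (.node (.leaf 1189) (.leaf 0))))) (.node (.node (.node (.node (.leaf 1435) (.leaf 1443)) (.node (.leaf 452) (.leaf 1423))) (.node (.node (.leaf 1230) (.leaf 144)) (.node (.leaf 647) (.leaf 0)))) (.node (.node (.node (.leaf 1509) (.leaf 1033)) (.node (.leaf 391) (.leaf 1476))) (.node (.node (.leaf 1315) (.leaf 1610)) (.node (.leaf 691) (.leaf 0)))))) (.node (.node (.node (.node (.node (.leaf 1085) (.leaf 1392)) (.node (.leaf 481) (.leaf 254))) (.node (.node (.leaf 1245) (.leaf 1550)) (.node (.leaf 638) (.leaf 0)))) (.node (.node (.node (.leaf 1458) (.leaf 1102)) (.node (.leaf 551) (.leaf 263))) (.node (.node (.leaf 1216) (.leaf 147)) (.node (.leaf 690) (.leaf 0))))) (.node (.node (.node (.node (.leaf 612) (.leaf 750)) (.node (.leaf 210) (.leaf 446))) (.node (.node (.leaf 1597) (.leaf 846)) (.node (.leaf 1297) (.leaf 0)))) (.node (.node (.node (.leaf 924) (.leaf 439)) (.node (.leaf 814) (.leaf 0))) (.node (.node (.leaf 335) (.leaf 499)) (.node (.leaf 1131) (.leaf 0)))))))))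

def orbI1_1 : Janko.Tree ℕ :=
  (.node (.node (.node (.node (.node (.node (.node (.node (.leaf 9) (.leaf 1750)) (.node (.leaf 872) (.leaf 1154))) (.node (.node (.leaf 140) (.leaf 787)) (.node (.leaf 1185) (.leaf 0)))) (.node (.node (.node (.leaf 664) (.leaf 1204)) (.node (.leaf 1068) (.leaf 1694))) (.node (.node (.leaf 177) (.leaf 531)) (.node (.leaf 757) (.leaf 0))))) (.node (.node (.node (.node (.leaf 1459) (.leaf 1372)) (.node (.leaf 1157) (.leaf 1429))) (.node (.node (.leaf 371) (.leaf 100)) (.node (.leaf 69) (.leaf 0)))) (.node (.node (.node (.leaf 1510) (.leaf 1398)) (.node (.leaf 1320) (.leaf 1430))) (.node (.node (.leaf 442) (.leaf 1408)) (.node (.leaf 60) (.leaf 0)))))) (.node (.node (.node (.node (.node (.leaf 1109) (.leaf 1371)) (.node (.leaf 1631) (.leaf 110))) (.node (.node (.leaf 398) (.leaf 1407)) (.node (.leaf 70) (.leaf 0)))) (.node (.node (.node (.leaf 900) (.leaf 1397)) (.node (.leaf 793) (.leaf 109))) (.node (.node (.leaf 466) (.leaf 99)) (.node (.leaf 59) (.leaf 0))))) (.node (.node (.node (.node (.leaf 4) (.leaf 1144)) (.node (.leaf 953)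 (.leaf 353))) (.node (.node (.leaf 201) (.leaf 1267)) (.node (.leaf 1685) (.leaf 0)))) (.node (.node (.node (.leaf 106) (.leaf 462)) (.node (.leaf 1345) (.leaf 0))) (.node (.node (.leaf 1081) (.leaf 486)) (.node (.leaf 1690) (.leaf 0))))))) (.node (.node (.node (.node (.node (.node (.leaf 79) (.leaf 1354)) (.node (.leaf 1478) (.leaf 494))) (.node (.node (.leaf 303) (.leaf 519)) (.node (.leaf 1296) (.leaf 0)))) (.node (.node (.node (.leaf 720) (.leaf 808)) (.node (.leaf 1554) (.leaf 448))) (.node (.node (.leaf 330) (.leaf 838)) (.node (.leaf 743) (.leaf 0))))) (.node (.node (.node (.node (.leaf 1047) (.leaf 1520)) (.node (.leaf 848) (.leaf 160))) (.node (.node (.leaf 585) (.leaf 1542)) (.node (.leaf 701) (.leaf 0)))) (.node (.node (.node (.leaf 1517) (.leaf 914)) (.node (.leaf 1645) (.leaf 166))) (.node (.node (.leaf 512) (.leaf 313)) (.node (.leaf 625) (.leaf 0)))))) (.node (.node (.node (.node (.node (.leaf 1401) (.leaf 1571)) (.node (.leaf 1333) (.leaf 1483))) (.node (.node (.leaf 537) (.leaf 301)) (.node (.leaf 712) (.leaf 0)))) (.node (.node (.node (.leaf 968)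 (.leaf 965)) (.node (.leaf 1211) (.leaf 1416))) (.node (.node (.leaf 596) (.leaf 1618)) (.node (.leaf 628) (.leaf 0))))) (.node (.node (.node (.node (.leaf 6) (.leaf 739)) (.node (.leaf 1427) (.leaf 1704))) (.node (.node (.leaf 233) (.leaf 365)) (.node (.leaf 1739) (.leaf 0)))) (.node (.node (.node (.leaf 281) (.leaf 1318)) (.node (.leaf 1188) (.leaf 0))) (.node (.node (.leaf 1555) (.leaf 1155)) (.node (.leaf 1285) (.leaf 0)))))))) (.node (.node (.node (.node (.node (.node (.node (.leaf 673) (.leaf 762)) (.node (.leaf 127) (.leaf 1332))) (.node (.node (.leaf 1548) (.leaf 1697)) (.node (.leaf 1277) (.leaf 0)))) (.node (.node (.node (.leaf 669) (.leaf 1304)) (.node (.leaf 256) (.leaf 792))) (.node (.node (.leaf 937) (.leaf 588)) (.node (.leaf 1753) (.leaf 0))))) (.node (.node (.node (.node (.leaf 1436) (.leaf 1043)) (.node (.leaf 450) (.leaf 1012))) (.node (.node (.leaf 1222) (.leaf 193)) (.node (.leaf 63) (.leaf 0)))) (.node (.node (.node (.leaf 1518) (.leaf 1021)) (.node (.leaf 381) (.leaf 1011))) (.node (.node (.leaf 1255) (.leaf 993)) (.node (.leaf 72) (.leaf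 0)))))) (.node (.node (.node (.node (.node (.leaf 1086) (.leaf 1044)) (.node (.leaf 487) (.leaf 204))) (.node (.node (.leaf 1270) (.leaf 994)) (.node (.leaf 64) (.leaf 0)))) (.node (.node (.node (.leaf 1507) (.leaf 1022)) (.node (.leaf 546) (.leaf 203))) (.node (.node (.leaf 1147) (.leaf 194)) (.node (.leaf 71) (.leaf 0))))) (.node (.node (.node (.node (.leaf 90) (.leaf 1364)) (.node (.leaf 207) (.leaf 425))) (.node (.node (.leaf 1622) (.leaf 1217)) (.node (.leaf 825) (.leaf 0)))) (.node (.node (.node (.leaf 947) (.leaf 403)) (.node (.leaf 1117) (.leaf 0))) (.node (.node (.leaf 338) (.leaf 553)) (.node (.leaf 822) (.leaf 0))))))) (.node (.node (.node (.node (.node (.node (.leaf 681) (.leaf 1286)) (.node (.leaf 236) (.leaf 447))) (.node (.node (.leaf 1006) (.leaf 366)) (.node (.leaf 1295) (.leaf 0)))) (.node (.node (.node (.leaf 678) (.leaf 740)) (.node (.leaf 168) (.leaf 493))) (.node (.node (.leaf 1479) (.leaf 1317)) (.node (.leaf 744) (.leaf 0))))) (.node (.node (.node (.node (.leaf 1024) (.leaf 911)) (.node (.leaf 568) (.leaf 241))) (.node (.node (.leaf 843)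 (.leaf 1482)) (.node (.leaf 624) (.leaf 0)))) (.node (.node (.node (.leaf 1103) (.leaf 1521)) (.node (.leaf 501) (.leaf 245))) (.node (.node (.leaf 1702) (.leaf 173)) (.node (.leaf 714) (.leaf 0)))))) (.node (.node (.node (.node (.node (.leaf 1378) (.leaf 964)) (.node (.leaf 415) (.leaf 1612))) (.node (.node (.leaf 1719) (.leaf 185)) (.node (.leaf 629) (.leaf 0)))) (.node (.node (.node (.leaf 1516) (.leaf 1574)) (.node (.leaf 350) (.leaf 1543))) (.node (.node (.leaf 790) (.leaf 1422)) (.node (.leaf 699) (.leaf 0))))) (.node (.node (.node (.node (.leaf 85) (.leaf 807)) (.node (.leaf 294) (.leaf 1156))) (.node (.node (.leaf 992) (.leaf 520)) (.node (.leaf 1740) (.leaf 0)))) (.node (.node (.node (.leaf 1409) (.leaf 837)) (.node (.leaf 1187) (.leaf 0))) (.node (.node (.leaf 116) (.leaf 1703)) (.node (.leaf 1353) (.leaf 0)))))))))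

def orbI1_2 : Janko.Tree ℕ :=
  (.node (.node (.node (.node (.node (.node (.node (.node (.leaf 81) (.leaf 738)) (.node (.leaf 1418) (.leaf 828))) (.node (.node (.leaf 152) (.leaf 1174)) (.node (.leaf 1370) (.leaf 0)))) (.node (.node (.node (.leaf 654) (.leaf 1280)) (.node (.leaf 1614) (.leaf 1248))) (.node (.node (.leaf 328) (.leaf 396)) (.node (.leaf 1662) (.leaf 0))))) (.node (.node (.node (.node (.leaf 1376) (.leaf 1440)) (.node (.leaf 779) (.leaf 927))) (.node (.node (.leaf 572) (.leaf 271)) (.node (.leaf 48) (.leaf 0)))) (.node (.node (.node (.leaf 1585) (.leaf 1466)) (.node (.leaf 1714) (.leaf 928))) (.node (.node (.leaf 517) (.leaf 889)) (.node (.leaf 54) (.leaf 0)))))) (.node (.node (.node (.node (.node (.leaf 1026) (.leaf 1439)) (.node (.leaf 1310) (.leaf 346))) (.node (.node (.leaf 524) (.leaf 890)) (.node (.leaf 49) (.leaf 0)))) (.node (.node (.node (.leaf 975) (.leaf 1465)) (.node (.leaf 1236) (.leaf 345))) (.node (.node (.leaf 593) (.leaf 273)) (.node (.leaf 51) (.leaf 0))))) (.node (.node (.node (.node (.leaf 1) (.leaf 1340)) (.node (.leaf 1404)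 (.leaf 550))) (.node (.node (.leaf 234) (.leaf 1654)) (.node (.leaf 734) (.leaf 0)))) (.node (.node (.node (.leaf 92) (.leaf 591)) (.node (.leaf 1210) (.leaf 0))) (.node (.node (.leaf 1532) (.leaf 418)) (.node (.leaf 798) (.leaf 0))))))) (.node (.node (.node (.node (.node (.node (.leaf 82) (.leaf 1193)) (.node (.leaf 932) (.leaf 385))) (.node (.node (.leaf 308) (.leaf 429)) (.node (.leaf 1196) (.leaf 0)))) (.node (.node (.node (.leaf 719) (.leaf 1735)) (.node (.leaf 1008) (.leaf 569))) (.node (.node (.leaf 176) (.leaf 1168)) (.node (.leaf 1731) (.leaf 0))))) (.node (.node (.node (.node (.leaf 1084) (.leaf 1511)) (.node (.leaf 1226) (.leaf 253))) (.node (.node (.leaf 369) (.leaf 1064)) (.node (.leaf 622) (.leaf 0)))) (.node (.node (.node (.leaf 1578) (.leaf 905)) (.node (.leaf 1251) (.leaf 264))) (.node (.node (.leaf 428) (.leaf 145)) (.node (.leaf 708) (.leaf 0)))))) (.node (.node (.node (.node (.node (.leaf 1438) (.leaf 1580)) (.node (.leaf 1656) (.leaf 942))) (.node (.node (.leaf 408) (.leaf 150)) (.node (.leaf 631) (.leaf 0)))) (.node (.node (.node (.leaf 907)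 (.leaf 974)) (.node (.leaf 770) (.leaf 873))) (.node (.node (.leaf 468) (.leaf 1004)) (.node (.leaf 705) (.leaf 0))))) (.node (.node (.node (.node (.leaf 7) (.leaf 1668)) (.node (.leaf 930) (.leaf 1329))) (.node (.node (.leaf 200) (.leaf 584)) (.node (.leaf 751) (.leaf 0)))) (.node (.node (.node (.leaf 267) (.leaf 1648)) (.node (.leaf 1288) (.leaf 0))) (.node (.node (.leaf 1058) (.leaf 782)) (.node (.leaf 1126) (.leaf 0)))))))) (.node (.node (.node (.node (.node (.node (.node (.leaf 676) (.leaf 1726)) (.node (.leaf 237) (.leaf 1658))) (.node (.node (.leaf 1607) (.leaf 1312)) (.node (.leaf 1142) (.leaf 0)))) (.node (.node (.node (.leaf 679) (.leaf 1180)) (.node (.leaf 169) (.leaf 1238))) (.node (.node (.leaf 1412) (.leaf 470)) (.node (.leaf 802) (.leaf 0))))) (.node (.node (.node (.node (.leaf 1399) (.leaf 1111)) (.node (.leaf 562) (.leaf 1602))) (.node (.node (.leaf 783) (.leaf 228)) (.node (.leaf 57) (.leaf 0)))) (.node (.node (.node (.leaf 1577) (.leaf 1089)) (.node (.leaf 492) (.leaf 1601))) (.node (.node (.leaf 1710) (.leaf 1560)) (.node (.leaf 45) (.leaf 0))))))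 (.node (.node (.node (.node (.node (.leaf 1049) (.leaf 1112)) (.node (.leaf 421) (.leaf 295))) (.node (.node (.leaf 1652) (.leaf 1559)) (.node (.leaf 56) (.leaf 0)))) (.node (.node (.node (.leaf 1584) (.leaf 1090)) (.node (.leaf 360) (.leaf 296))) (.node (.node (.leaf 765) (.leaf 230)) (.node (.leaf 44) (.leaf 0))))) (.node (.node (.node (.node (.leaf 88) (.leaf 1120)) (.node (.leaf 290) (.leaf 490))) (.node (.node (.leaf 1052) (.leaf 832)) (.node (.leaf 1730) (.leaf 0)))) (.node (.node (.node (.leaf 864) (.leaf 535)) (.node (.leaf 1302) (.leaf 0))) (.node (.node (.leaf 112) (.leaf 361)) (.node (.leaf 1666) (.leaf 0))))))) (.node (.node (.node (.node (.node (.node (.leaf 668) (.leaf 1125)) (.node (.leaf 129) (.leaf 570))) (.node (.node (.leaf 1065) (.leaf 583)) (.node (.leaf 1195) (.leaf 0)))) (.node (.node (.node (.leaf 672) (.leaf 1667)) (.node (.leaf 255) (.leaf 386))) (.node (.node (.leaf 870) (.leaf 1647)) (.node (.leaf 1732) (.leaf 0))))) (.node (.node (.node (.node (.leaf 1107) (.leaf 904)) (.node (.leaf 444) (.leaf 137))) (.node (.node (.leaf 1162) (.leaf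 868)) (.node (.leaf 704) (.leaf 0)))) (.node (.node (.node (.leaf 1028) (.leaf 1514)) (.node (.leaf 384) (.leaf 124))) (.node (.node (.leaf 1263) (.leaf 322)) (.node (.leaf 620) (.leaf 0)))))) (.node (.node (.node (.node (.node (.leaf 1461) (.leaf 971)) (.node (.leaf 478) (.leaf 1069))) (.node (.node (.leaf 1337) (.leaf 325)) (.node (.leaf 709) (.leaf 0)))) (.node (.node (.node (.leaf 1575) (.leaf 1581)) (.node (.leaf 547) (.leaf 1002))) (.node (.node (.leaf 1172) (.leaf 944)) (.node (.leaf 633) (.leaf 0))))) (.node (.node (.node (.node (.leaf 86) (.leaf 1736)) (.node (.leaf 211) (.leaf 781))) (.node (.node (.leaf 1562) (.leaf 430)) (.node (.leaf 752) (.leaf 0)))) (.node (.node (.node (.leaf 1494) (.leaf 1167)) (.node (.leaf 1287) (.leaf 0))) (.node (.node (.leaf 342) (.leaf 1330)) (.node (.leaf 1194) (.leaf 0)))))))))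

def orbI1_3 : Janko.Tree ℕ :=
  (.node (.node (.node (.node (.node (.node (.node (.node (.leaf 652) (.leaf 1723)) (.node (.leaf 155) (.leaf 420))) (.node (.node (.leaf 1488) (.leaf 463)) (.node (.leaf 799) (.leaf 0)))) (.node (.node (.node (.leaf 607) (.leaf 1305)) (.node (.leaf 249) (.leaf 543))) (.node (.node (.leaf 1608) (.leaf 1721)) (.node (.leaf 1183) (.leaf 0))))) (.node (.node (.node (.node (.leaf 958) (.leaf 915)) (.node (.leaf 392) (.leaf 334))) (.node (.node (.leaf 1264) (.leaf 1467)) (.node (.leaf 39) (.leaf 0)))) (.node (.node (.node (.leaf 1096) (.leaf 918)) (.node (.leaf 451) (.leaf 333))) (.node (.node (.leaf 1229) (.leaf 272)) (.node (.leaf 36) (.leaf 0)))))) (.node (.node (.node (.node (.node (.leaf 1588) (.leaf 916)) (.node (.leaf 552) (.leaf 1406))) (.node (.node (.leaf 1171) (.leaf 274)) (.node (.leaf 41) (.leaf 0)))) (.node (.node (.node (.leaf 1449) (.leaf 917)) (.node (.leaf 482) (.leaf 1405))) (.node (.node (.leaf 1338) (.leaf 1468)) (.node (.leaf 38) (.leaf 0))))) (.node (.node (.node (.node (.leaf 724) (.leaf 1365)) (.node (.leaf 117)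 (.leaf 1717))) (.node (.node (.leaf 948) (.leaf 525)) (.node (.leaf 1343) (.leaf 0)))) (.node (.node (.node (.leaf 1051) (.leaf 1241)) (.node (.leaf 1727) (.leaf 0))) (.node (.node (.leaf 291) (.leaf 1177)) (.node (.leaf 1663) (.leaf 0))))))) (.node (.node (.node (.node (.node (.node (.leaf 660) (.leaf 1284)) (.node (.leaf 262) (.leaf 1163))) (.node (.node (.leaf 869) (.leaf 1708)) (.node (.leaf 754) (.leaf 0)))) (.node (.node (.node (.leaf 728) (.leaf 1669)) (.node (.leaf 132) (.leaf 1712))) (.node (.node (.leaf 1066) (.leaf 367)) (.node (.leaf 1357) (.leaf 0))))) (.node (.node (.node (.node (.leaf 1506) (.leaf 1391)) (.node (.leaf 495) (.leaf 1475))) (.node (.node (.leaf 1641) (.leaf 148)) (.node (.leaf 648) (.leaf 0)))) (.node (.node (.node (.leaf 1448) (.leaf 1101)) (.node (.leaf 558) (.leaf 1424))) (.node (.node (.leaf 784) (.leaf 1549)) (.node (.leaf 692) (.leaf 0)))))) (.node (.node (.node (.node (.node (.leaf 920) (.leaf 1444)) (.node (.leaf 352) (.leaf 265))) (.node (.node (.leaf 858) (.leaf 1609)) (.node (.leaf 637) (.leaf 0)))) (.node (.node (.node (.leaf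 899) (.leaf 1034)) (.node (.leaf 414) (.leaf 252))) (.node (.node (.leaf 1695) (.leaf 143)) (.node (.leaf 689) (.leaf 0))))) (.node (.node (.node (.node (.leaf 611) (.leaf 1738)) (.node (.leaf 336) (.leaf 556))) (.node (.node (.leaf 1410) (.leaf 1228)) (.node (.leaf 1129) (.leaf 0)))) (.node (.node (.node (.leaf 1598) (.leaf 514)) (.node (.leaf 1734) (.leaf 0))) (.node (.node (.leaf 209) (.leaf 387)) (.node (.leaf 1351) (.leaf 0)))))))) (.node (.node (.node (.node (.node (.node (.node (.leaf 75) (.leaf 1352)) (.node (.leaf 1007) (.leaf 1711))) (.node (.node (.leaf 180) (.leaf 1227)) (.node (.leaf 753) (.leaf 0)))) (.node (.node (.node (.leaf 662) (.leaf 1737)) (.node (.leaf 931) (.leaf 1164))) (.node (.node (.leaf 304) (.leaf 513)) (.node (.leaf 1358) (.leaf 0))))) (.node (.node (.node (.node (.leaf 1529) (.leaf 1040)) (.node (.leaf 1713) (.leaf 1604))) (.node (.node (.leaf 522) (.leaf 323)) (.node (.leaf 693) (.leaf 0)))) (.node (.node (.node (.leaf 902) (.leaf 1454)) (.node (.leaf 780) (.leaf 1551))) (.node (.node (.leaf 576) (.leaf 1489)) (.node (.leaf 635)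 (.leaf 0)))))) (.node (.node (.node (.node (.node (.leaf 895) (.leaf 1091)) (.node (.leaf 1235) (.leaf 125))) (.node (.node (.leaf 590) (.leaf 1413)) (.node (.leaf 688) (.leaf 0)))) (.node (.node (.node (.leaf 1583) (.leaf 1385)) (.node (.leaf 1309) (.leaf 136))) (.node (.node (.leaf 523) (.leaf 320)) (.node (.leaf 650) (.leaf 0))))) (.node (.node (.node (.node (.leaf 715) (.leaf 1670)) (.node (.leaf 1057) (.leaf 388))) (.node (.node (.leaf 269) (.leaf 1707)) (.node (.leaf 1130) (.leaf 0)))) (.node (.node (.node (.leaf 199) (.leaf 368)) (.node (.leaf 1733) (.leaf 0))) (.node (.node (.leaf 929) (.leaf 555)) (.node (.leaf 1283) (.leaf 0))))))) (.node (.node (.node (.node (.node (.node (.leaf 1563) (.leaf 1499)) (.node (.leaf 769) (.leaf 987))) (.node (.node (.leaf 460) (.leaf 227)) (.node (.leaf 27) (.leaf 0)))) (.node (.node (.node (.leaf 1037) (.leaf 1502)) (.node (.leaf 1655) (.leaf 988))) (.node (.node (.leaf 407) (.leaf 1053)) (.node (.leaf 31) (.leaf 0))))) (.node (.node (.node (.node (.leaf 603) (.leaf 1145)) (.node (.leaf 1531) (.leaf 767))) (.node (.node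 (.leaf 91) (.leaf 597)) (.node (.leaf 1115) (.leaf 0)))) (.node (.node (.node (.leaf 219) (.leaf 1243)) (.node (.leaf 731) (.leaf 0))) (.node (.node (.leaf 1403) (.leaf 1307)) (.node (.leaf 795) (.leaf 0)))))) (.node (.node (.node (.node (.node (.leaf 981) (.leaf 1500)) (.node (.leaf 1252) (.leaf 283))) (.node (.node (.leaf 436) (.leaf 1054)) (.node (.leaf 29) (.leaf 0)))) (.node (.node (.node (.leaf 1027) (.leaf 1501)) (.node (.leaf 1225) (.leaf 284))) (.node (.node (.leaf 378) (.leaf 229)) (.node (.leaf 33) (.leaf 0))))) (.node (.node (.node (.node (.leaf 616) (.leaf 1205)) (.node (.leaf 1417) (.leaf 475))) (.node (.node (.leaf 139) (.leaf 763)) (.node (.leaf 1275) (.leaf 0)))) (.node (.node (.node (.leaf 327) (.leaf 409)) (.node (.leaf 1659) (.leaf 0))) (.node (.node (.leaf 1613) (.leaf 347)) (.node (.leaf 735) (.leaf 0)))))))))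

def orbI1_4 : Janko.Tree ℕ :=
  (.node (.node (.node (.node (.node (.node (.node (.node (.leaf 665) (.leaf 759)) (.node (.leaf 261) (.leaf 479))) (.node (.node (.leaf 1411) (.leaf 602)) (.node (.leaf 1752) (.leaf 0)))) (.node (.node (.node (.leaf 608) (.leaf 1181)) (.node (.leaf 134) (.leaf 355))) (.node (.node (.leaf 997) (.leaf 1336)) (.node (.leaf 1368) (.leaf 0))))) (.node (.node (.node (.node (.leaf 921) (.leaf 983)) (.node (.leaf 506) (.leaf 122))) (.node (.node (.leaf 1701) (.leaf 950)) (.node (.leaf 13) (.leaf 0)))) (.node (.node (.node (.leaf 1035) (.leaf 986)) (.node (.leaf 564) (.leaf 121))) (.node (.node (.leaf 776) (.leaf 101)) (.node (.leaf 17) (.leaf 0)))))) (.node (.node (.node (.node (.node (.leaf 1503) (.leaf 984)) (.node (.leaf 358) (.leaf 952))) (.node (.node (.leaf 789) (.leaf 102)) (.node (.leaf 14) (.leaf 0)))) (.node (.node (.node (.leaf 1390) (.leaf 985)) (.node (.leaf 424) (.leaf 951))) (.node (.node (.leaf 1720) (.leaf 949)) (.node (.leaf 18) (.leaf 0))))) (.node (.node (.node (.node (.leaf 721) (.leaf 1121)) (.node (.leaf 340) (.leaf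 1271))) (.node (.node (.leaf 1470) (.leaf 402)) (.node (.leaf 1208) (.leaf 0)))) (.node (.node (.node (.leaf 1016) (.leaf 856)) (.node (.leaf 824) (.leaf 0))) (.node (.node (.leaf 213) (.leaf 851)) (.node (.leaf 819) (.leaf 0))))))) (.node (.node (.node (.node (.node (.node (.leaf 657) (.leaf 1123)) (.node (.leaf 158) (.leaf 774))) (.node (.node (.leaf 946) (.leaf 1258)) (.node (.leaf 1742) (.leaf 0)))) (.node (.node (.node (.leaf 727) (.leaf 742)) (.node (.leaf 248) (.leaf 1321))) (.node (.node (.leaf 1539) (.leaf 578)) (.node (.leaf 1137) (.leaf 0))))) (.node (.node (.node (.node (.leaf 1589) (.leaf 1384)) (.node (.leaf 389) (.leaf 934))) (.node (.node (.leaf 1324) (.leaf 300)) (.node (.leaf 685) (.leaf 0)))) (.node (.node (.node (.leaf 1387) (.leaf 1094)) (.node (.leaf 457) (.leaf 881))) (.node (.node (.leaf 1221) (.leaf 1071)) (.node (.leaf 643) (.leaf 0)))))) (.node (.node (.node (.node (.node (.leaf 955) (.leaf 1451)) (.node (.leaf 541) (.leaf 164))) (.node (.node (.leaf 1240) (.leaf 995)) (.node (.leaf 696) (.leaf 0)))) (.node (.node (.node (.leaf 976) (.leaf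 1041)) (.node (.leaf 483) (.leaf 162))) (.node (.node (.leaf 1313) (.leaf 312)) (.node (.leaf 642) (.leaf 0))))) (.node (.node (.node (.node (.leaf 610) (.leaf 809)) (.node (.leaf 113) (.leaf 454))) (.node (.node (.leaf 888) (.leaf 778)) (.node (.leaf 1349) (.leaf 0)))) (.node (.node (.node (.leaf 1561) (.leaf 432)) (.node (.leaf 746) (.leaf 0))) (.node (.node (.leaf 287) (.leaf 503)) (.node (.leaf 1192) (.leaf 0)))))))) (.node (.node (.node (.node (.node (.node (.node (.leaf 78) (.leaf 1191)) (.node (.leaf 1553) (.leaf 1322))) (.node (.node (.leaf 175) (.leaf 777)) (.node (.leaf 1741) (.leaf 0)))) (.node (.node (.node (.leaf 656) (.leaf 810)) (.node (.leaf 1477) (.leaf 773))) (.node (.node (.leaf 141) (.leaf 431)) (.node (.leaf 1138) (.leaf 0))))) (.node (.node (.node (.node (.leaf 1566) (.leaf 1031)) (.node (.leaf 1319) (.leaf 1061))) (.node (.node (.leaf 434) (.leaf 184)) (.node (.leaf 639) (.leaf 0)))) (.node (.node (.node (.leaf 977) (.leaf 1445)) (.node (.leaf 1158) (.leaf 1010))) (.node (.node (.leaf 364) (.leaf 875)) (.node (.leaf 683) (.leaf 0)))))) (.node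 (.node (.node (.node (.node (.leaf 980) (.leaf 1100)) (.node (.leaf 794) (.leaf 246))) (.node (.node (.leaf 474) (.leaf 935)) (.node (.leaf 646) (.leaf 0)))) (.node (.node (.node (.leaf 1508) (.leaf 1394)) (.node (.leaf 1632) (.leaf 242))) (.node (.node (.leaf 397) (.leaf 172)) (.node (.leaf 698) (.leaf 0))))) (.node (.node (.node (.node (.leaf 730) (.leaf 741)) (.node (.leaf 1556) (.leaf 504))) (.node (.node (.leaf 93) (.leaf 1257)) (.node (.leaf 1350) (.leaf 0)))) (.node (.node (.node (.leaf 190) (.leaf 577)) (.node (.leaf 745) (.leaf 0))) (.node (.node (.leaf 1428) (.leaf 453)) (.node (.leaf 1124) (.leaf 0))))))) (.node (.node (.node (.node (.node (.node (.leaf 1528) (.leaf 1567)) (.node (.leaf 1212) (.leaf 1625))) (.node (.node (.leaf 599) (.leaf 192)) (.node (.leaf 25) (.leaf 0)))) (.node (.node (.node (.leaf 1098) (.leaf 1570)) (.node (.leaf 1334) (.leaf 1626))) (.node (.node (.leaf 538) (.leaf 1620)) (.node (.leaf 19) (.leaf 0))))) (.node (.node (.node (.node (.leaf 618) (.leaf 1341)) (.node (.leaf 1082) (.leaf 1213))) (.node (.node (.leaf 268) (.leaf 471))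 (.node (.leaf 1300) (.leaf 0)))) (.node (.node (.node (.leaf 232) (.leaf 1630)) (.node (.leaf 1684) (.leaf 0))) (.node (.node (.leaf 954) (.leaf 1633)) (.node (.leaf 1687) (.leaf 0)))))) (.node (.node (.node (.node (.node (.leaf 898) (.leaf 1568)) (.node (.leaf 1646) (.leaf 216))) (.node (.node (.leaf 507) (.leaf 1619)) (.node (.leaf 26) (.leaf 0)))) (.node (.node (.node (.leaf 1104) (.leaf 1569)) (.node (.leaf 847) (.leaf 215))) (.node (.node (.leaf 581) (.leaf 191)) (.node (.leaf 20) (.leaf 0))))) (.node (.node (.node (.node (.leaf 615) (.leaf 1281)) (.node (.leaf 871) (.leaf 411))) (.node (.node (.leaf 305) (.leaf 1150)) (.node (.leaf 1140) (.leaf 0)))) (.node (.node (.node (.leaf 315) (.leaf 529)) (.node (.leaf 756) (.leaf 0))) (.node (.node (.leaf 1067) (.leaf 540)) (.node (.leaf 1747) (.leaf 0)))))))))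

def orbI1_5 : Janko.Tree ℕ :=
  (.node (.node (.node (.node (.node (.node (.node (.node (.leaf 651) (.leaf 797)) (.node (.leaf 170) (.leaf 1247))) (.node (.node (.leaf 877) (.leaf 1653)) (.node (.leaf 1369) (.leaf 0)))) (.node (.node (.node (.leaf 670) (.leaf 1339)) (.node (.leaf 235) (.leaf 827))) (.node (.node (.leaf 1547) (.leaf 592)) (.node (.leaf 1661) (.leaf 0))))) (.node (.node (.node (.node (.leaf 1590) (.leaf 1019)) (.node (.leaf 383) (.leaf 1558))) (.node (.node (.leaf 1316) (.leaf 223)) (.node (.leaf 58) (.leaf 0)))) (.node (.node (.node (.leaf 901) (.leaf 1045)) (.node (.leaf 443) (.leaf 1557))) (.node (.node (.leaf 1161) (.leaf 1595)) (.node (.leaf 46) (.leaf 0)))))) (.node (.node (.node (.node (.node (.leaf 956) (.leaf 1020)) (.node (.leaf 548) (.leaf 285))) (.node (.node (.leaf 1215) (.leaf 1596)) (.node (.leaf 55) (.leaf 0)))) (.node (.node (.node (.leaf 908) (.leaf 1046)) (.node (.leaf 477) (.leaf 286))) (.node (.node (.leaf 1246) (.leaf 225)) (.node (.leaf 43) (.leaf 0))))) (.node (.node (.node (.node (.leaf 87) (.leaf 1279)) (.node (.leaf 111)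 (.leaf 417))) (.node (.node (.leaf 863) (.leaf 1173)) (.node (.leaf 733) (.leaf 0)))) (.node (.node (.node (.leaf 1621) (.leaf 395)) (.node (.leaf 1209) (.leaf 0))) (.node (.node (.leaf 289) (.leaf 549)) (.node (.leaf 737) (.leaf 0))))))) (.node (.node (.node (.node (.node (.node (.leaf 658) (.leaf 1361)) (.node (.leaf 257) (.leaf 455))) (.node (.node (.leaf 1480) (.leaf 374)) (.node (.leaf 1347) (.leaf 0)))) (.node (.node (.node (.leaf 677) (.leaf 815)) (.node (.leaf 130) (.leaf 497))) (.node (.node (.leaf 1005) (.leaf 1265)) (.node (.leaf 812) (.leaf 0))))) (.node (.node (.node (.node (.leaf 922) (.leaf 972)) (.node (.leaf 491) (.leaf 123))) (.node (.node (.leaf 1709) (.leaf 943)) (.node (.leaf 703) (.leaf 0)))) (.node (.node (.node (.leaf 969) (.leaf 1582)) (.node (.leaf 561) (.leaf 138))) (.node (.node (.leaf 836) (.leaf 326)) (.node (.leaf 619) (.leaf 0)))))) (.node (.node (.node (.node (.node (.leaf 1504) (.leaf 903)) (.node (.leaf 359) (.leaf 1001))) (.node (.node (.leaf 766) (.leaf 321)) (.node (.leaf 710) (.leaf 0)))) (.node (.node (.node (.leaf 1038)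 (.leaf 1513)) (.node (.leaf 422) (.leaf 1070))) (.node (.node (.leaf 1651) (.leaf 867)) (.node (.leaf 634) (.leaf 0))))) (.node (.node (.node (.node (.leaf 84) (.leaf 748)) (.node (.leaf 341) (.leaf 1231))) (.node (.node (.leaf 1493) (.leaf 516)) (.node (.leaf 1672) (.leaf 0)))) (.node (.node (.node (.leaf 1076) (.leaf 785)) (.node (.leaf 1135) (.leaf 0))) (.node (.node (.leaf 212) (.leaf 1644)) (.node (.leaf 1294) (.leaf 0)))))))) (.node (.node (.node (.node (.node (.node (.node (.leaf 0) (.leaf 1293)) (.node (.leaf 1059) (.leaf 498))) (.node (.node (.leaf 317) (.leaf 515)) (.node (.leaf 1348) (.leaf 0)))) (.node (.node (.node (.leaf 725) (.leaf 747)) (.node (.leaf 879) (.leaf 456))) (.node (.node (.leaf 307) (.leaf 786)) (.node (.leaf 811) (.leaf 0))))) (.node (.node (.node (.node (.leaf 897) (.leaf 1579)) (.node (.leaf 1638) (.leaf 266))) (.node (.node (.leaf 518) (.leaf 1003)) (.node (.leaf 621) (.leaf 0)))) (.node (.node (.node (.leaf 1456) (.leaf 973)) (.node (.leaf 839) (.leaf 251))) (.node (.node (.leaf 571) (.leaf 149)) (.node (.leaf 707) (.leaf 0))))))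 (.node (.node (.node (.node (.node (.leaf 1527) (.leaf 1512)) (.node (.leaf 1152) (.leaf 874))) (.node (.node (.leaf 594) (.leaf 146)) (.node (.leaf 632) (.leaf 0)))) (.node (.node (.node (.leaf 1389) (.leaf 906)) (.node (.leaf 1274) (.leaf 941))) (.node (.node (.leaf 528) (.leaf 1063)) (.node (.leaf 706) (.leaf 0))))) (.node (.node (.node (.node (.leaf 5) (.leaf 816)) (.node (.leaf 1013) (.leaf 1643))) (.node (.node (.leaf 279) (.leaf 373)) (.node (.leaf 1671) (.leaf 0)))) (.node (.node (.node (.leaf 231) (.leaf 1266)) (.node (.leaf 1136) (.leaf 0))) (.node (.node (.leaf 885) (.leaf 1232)) (.node (.leaf 1362) (.leaf 0))))))) (.node (.node (.node (.node (.node (.node (.leaf 979) (.leaf 1395)) (.node (.leaf 854) (.leaf 331))) (.node (.node (.leaf 467) (.leaf 925)) (.node (.leaf 50) (.leaf 0)))) (.node (.node (.node (.leaf 1515) (.leaf 1373)) (.node (.leaf 1692) (.leaf 332))) (.node (.node (.leaf 399) (.leaf 275)) (.node (.leaf 52) (.leaf 0))))) (.node (.node (.node (.node (.leaf 3) (.leaf 1179)) (.node (.leaf 1623) (.leaf 362))) (.node (.node (.leaf 105) (.leaf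 1311)) (.node (.leaf 1729) (.leaf 0)))) (.node (.node (.node (.leaf 187) (.leaf 469)) (.node (.leaf 1301) (.leaf 0))) (.node (.node (.leaf 1495) (.leaf 489)) (.node (.leaf 1725) (.leaf 0)))))) (.node (.node (.node (.node (.node (.leaf 1565) (.leaf 1396)) (.node (.leaf 1327) (.leaf 883))) (.node (.node (.leaf 427) (.leaf 277)) (.node (.leaf 47) (.leaf 0)))) (.node (.node (.node (.leaf 909) (.leaf 1374)) (.node (.leaf 1166) (.leaf 884))) (.node (.node (.leaf 370) (.leaf 926)) (.node (.leaf 53) (.leaf 0))))) (.node (.node (.node (.node (.leaf 663) (.leaf 1119)) (.node (.leaf 1485) (.leaf 1657))) (.node (.node (.leaf 151) (.leaf 536)) (.node (.leaf 801) (.leaf 0)))) (.node (.node (.node (.leaf 178) (.leaf 831)) (.node (.leaf 1141) (.leaf 0))) (.node (.node (.leaf 1545) (.leaf 1237)) (.node (.leaf 1665) (.leaf 0)))))))))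

def orbI1_6 : Janko.Tree ℕ :=
  (.node (.node (.node (.node (.node (.node (.node (.node (.leaf 666) (.leaf 1689)) (.node (.leaf 258) (.leaf 1693))) (.node (.node (.leaf 938) (.leaf 1268)) (.node (.leaf 1186) (.leaf 0)))) (.node (.node (.node (.leaf 680) (.leaf 1143)) (.node (.leaf 128) (.leaf 1153))) (.node (.node (.leaf 1074) (.leaf 461)) (.node (.leaf 758) (.leaf 0))))) (.node (.node (.node (.node (.leaf 1505) (.leaf 1087)) (.node (.leaf 502) (.leaf 1056))) (.node (.node (.leaf 1649) (.leaf 196)) (.node (.leaf 65) (.leaf 0)))) (.node (.node (.node (.leaf 978) (.leaf 1113)) (.node (.leaf 567) (.leaf 1055))) (.node (.node (.leaf 844) (.leaf 1078)) (.node (.leaf 74) (.leaf 0)))))) (.node (.node (.node (.node (.node (.leaf 919) (.leaf 1088)) (.node (.leaf 349) (.leaf 217))) (.node (.node (.leaf 833) (.leaf 1077)) (.node (.leaf 66) (.leaf 0)))) (.node (.node (.node (.leaf 967) (.leaf 1114)) (.node (.leaf 416) (.leaf 218))) (.node (.node (.leaf 1628) (.leaf 195)) (.node (.leaf 73) (.leaf 0))))) (.node (.node (.node (.node (.leaf 89) (.leaf 1203)) (.node (.leaf 337)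 (.leaf 485))) (.node (.node (.leaf 1433) (.leaf 788)) (.node (.leaf 1686) (.leaf 0)))) (.node (.node (.node (.leaf 1538) (.leaf 532)) (.node (.leaf 1346) (.leaf 0))) (.node (.node (.leaf 208) (.leaf 354)) (.node (.leaf 1749) (.leaf 0))))))) (.node (.node (.node (.node (.node (.node (.leaf 659) (.leaf 1202)) (.node (.leaf 167) (.leaf 565))) (.node (.node (.leaf 1419) (.leaf 580)) (.node (.leaf 1127) (.leaf 0)))) (.node (.node (.node (.leaf 671) (.leaf 1744)) (.node (.leaf 238) (.leaf 393))) (.node (.node (.leaf 1616) (.leaf 1699)) (.node (.leaf 1680) (.leaf 0))))) (.node (.node (.node (.node (.leaf 957) (.leaf 963)) (.node (.leaf 382) (.leaf 243))) (.node (.node (.leaf 1256) (.leaf 1421)) (.node (.leaf 623) (.leaf 0)))) (.node (.node (.node (.leaf 910) (.leaf 1573)) (.node (.leaf 449) (.leaf 239))) (.node (.node (.leaf 1169) (.leaf 186)) (.node (.leaf 713) (.leaf 0)))))) (.node (.node (.node (.node (.node (.leaf 1587) (.leaf 912)) (.node (.leaf 545) (.leaf 1544))) (.node (.node (.leaf 1148) (.leaf 174)) (.node (.leaf 630) (.leaf 0)))) (.node (.node (.node (.leaf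 1097) (.leaf 1522)) (.node (.leaf 488) (.leaf 1611))) (.node (.node (.leaf 1269) (.leaf 1481)) (.node (.leaf 700) (.leaf 0))))) (.node (.node (.node (.node (.leaf 83) (.leaf 1675)) (.node (.leaf 115) (.leaf 842))) (.node (.node (.leaf 923) (.leaf 437)) (.node (.leaf 804) (.leaf 0)))) (.node (.node (.node (.leaf 991) (.leaf 1219)) (.node (.leaf 1355) (.leaf 0))) (.node (.node (.leaf 293) (.leaf 1253)) (.node (.leaf 1133) (.leaf 0)))))))) (.node (.node (.node (.node (.node (.node (.node (.leaf 10) (.leaf 1134)) (.node (.leaf 1605) (.leaf 394))) (.node (.node (.leaf 329) (.leaf 438)) (.node (.leaf 1128) (.leaf 0)))) (.node (.node (.node (.leaf 726) (.leaf 1676)) (.node (.leaf 1425) (.leaf 566))) (.node (.node (.leaf 153) (.leaf 1220)) (.node (.leaf 1679) (.leaf 0))))) (.node (.node (.node (.node (.leaf 982) (.leaf 1572)) (.node (.leaf 1260) (.leaf 165))) (.node (.node (.leaf 441) (.leaf 1617)) (.node (.leaf 702) (.leaf 0)))) (.node (.node (.node (.leaf 1379) (.leaf 966)) (.node (.leaf 1233) (.leaf 159))) (.node (.node (.leaf 372) (.leaf 302)) (.node (.leaf 626) (.leaf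 0)))))) (.node (.node (.node (.node (.node (.leaf 1564) (.leaf 1519)) (.node (.leaf 829) (.leaf 1415))) (.node (.node (.leaf 465) (.leaf 314)) (.node (.leaf 711) (.leaf 0)))) (.node (.node (.node (.leaf 1450) (.leaf 913)) (.node (.leaf 1715) (.leaf 1484))) (.node (.node (.leaf 405) (.leaf 1541)) (.node (.leaf 627) (.leaf 0))))) (.node (.node (.node (.node (.leaf 8) (.leaf 1743)) (.node (.leaf 1600) (.leaf 1254))) (.node (.node (.leaf 103) (.leaf 579)) (.node (.leaf 803) (.leaf 0)))) (.node (.node (.node (.leaf 220) (.leaf 1700)) (.node (.leaf 1356) (.leaf 0))) (.node (.node (.leaf 1472) (.leaf 841)) (.node (.leaf 1201) (.leaf 0))))))) (.node (.node (.node (.node (.node (.node (.leaf 896) (.leaf 1463)) (.node (.leaf 1175) (.leaf 120))) (.node (.node (.leaf 595) (.leaf 1492)) (.node (.leaf 68) (.leaf 0)))) (.node (.node (.node (.leaf 1576) (.leaf 1441)) (.node (.leaf 1249) (.leaf 119))) (.node (.node (.leaf 533) (.leaf 97)) (.node (.leaf 61) (.leaf 0))))) (.node (.node (.node (.node (.leaf 2) (.leaf 1303)) (.node (.leaf 990) (.leaf 554))) (.node (.node (.leaf 282)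 (.leaf 1698)) (.node (.leaf 826) (.leaf 0)))) (.node (.node (.node (.leaf 202) (.leaf 587)) (.node (.leaf 1118) (.leaf 0))) (.node (.node (.leaf 862) (.leaf 426)) (.node (.leaf 761) (.leaf 0)))))) (.node (.node (.node (.node (.node (.leaf 1530) (.leaf 1464)) (.node (.leaf 1705) (.leaf 1473))) (.node (.node (.leaf 511) (.leaf 98)) (.node (.leaf 67) (.leaf 0)))) (.node (.node (.node (.leaf 970) (.leaf 1442)) (.node (.leaf 772) (.leaf 1474))) (.node (.node (.leaf 586) (.leaf 1491)) (.node (.leaf 62) (.leaf 0))))) (.node (.node (.node (.node (.leaf 653) (.leaf 1363)) (.node (.leaf 939) (.leaf 1331))) (.node (.node (.leaf 310) (.leaf 404)) (.node (.leaf 1754) (.leaf 0)))) (.node (.node (.node (.leaf 181) (.leaf 1218)) (.node (.leaf 1278) (.leaf 0))) (.node (.node (.leaf 999) (.leaf 791)) (.node (.leaf 821) (.leaf 0)))))))))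

def orbI1_7 : Janko.Tree ℕ :=
  (.node (.node (.node (.node (.node (.node (.node (.node (.leaf 674) (.leaf 1688)) (.node (.leaf 133) (.leaf 412))) (.node (.node (.leaf 1073) (.leaf 472)) (.node (.leaf 755) (.leaf 0)))) (.node (.node (.node (.leaf 614) (.leaf 1342)) (.node (.leaf 259) (.leaf 539))) (.node (.node (.leaf 878) (.leaf 1629)) (.node (.leaf 1139) (.leaf 0))))) (.node (.node (.node (.node (.leaf 1108) (.leaf 891)) (.node (.leaf 458) (.leaf 108))) (.node (.node (.leaf 1170) (.leaf 865)) (.node (.leaf 12) (.leaf 0)))) (.node (.node (.node (.leaf 1455) (.leaf 894)) (.node (.leaf 390) (.leaf 107))) (.node (.node (.leaf 1323) (.leaf 95)) (.node (.leaf 16) (.leaf 0)))))) (.node (.node (.node (.node (.node (.leaf 1462) (.leaf 892)) (.node (.leaf 484) (.leaf 860))) (.node (.node (.leaf 1314) (.leaf 96)) (.node (.leaf 11) (.leaf 0)))) (.node (.node (.node (.leaf 1106) (.leaf 893)) (.node (.leaf 542) (.leaf 859))) (.node (.node (.leaf 1239) (.leaf 866)) (.node (.leaf 15) (.leaf 0))))) (.node (.node (.node (.node (.leaf 722) (.leaf 1282)) (.node (.leaf 214) (.leaf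 1634))) (.node (.node (.leaf 1537) (.leaf 530)) (.node (.leaf 1299) (.leaf 0)))) (.node (.node (.node (.leaf 1469) (.leaf 1149)) (.node (.leaf 1683) (.leaf 0))) (.node (.node (.leaf 339) (.leaf 1214)) (.node (.leaf 1748) (.leaf 0))))))) (.node (.node (.node (.node (.node (.node (.leaf 682) (.leaf 1359)) (.node (.leaf 250) (.leaf 1224))) (.node (.node (.leaf 1615) (.leaf 1640)) (.node (.leaf 806) (.leaf 0)))) (.node (.node (.node (.leaf 717) (.leaf 1746)) (.node (.leaf 157) (.leaf 1635))) (.node (.node (.leaf 1420) (.leaf 375)) (.node (.leaf 1289) (.leaf 0))))) (.node (.node (.node (.node (.leaf 1400) (.leaf 1452)) (.node (.leaf 563) (.leaf 882))) (.node (.node (.leaf 775) (.leaf 311)) (.node (.leaf 686) (.leaf 0)))) (.node (.node (.node (.leaf 1586) (.leaf 1042)) (.node (.leaf 505) (.leaf 933))) (.node (.node (.leaf 1650) (.leaf 996)) (.node (.leaf 644) (.leaf 0)))))) (.node (.node (.node (.node (.node (.leaf 1050) (.leaf 1383)) (.node (.leaf 423) (.leaf 161))) (.node (.node (.leaf 1627) (.leaf 1072)) (.node (.leaf 695) (.leaf 0)))) (.node (.node (.node (.leaf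 1381) (.leaf 1093)) (.node (.leaf 357) (.leaf 163))) (.node (.node (.leaf 834) (.leaf 299)) (.node (.leaf 641) (.leaf 0))))) (.node (.node (.node (.node (.leaf 609) (.leaf 1677)) (.node (.leaf 288) (.leaf 559))) (.node (.node (.leaf 1075) (.leaf 1160)) (.node (.leaf 1197) (.leaf 0)))) (.node (.node (.node (.leaf 887) (.leaf 510)) (.node (.leaf 1682) (.leaf 0))) (.node (.node (.leaf 114) (.leaf 380)) (.node (.leaf 1292) (.leaf 0)))))))) (.node (.node (.node (.node (.node (.node (.node (.leaf 76) (.leaf 1291)) (.node (.leaf 1426) (.leaf 1636))) (.node (.node (.leaf 142) (.leaf 1159)) (.node (.leaf 805) (.leaf 0)))) (.node (.node (.node (.leaf 661) (.leaf 1678)) (.node (.leaf 1606) (.leaf 1223))) (.node (.node (.leaf 318) (.leaf 509)) (.node (.leaf 1290) (.leaf 0))))) (.node (.node (.node (.node (.leaf 1375) (.leaf 1099)) (.node (.leaf 771) (.leaf 1009))) (.node (.node (.leaf 582) (.leaf 171)) (.node (.leaf 640) (.leaf 0)))) (.node (.node (.node (.leaf 1095) (.leaf 1393)) (.node (.leaf 1706) (.leaf 1062))) (.node (.node (.leaf 508) (.leaf 936)) (.node (.leaf 684)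 (.leaf 0)))))) (.node (.node (.node (.node (.node (.leaf 1025) (.leaf 1032)) (.node (.leaf 1250) (.leaf 240))) (.node (.node (.leaf 534) (.leaf 876)) (.node (.leaf 645) (.leaf 0)))) (.node (.node (.node (.leaf 1030) (.leaf 1446)) (.node (.leaf 1176) (.leaf 244))) (.node (.node (.leaf 600) (.leaf 183)) (.node (.leaf 697) (.leaf 0))))) (.node (.node (.node (.node (.leaf 729) (.leaf 1745)) (.node (.leaf 1471) (.leaf 379))) (.node (.node (.leaf 222) (.leaf 1639)) (.node (.leaf 1198) (.leaf 0)))) (.node (.node (.node (.leaf 104) (.leaf 376)) (.node (.leaf 1681) (.leaf 0))) (.node (.node (.leaf 1599) (.leaf 560)) (.node (.leaf 1360) (.leaf 0))))))) (.node (.node (.node (.node (.node (.node (.leaf 1437) (.leaf 1523)) (.node (.leaf 1716) (.leaf 1533))) (.node (.node (.leaf 406) (.leaf 197)) (.node (.leaf 24) (.leaf 0)))) (.node (.node (.node (.leaf 1382) (.leaf 1526)) (.node (.leaf 830) (.leaf 1534))) (.node (.node (.leaf 473) (.leaf 1535)) (.node (.leaf 22) (.leaf 0))))) (.node (.node (.node (.node (.leaf 617) (.leaf 1182)) (.node (.leaf 861) (.leaf 852))) (.node (.node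 (.leaf 188) (.leaf 601)) (.node (.leaf 1207) (.leaf 0)))) (.node (.node (.node (.leaf 280) (.leaf 1335)) (.node (.leaf 823) (.leaf 0))) (.node (.node (.leaf 989) (.leaf 1272)) (.node (.leaf 760) (.leaf 0)))))) (.node (.node (.node (.node (.node (.leaf 1083) (.leaf 1524)) (.node (.leaf 1234) (.leaf 205))) (.node (.node (.leaf 363) (.leaf 1536)) (.node (.leaf 23) (.leaf 0)))) (.node (.node (.node (.leaf 1388) (.leaf 1525)) (.node (.leaf 1259) (.leaf 206))) (.node (.node (.leaf 433) (.leaf 198)) (.node (.leaf 21) (.leaf 0))))) (.node (.node (.node (.node (.leaf 605) (.leaf 1122)) (.node (.leaf 1000) (.leaf 480))) (.node (.node (.leaf 182) (.leaf 855)) (.node (.leaf 1367) (.leaf 0)))) (.node (.node (.node (.leaf 306) (.leaf 401)) (.node (.leaf 1751) (.leaf 0))) (.node (.node (.leaf 940) (.leaf 356)) (.node (.leaf 820) (.leaf 0)))))))))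

/-- The images of the vectors under a generator. -/
def orbI1_ : Janko.Tree ℕ :=
  .node (.node (.node orbI1_0 orbI1_4) (.node orbI1_2 orbI1_6)) (.node (.node orbI1_1 orbI1_5) (.node orbI1_3 orbI1_7))

def orbI2_0 : Janko.Tree ℕ :=
  (.node (.node (.node (.node (.node (.node (.node (.node (.leaf 1) (.leaf 486)) (.node (.leaf 1018) (.leaf 1504))) (.node (.node (.leaf 742) (.leaf 1288)) (.node (.leaf 230) (.leaf 0)))) (.node (.node (.node (.leaf 62) (.leaf 566)) (.node (.leaf 1081) (.leaf 1567))) (.node (.node (.leaf 810) (.leaf 1311)) (.node (.leaf 294) (.leaf 0))))) (.node (.node (.node (.node (.leaf 148) (.leaf 614)) (.node (.leaf 1129) (.leaf 1628))) (.node (.node (.leaf 873) (.leaf 1380)) (.node (.leaf 358) (.leaf 0)))) (.node (.node (.node (.leaf 196) (.leaf 678)) (.node (.leaf 1210) (.leaf 1704))) (.node (.node (.leaf 953) (.leaf 1480)) (.node (.leaf 438) (.leaf 0)))))) (.node (.node (.node (.node (.node (.leaf 108) (.leaf 604)) (.node (.leaf 1144) (.leaf 1660))) (.node (.node (.leaf 871) (.leaf 1404)) (.node (.leaf 348) (.leaf 0)))) (.node (.node (.node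 (.leaf 160) (.leaf 668)) (.node (.leaf 1192) (.leaf 1736))) (.node (.node (.leaf 952) (.leaf 1440)) (.node (.leaf 428) (.leaf 0))))) (.node (.node (.node (.node (.leaf 30) (.leaf 558)) (.node (.leaf 1064) (.leaf 1599))) (.node (.node (.leaf 807) (.leaf 1351)) (.node (.leaf 286) (.leaf 0)))) (.node (.node (.node (.leaf 740) (.leaf 1248)) (.node (.leaf 222) (.leaf 0))) (.node (.node (.leaf 999) (.leaf 1536)) (.node (.leaf 478) (.leaf 0))))))) (.node (.node (.node (.node (.node (.node (.leaf 8) (.leaf 502)) (.node (.leaf 1002) (.leaf 1541))) (.node (.node (.leaf 758) (.leaf 1249)) (.node (.leaf 246) (.leaf 0)))) (.node (.node (.node (.leaf 90) (.leaf 550)) (.node (.leaf 1065) (.leaf 1606))) (.node (.node (.leaf 826) (.leaf 1354)) (.node (.leaf 308) (.leaf 0))))) (.node (.node (.node (.node (.leaf 150) (.leaf 630)) (.node (.leaf 1145) (.leaf 1673))) (.node (.node (.leaf 890) (.leaf 1405)) (.node (.leaf 372) (.leaf 0)))) (.node (.node (.node (.leaf 190) (.leaf 694)) (.node (.leaf 1194) (.leaf 1725))) (.node (.node (.leaf 938) (.leaf 1441)) (.node (.leaf 422) (.leaf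 0)))))) (.node (.node (.node (.node (.node (.leaf 110) (.leaf 620)) (.node (.leaf 1127) (.leaf 1642))) (.node (.node (.leaf 888) (.leaf 1382)) (.node (.leaf 366) (.leaf 0)))) (.node (.node (.node (.leaf 169) (.leaf 684)) (.node (.leaf 1207) (.leaf 1694))) (.node (.node (.leaf 935) (.leaf 1482)) (.node (.leaf 412) (.leaf 0))))) (.node (.node (.node (.node (.leaf 34) (.leaf 542)) (.node (.leaf 1079) (.leaf 1573))) (.node (.node (.leaf 823) (.leaf 1313)) (.node (.leaf 302) (.leaf 0)))) (.node (.node (.node (.leaf 756) (.leaf 1290)) (.node (.leaf 238) (.leaf 0))) (.node (.node (.leaf 1016) (.leaf 1510)) (.node (.leaf 494) (.leaf 0)))))))) (.node (.node (.node (.node (.node (.node (.node (.leaf 16) (.leaf 490)) (.node (.leaf 1050) (.leaf 1512))) (.node (.node (.leaf 774) (.leaf 1280)) (.node (.leaf 234) (.leaf 0)))) (.node (.node (.node (.leaf 70) (.leaf 570)) (.node (.leaf 1114) (.leaf 1575))) (.node (.node (.leaf 841) (.leaf 1319)) (.node (.leaf 298) (.leaf 0))))) (.node (.node (.node (.node (.leaf 142) (.leaf 618)) (.node (.leaf 1161) (.leaf 1636))) (.node (.node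 (.leaf 905) (.leaf 1372)) (.node (.leaf 360) (.leaf 0)))) (.node (.node (.node (.leaf 188) (.leaf 682)) (.node (.leaf 1241) (.leaf 1696))) (.node (.node (.leaf 986) (.leaf 1472)) (.node (.leaf 440) (.leaf 0)))))) (.node (.node (.node (.node (.node (.leaf 116) (.leaf 608)) (.node (.leaf 1176) (.leaf 1668))) (.node (.node (.leaf 903) (.leaf 1412)) (.node (.leaf 354) (.leaf 0)))) (.node (.node (.node (.leaf 164) (.leaf 672)) (.node (.leaf 1223) (.leaf 1728))) (.node (.node (.leaf 983) (.leaf 1448)) (.node (.leaf 434) (.leaf 0))))) (.node (.node (.node (.node (.leaf 38) (.leaf 562)) (.node (.leaf 1095) (.leaf 1607))) (.node (.node (.leaf 840) (.leaf 1343)) (.node (.leaf 290) (.leaf 0)))) (.node (.node (.node (.leaf 772) (.leaf 1256)) (.node (.leaf 226) (.leaf 0))) (.node (.node (.leaf 1031) (.leaf 1544)) (.node (.leaf 482) (.leaf 0))))))) (.node (.node (.node (.node (.node (.node (.leaf 23) (.leaf 504)) (.node (.leaf 1034) (.leaf 1537))) (.node (.node (.leaf 790) (.leaf 1253)) (.node (.leaf 250) (.leaf 0)))) (.node (.node (.node (.leaf 66) (.leaf 552)) (.node (.leaf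 1098) (.leaf 1601))) (.node (.node (.leaf 857) (.leaf 1341)) (.node (.leaf 314) (.leaf 0))))) (.node (.node (.node (.node (.leaf 140) (.leaf 632)) (.node (.leaf 1177) (.leaf 1661))) (.node (.node (.leaf 921) (.leaf 1417)) (.node (.leaf 376) (.leaf 0)))) (.node (.node (.node (.leaf 209) (.leaf 696)) (.node (.leaf 1225) (.leaf 1738))) (.node (.node (.leaf 969) (.leaf 1446)) (.node (.leaf 426) (.leaf 0)))))) (.node (.node (.node (.node (.node (.leaf 118) (.leaf 626)) (.node (.leaf 1159) (.leaf 1630))) (.node (.node (.leaf 919) (.leaf 1378)) (.node (.leaf 370) (.leaf 0)))) (.node (.node (.node (.leaf 158) (.leaf 690)) (.node (.leaf 1240) (.leaf 1705))) (.node (.node (.leaf 968) (.leaf 1469)) (.node (.leaf 416) (.leaf 0))))) (.node (.node (.node (.node (.leaf 42) (.leaf 544)) (.node (.leaf 1112) (.leaf 1570))) (.node (.node (.leaf 856) (.leaf 1318)) (.node (.leaf 304) (.leaf 0)))) (.node (.node (.node (.leaf 788) (.leaf 1278)) (.node (.leaf 242) (.leaf 0))) (.node (.node (.leaf 1048) (.leaf 1506)) (.node (.leaf 496) (.leaf 0)))))))))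

def orbI2_1 : Janko.Tree ℕ :=
  (.node (.node (.node (.node (.node (.node (.node (.node (.leaf 0) (.leaf 534)) (.node (.leaf 1013) (.leaf 1560))) (.node (.node (.leaf 745) (.leaf 1267)) (.node (.leaf 261) (.leaf 0)))) (.node (.node (.node (.leaf 77) (.leaf 580)) (.node (.leaf 1077) (.leaf 1623))) (.node (.node (.leaf 806) (.leaf 1359)) (.node (.leaf 326) (.leaf 0))))) (.node (.node (.node (.node (.leaf 151) (.leaf 662)) (.node (.leaf 1126) (.leaf 1688))) (.node (.node (.leaf 870) (.leaf 1427)) (.node (.leaf 390) (.leaf 0)))) (.node (.node (.node (.leaf 205) (.leaf 724)) (.node (.leaf 1206) (.leaf 1740))) (.node (.node (.leaf 949) (.leaf 1460)) (.node (.leaf 470) (.leaf 0)))))) (.node (.node (.node (.node (.node (.leaf 111) (.leaf 652)) (.node (.leaf 1139) (.leaf 1652))) (.node (.node (.leaf 868) (.leaf 1392)) (.node (.leaf 380) (.leaf 0)))) (.node (.node (.node (.leaf 181) (.leaf 718)) (.node (.leaf 1188) (.leaf 1711))) (.node (.node (.leaf 948) (.leaf 1488)) (.node (.leaf 460) (.leaf 0))))) (.node (.node (.node (.node (.leaf 45) (.leaf 572)) (.node (.leaf 1060)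 (.leaf 1588))) (.node (.node (.leaf 803) (.leaf 1331)) (.node (.leaf 318) (.leaf 0)))) (.node (.node (.node (.leaf 743) (.leaf 1296)) (.node (.leaf 253) (.leaf 0))) (.node (.node (.leaf 996) (.leaf 1524)) (.node (.leaf 526) (.leaf 0))))))) (.node (.node (.node (.node (.node (.node (.leaf 9) (.leaf 516)) (.node (.leaf 997) (.leaf 1517))) (.node (.node (.leaf 761) (.leaf 1294)) (.node (.leaf 277) (.leaf 0)))) (.node (.node (.node (.leaf 73) (.leaf 598)) (.node (.leaf 1061) (.leaf 1582))) (.node (.node (.leaf 822) (.leaf 1338)) (.node (.leaf 340) (.leaf 0))))) (.node (.node (.node (.node (.leaf 153) (.leaf 644)) (.node (.leaf 1142) (.leaf 1645))) (.node (.node (.leaf 885) (.leaf 1390)) (.node (.leaf 404) (.leaf 0)))) (.node (.node (.node (.leaf 216) (.leaf 710)) (.node (.leaf 1190) (.leaf 1721))) (.node (.node (.leaf 934) (.leaf 1485)) (.node (.leaf 454) (.leaf 0)))))) (.node (.node (.node (.node (.node (.leaf 113) (.leaf 638)) (.node (.leaf 1124) (.leaf 1682))) (.node (.node (.leaf 883) (.leaf 1434)) (.node (.leaf 398) (.leaf 0)))) (.node (.node (.node (.leaf 177)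 (.leaf 700)) (.node (.leaf 1203) (.leaf 1749))) (.node (.node (.leaf 931) (.leaf 1466)) (.node (.leaf 444) (.leaf 0))))) (.node (.node (.node (.node (.leaf 49) (.leaf 590)) (.node (.leaf 1075) (.leaf 1618))) (.node (.node (.leaf 819) (.leaf 1357)) (.node (.leaf 334) (.leaf 0)))) (.node (.node (.node (.leaf 759) (.leaf 1274)) (.node (.leaf 269) (.leaf 0))) (.node (.node (.leaf 1011) (.leaf 1554)) (.node (.leaf 508) (.leaf 0)))))))) (.node (.node (.node (.node (.node (.node (.node (.leaf 17) (.leaf 538)) (.node (.leaf 1045) (.leaf 1551))) (.node (.node (.leaf 777) (.leaf 1260)) (.node (.leaf 265) (.leaf 0)))) (.node (.node (.node (.leaf 85) (.leaf 584)) (.node (.leaf 1110) (.leaf 1616))) (.node (.node (.leaf 837) (.leaf 1368)) (.node (.leaf 328) (.leaf 0))))) (.node (.node (.node (.node (.leaf 145) (.leaf 666)) (.node (.leaf 1158) (.leaf 1679))) (.node (.node (.leaf 902) (.leaf 1420)) (.node (.leaf 392) (.leaf 0)))) (.node (.node (.node (.leaf 212) (.leaf 728)) (.node (.leaf 1237) (.leaf 1747))) (.node (.node (.leaf 982) (.leaf 1451)) (.node (.leaf 472) (.leaf 0))))))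 (.node (.node (.node (.node (.node (.leaf 119) (.leaf 656)) (.node (.leaf 1171) (.leaf 1643))) (.node (.node (.leaf 900) (.leaf 1399)) (.node (.leaf 386) (.leaf 0)))) (.node (.node (.node (.leaf 176) (.leaf 722)) (.node (.leaf 1219) (.leaf 1720))) (.node (.node (.leaf 979) (.leaf 1495)) (.node (.leaf 466) (.leaf 0))))) (.node (.node (.node (.node (.leaf 53) (.leaf 576)) (.node (.leaf 1091) (.leaf 1579))) (.node (.node (.leaf 836) (.leaf 1324)) (.node (.leaf 320) (.leaf 0)))) (.node (.node (.node (.leaf 775) (.leaf 1303)) (.node (.leaf 257) (.leaf 0))) (.node (.node (.leaf 1028) (.leaf 1515)) (.node (.leaf 530) (.leaf 0))))))) (.node (.node (.node (.node (.node (.node (.leaf 26) (.leaf 522)) (.node (.leaf 1029) (.leaf 1530))) (.node (.node (.leaf 793) (.leaf 1305)) (.node (.leaf 281) (.leaf 0)))) (.node (.node (.node (.leaf 81) (.leaf 600)) (.node (.leaf 1094) (.leaf 1594))) (.node (.node (.leaf 853) (.leaf 1326)) (.node (.leaf 344) (.leaf 0))))) (.node (.node (.node (.node (.leaf 143) (.leaf 650)) (.node (.leaf 1174) (.leaf 1658))) (.node (.node (.leaf 918) (.leaf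 1401)) (.node (.leaf 408) (.leaf 0)))) (.node (.node (.node (.leaf 198) (.leaf 712)) (.node (.leaf 1221) (.leaf 1709))) (.node (.node (.leaf 965) (.leaf 1497)) (.node (.leaf 458) (.leaf 0)))))) (.node (.node (.node (.node (.node (.leaf 121) (.leaf 640)) (.node (.leaf 1156) (.leaf 1685))) (.node (.node (.leaf 916) (.leaf 1421)) (.node (.leaf 402) (.leaf 0)))) (.node (.node (.node (.leaf 179) (.leaf 706)) (.node (.leaf 1236) (.leaf 1745))) (.node (.node (.leaf 964) (.leaf 1454)) (.node (.leaf 448) (.leaf 0))))) (.node (.node (.node (.node (.leaf 57) (.leaf 592)) (.node (.leaf 1108) (.leaf 1622))) (.node (.node (.leaf 852) (.leaf 1369)) (.node (.leaf 338) (.leaf 0)))) (.node (.node (.node (.leaf 791) (.leaf 1261)) (.node (.leaf 273) (.leaf 0))) (.node (.node (.leaf 1043) (.leaf 1557)) (.node (.leaf 514) (.leaf 0)))))))))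

def orbI2_2 : Janko.Tree ℕ :=
  (.node (.node (.node (.node (.node (.node (.node (.node (.leaf 2) (.leaf 532)) (.node (.leaf 1017) (.leaf 1556))) (.node (.node (.leaf 746) (.leaf 1271)) (.node (.leaf 262) (.leaf 0)))) (.node (.node (.node (.leaf 78) (.leaf 582)) (.node (.leaf 1082) (.leaf 1620))) (.node (.node (.leaf 809) (.leaf 1356)) (.node (.leaf 324) (.leaf 0))))) (.node (.node (.node (.node (.leaf 152) (.leaf 660)) (.node (.leaf 1130) (.leaf 1684))) (.node (.node (.leaf 874) (.leaf 1431)) (.node (.leaf 388) (.leaf 0)))) (.node (.node (.node (.leaf 206) (.leaf 726)) (.node (.leaf 1209) (.leaf 1743))) (.node (.node (.leaf 954) (.leaf 1463)) (.node (.leaf 468) (.leaf 0)))))) (.node (.node (.node (.node (.node (.leaf 112) (.leaf 654)) (.node (.leaf 1143) (.leaf 1656))) (.node (.node (.leaf 872) (.leaf 1388)) (.node (.leaf 382) (.leaf 0)))) (.node (.node (.node (.leaf 182) (.leaf 716)) (.node (.leaf 1191) (.leaf 1708))) (.node (.node (.leaf 951) (.leaf 1483)) (.node (.leaf 462) (.leaf 0))))) (.node (.node (.node (.node (.leaf 46) (.leaf 574)) (.node (.leaf 1063)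 (.leaf 1591))) (.node (.node (.leaf 808) (.leaf 1336)) (.node (.leaf 316) (.leaf 0)))) (.node (.node (.node (.leaf 744) (.leaf 1292)) (.node (.leaf 254) (.leaf 0))) (.node (.node (.leaf 1000) (.leaf 1528)) (.node (.leaf 524) (.leaf 0))))))) (.node (.node (.node (.node (.node (.node (.leaf 10) (.leaf 518)) (.node (.leaf 1001) (.leaf 1521))) (.node (.node (.leaf 762) (.leaf 1298)) (.node (.leaf 278) (.leaf 0)))) (.node (.node (.node (.leaf 74) (.leaf 596)) (.node (.leaf 1066) (.leaf 1585))) (.node (.node (.leaf 825) (.leaf 1333)) (.node (.leaf 342) (.leaf 0))))) (.node (.node (.node (.node (.leaf 154) (.leaf 646)) (.node (.leaf 1146) (.leaf 1649))) (.node (.node (.leaf 889) (.leaf 1394)) (.node (.leaf 406) (.leaf 0)))) (.node (.node (.node (.leaf 215) (.leaf 708)) (.node (.leaf 1193) (.leaf 1718))) (.node (.node (.leaf 937) (.leaf 1490)) (.node (.leaf 452) (.leaf 0)))))) (.node (.node (.node (.node (.node (.leaf 114) (.leaf 636)) (.node (.leaf 1128) (.leaf 1678))) (.node (.node (.leaf 887) (.leaf 1430)) (.node (.leaf 396) (.leaf 0)))) (.node (.node (.node (.leaf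 178) (.leaf 702)) (.node (.leaf 1208) (.leaf 1754))) (.node (.node (.leaf 936) (.leaf 1461)) (.node (.leaf 446) (.leaf 0))))) (.node (.node (.node (.node (.leaf 50) (.leaf 588)) (.node (.leaf 1080) (.leaf 1613))) (.node (.node (.leaf 824) (.leaf 1362)) (.node (.leaf 332) (.leaf 0)))) (.node (.node (.node (.leaf 760) (.leaf 1270)) (.node (.leaf 270) (.leaf 0))) (.node (.node (.leaf 1015) (.leaf 1550)) (.node (.leaf 510) (.leaf 0)))))))) (.node (.node (.node (.node (.node (.node (.node (.leaf 18) (.leaf 536)) (.node (.leaf 1049) (.leaf 1547))) (.node (.node (.leaf 778) (.leaf 1264)) (.node (.leaf 266) (.leaf 0)))) (.node (.node (.node (.leaf 86) (.leaf 586)) (.node (.leaf 1113) (.leaf 1611))) (.node (.node (.leaf 842) (.leaf 1363)) (.node (.leaf 330) (.leaf 0))))) (.node (.node (.node (.node (.leaf 146) (.leaf 664)) (.node (.leaf 1162) (.leaf 1675))) (.node (.node (.leaf 906) (.leaf 1424)) (.node (.leaf 394) (.leaf 0)))) (.node (.node (.node (.leaf 211) (.leaf 730)) (.node (.leaf 1242) (.leaf 1752))) (.node (.node (.leaf 985) (.leaf 1456)) (.node (.leaf 474) (.leaf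 0)))))) (.node (.node (.node (.node (.node (.leaf 120) (.leaf 658)) (.node (.leaf 1175) (.leaf 1647))) (.node (.node (.leaf 904) (.leaf 1395)) (.node (.leaf 384) (.leaf 0)))) (.node (.node (.node (.leaf 175) (.leaf 720)) (.node (.leaf 1224) (.leaf 1715))) (.node (.node (.leaf 984) (.leaf 1492)) (.node (.leaf 464) (.leaf 0))))) (.node (.node (.node (.node (.leaf 54) (.leaf 578)) (.node (.leaf 1096) (.leaf 1584))) (.node (.node (.leaf 839) (.leaf 1327)) (.node (.leaf 322) (.leaf 0)))) (.node (.node (.node (.leaf 776) (.leaf 1299)) (.node (.leaf 258) (.leaf 0))) (.node (.node (.leaf 1032) (.leaf 1519)) (.node (.leaf 528) (.leaf 0))))))) (.node (.node (.node (.node (.node (.node (.leaf 25) (.leaf 520)) (.node (.leaf 1033) (.leaf 1526))) (.node (.node (.leaf 794) (.leaf 1301)) (.node (.leaf 282) (.leaf 0)))) (.node (.node (.node (.leaf 82) (.leaf 602)) (.node (.leaf 1097) (.leaf 1589))) (.node (.node (.leaf 858) (.leaf 1329)) (.node (.leaf 346) (.leaf 0))))) (.node (.node (.node (.node (.leaf 144) (.leaf 648)) (.node (.leaf 1178) (.leaf 1654))) (.node (.node (.leaf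 922) (.leaf 1397)) (.node (.leaf 410) (.leaf 0)))) (.node (.node (.node (.leaf 197) (.leaf 714)) (.node (.leaf 1226) (.leaf 1714))) (.node (.node (.leaf 970) (.leaf 1494)) (.node (.leaf 456) (.leaf 0)))))) (.node (.node (.node (.node (.node (.leaf 122) (.leaf 642)) (.node (.leaf 1160) (.leaf 1689))) (.node (.node (.leaf 920) (.leaf 1425)) (.node (.leaf 400) (.leaf 0)))) (.node (.node (.node (.leaf 180) (.leaf 704)) (.node (.leaf 1239) (.leaf 1742))) (.node (.node (.leaf 967) (.leaf 1457)) (.node (.leaf 450) (.leaf 0))))) (.node (.node (.node (.node (.leaf 58) (.leaf 594)) (.node (.leaf 1111) (.leaf 1625))) (.node (.node (.leaf 855) (.leaf 1366)) (.node (.leaf 336) (.leaf 0)))) (.node (.node (.node (.leaf 792) (.leaf 1265)) (.node (.leaf 274) (.leaf 0))) (.node (.node (.leaf 1047) (.leaf 1561)) (.node (.leaf 512) (.leaf 0)))))))))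

def orbI2_3 : Janko.Tree ℕ :=
  (.node (.node (.node (.node (.node (.node (.node (.node (.leaf 11) (.leaf 487)) (.node (.leaf 1037) (.leaf 1507))) (.node (.node (.leaf 765) (.leaf 1275)) (.node (.leaf 231) (.leaf 0)))) (.node (.node (.node (.leaf 67) (.leaf 567)) (.node (.leaf 1102) (.leaf 1571))) (.node (.node (.leaf 829) (.leaf 1315)) (.node (.leaf 295) (.leaf 0))))) (.node (.node (.node (.node (.leaf 131) (.leaf 617)) (.node (.leaf 1149) (.leaf 1635))) (.node (.node (.leaf 894) (.leaf 1371)) (.node (.leaf 359) (.leaf 0)))) (.node (.node (.node (.leaf 191) (.leaf 681)) (.node (.leaf 1229) (.leaf 1695))) (.node (.node (.leaf 973) (.leaf 1471)) (.node (.leaf 439) (.leaf 0)))))) (.node (.node (.node (.node (.node (.leaf 99) (.leaf 607)) (.node (.leaf 1163) (.leaf 1667))) (.node (.node (.leaf 891) (.leaf 1411)) (.node (.leaf 353) (.leaf 0)))) (.node (.node (.node (.leaf 167) (.leaf 671)) (.node (.leaf 1212) (.leaf 1727))) (.node (.node (.leaf 972) (.leaf 1447)) (.node (.leaf 433) (.leaf 0))))) (.node (.node (.node (.node (.leaf 35) (.leaf 559)) (.node (.leaf 1084)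 (.leaf 1603))) (.node (.node (.leaf 828) (.leaf 1339)) (.node (.leaf 287) (.leaf 0)))) (.node (.node (.node (.leaf 763) (.leaf 1251)) (.node (.leaf 223) (.leaf 0))) (.node (.node (.leaf 1019) (.leaf 1539)) (.node (.leaf 479) (.leaf 0))))))) (.node (.node (.node (.node (.node (.node (.leaf 19) (.leaf 505)) (.node (.leaf 1022) (.leaf 1534))) (.node (.node (.leaf 781) (.leaf 1258)) (.node (.leaf 247) (.leaf 0)))) (.node (.node (.node (.leaf 63) (.leaf 553)) (.node (.leaf 1085) (.leaf 1597))) (.node (.node (.leaf 846) (.leaf 1345)) (.node (.leaf 311) (.leaf 0))))) (.node (.node (.node (.node (.leaf 133) (.leaf 631)) (.node (.leaf 1166) (.leaf 1662))) (.node (.node (.leaf 909) (.leaf 1418)) (.node (.leaf 375) (.leaf 0)))) (.node (.node (.node (.leaf 202) (.leaf 695)) (.node (.leaf 1214) (.leaf 1737))) (.node (.node (.leaf 957) (.leaf 1445)) (.node (.leaf 425) (.leaf 0)))))) (.node (.node (.node (.node (.node (.leaf 101) (.leaf 625)) (.node (.leaf 1147) (.leaf 1629))) (.node (.node (.leaf 908) (.leaf 1377)) (.node (.leaf 369) (.leaf 0)))) (.node (.node (.node (.leaf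 185) (.leaf 689)) (.node (.leaf 1228) (.leaf 1706))) (.node (.node (.leaf 956) (.leaf 1470)) (.node (.leaf 415) (.leaf 0))))) (.node (.node (.node (.node (.leaf 39) (.leaf 545)) (.node (.leaf 1100) (.leaf 1566))) (.node (.node (.leaf 843) (.leaf 1322)) (.node (.leaf 305) (.leaf 0)))) (.node (.node (.node (.leaf 779) (.leaf 1281)) (.node (.leaf 239) (.leaf 0))) (.node (.node (.leaf 1035) (.leaf 1501)) (.node (.leaf 497) (.leaf 0)))))))) (.node (.node (.node (.node (.node (.node (.node (.leaf 3) (.leaf 499)) (.node (.leaf 990) (.leaf 1546))) (.node (.node (.leaf 749) (.leaf 1246)) (.node (.leaf 243) (.leaf 0)))) (.node (.node (.node (.leaf 87) (.leaf 547)) (.node (.leaf 1054) (.leaf 1610))) (.node (.node (.leaf 813) (.leaf 1350)) (.node (.leaf 309) (.leaf 0))))) (.node (.node (.node (.node (.leaf 125) (.leaf 629)) (.node (.leaf 1134) (.leaf 1674))) (.node (.node (.leaf 878) (.leaf 1406)) (.node (.leaf 371) (.leaf 0)))) (.node (.node (.node (.leaf 214) (.leaf 693)) (.node (.leaf 1181) (.leaf 1726))) (.node (.node (.leaf 926) (.leaf 1442)) (.node (.leaf 421) (.leaf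 0)))))) (.node (.node (.node (.node (.node (.leaf 93) (.leaf 619)) (.node (.leaf 1115) (.leaf 1641))) (.node (.node (.leaf 875) (.leaf 1381)) (.node (.leaf 365) (.leaf 0)))) (.node (.node (.node (.leaf 171) (.leaf 683)) (.node (.leaf 1195) (.leaf 1693))) (.node (.node (.leaf 923) (.leaf 1481)) (.node (.leaf 411) (.leaf 0))))) (.node (.node (.node (.node (.leaf 31) (.leaf 539)) (.node (.leaf 1067) (.leaf 1577))) (.node (.node (.leaf 812) (.leaf 1309)) (.node (.leaf 299) (.leaf 0)))) (.node (.node (.node (.leaf 747) (.leaf 1285)) (.node (.leaf 235) (.leaf 0))) (.node (.node (.leaf 1003) (.leaf 1513)) (.node (.leaf 491) (.leaf 0))))))) (.node (.node (.node (.node (.node (.node (.leaf 91) (.leaf 603)) (.node (.leaf 1131) (.leaf 1659))) (.node (.node (.leaf 859) (.leaf 1403)) (.node (.leaf 347) (.leaf 0)))) (.node (.node (.node (.leaf 155) (.leaf 667)) (.node (.leaf 1179) (.leaf 1735))) (.node (.node (.leaf 939) (.leaf 1439)) (.node (.leaf 427) (.leaf 0))))) (.node (.node (.node (.node (.leaf 27) (.leaf 555)) (.node (.leaf 1051) (.leaf 1595))) (.node (.node (.leaf 795)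 (.leaf 1347)) (.node (.leaf 283) (.leaf 0)))) (.node (.node (.node (.leaf 731) (.leaf 1243)) (.node (.leaf 219) (.leaf 0))) (.node (.node (.leaf 987) (.leaf 1531)) (.node (.leaf 475) (.leaf 0)))))) (.node (.node (.node (.node (.node (.leaf 123) (.leaf 613)) (.node (.leaf 1117) (.leaf 1627))) (.node (.node (.leaf 862) (.leaf 1379)) (.node (.leaf 357) (.leaf 0)))) (.node (.node (.node (.leaf 199) (.leaf 677)) (.node (.leaf 1198) (.leaf 1703))) (.node (.node (.leaf 942) (.leaf 1479)) (.node (.leaf 437) (.leaf 0))))) (.node (.node (.node (.node (.leaf 59) (.leaf 563)) (.node (.leaf 1069) (.leaf 1563))) (.node (.node (.leaf 798) (.leaf 1307)) (.node (.leaf 291) (.leaf 0)))) (.node (.node (.node (.leaf 733) (.leaf 1283)) (.node (.leaf 227) (.leaf 0))) (.node (.node (.leaf 1005) (.leaf 1499)) (.node (.leaf 483) (.leaf 0)))))))))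

def orbI2_4 : Janko.Tree ℕ :=
  (.node (.node (.node (.node (.node (.node (.node (.node (.leaf 12) (.leaf 489)) (.node (.leaf 1041) (.leaf 1511))) (.node (.node (.leaf 766) (.leaf 1279)) (.node (.leaf 232) (.leaf 0)))) (.node (.node (.node (.leaf 68) (.leaf 569)) (.node (.leaf 1105) (.leaf 1576))) (.node (.node (.leaf 834) (.leaf 1320)) (.node (.leaf 297) (.leaf 0))))) (.node (.node (.node (.node (.leaf 132) (.leaf 615)) (.node (.leaf 1153) (.leaf 1639))) (.node (.node (.leaf 898) (.leaf 1375)) (.node (.leaf 361) (.leaf 0)))) (.node (.node (.node (.leaf 192) (.leaf 679)) (.node (.leaf 1234) (.leaf 1692))) (.node (.node (.leaf 978) (.leaf 1468)) (.node (.leaf 441) (.leaf 0)))))) (.node (.node (.node (.node (.node (.leaf 100) (.leaf 609)) (.node (.leaf 1167) (.leaf 1671))) (.node (.node (.leaf 895) (.leaf 1415)) (.node (.leaf 351) (.leaf 0)))) (.node (.node (.node (.leaf 168) (.leaf 673)) (.node (.leaf 1215) (.leaf 1724))) (.node (.node (.leaf 975) (.leaf 1444)) (.node (.leaf 431) (.leaf 0))))) (.node (.node (.node (.node (.leaf 36) (.leaf 561)) (.node (.leaf 1087)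 (.leaf 1608))) (.node (.node (.leaf 831) (.leaf 1344)) (.node (.leaf 289) (.leaf 0)))) (.node (.node (.node (.leaf 764) (.leaf 1255)) (.node (.leaf 224) (.leaf 0))) (.node (.node (.leaf 1023) (.leaf 1543)) (.node (.leaf 481) (.leaf 0))))))) (.node (.node (.node (.node (.node (.node (.leaf 20) (.leaf 503)) (.node (.leaf 1026) (.leaf 1538))) (.node (.node (.leaf 782) (.leaf 1254)) (.node (.leaf 248) (.leaf 0)))) (.node (.node (.node (.leaf 64) (.leaf 551)) (.node (.leaf 1090) (.leaf 1602))) (.node (.node (.leaf 849) (.leaf 1342)) (.node (.leaf 313) (.leaf 0))))) (.node (.node (.node (.node (.leaf 134) (.leaf 633)) (.node (.leaf 1170) (.leaf 1666))) (.node (.node (.leaf 913) (.leaf 1414)) (.node (.leaf 377) (.leaf 0)))) (.node (.node (.node (.leaf 201) (.leaf 697)) (.node (.leaf 1217) (.leaf 1734))) (.node (.node (.leaf 962) (.leaf 1450)) (.node (.leaf 423) (.leaf 0)))))) (.node (.node (.node (.node (.node (.leaf 102) (.leaf 623)) (.node (.leaf 1151) (.leaf 1633))) (.node (.node (.leaf 912) (.leaf 1373)) (.node (.leaf 367) (.leaf 0)))) (.node (.node (.node (.leaf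 186) (.leaf 687)) (.node (.leaf 1231) (.leaf 1701))) (.node (.node (.leaf 959) (.leaf 1473)) (.node (.leaf 417) (.leaf 0))))) (.node (.node (.node (.node (.leaf 40) (.leaf 543)) (.node (.leaf 1103) (.leaf 1569))) (.node (.node (.leaf 848) (.leaf 1317)) (.node (.leaf 303) (.leaf 0)))) (.node (.node (.node (.leaf 780) (.leaf 1277)) (.node (.leaf 240) (.leaf 0))) (.node (.node (.leaf 1039) (.leaf 1505)) (.node (.leaf 495) (.leaf 0)))))))) (.node (.node (.node (.node (.node (.node (.node (.leaf 4) (.leaf 501)) (.node (.leaf 994) (.leaf 1542))) (.node (.node (.leaf 750) (.leaf 1250)) (.node (.leaf 244) (.leaf 0)))) (.node (.node (.node (.leaf 88) (.leaf 549)) (.node (.leaf 1057) (.leaf 1605))) (.node (.node (.leaf 818) (.leaf 1353)) (.node (.leaf 307) (.leaf 0))))) (.node (.node (.node (.node (.leaf 126) (.leaf 627)) (.node (.leaf 1138) (.leaf 1670))) (.node (.node (.leaf 882) (.leaf 1410)) (.node (.leaf 373) (.leaf 0)))) (.node (.node (.node (.leaf 213) (.leaf 691)) (.node (.leaf 1186) (.leaf 1729))) (.node (.node (.leaf 929) (.leaf 1437)) (.node (.leaf 419) (.leaf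 0)))))) (.node (.node (.node (.node (.node (.leaf 94) (.leaf 621)) (.node (.leaf 1119) (.leaf 1637))) (.node (.node (.leaf 879) (.leaf 1385)) (.node (.leaf 363) (.leaf 0)))) (.node (.node (.node (.leaf 172) (.leaf 685)) (.node (.leaf 1200) (.leaf 1698))) (.node (.node (.leaf 928) (.leaf 1478)) (.node (.leaf 413) (.leaf 0))))) (.node (.node (.node (.node (.leaf 32) (.leaf 541)) (.node (.leaf 1072) (.leaf 1574))) (.node (.node (.leaf 815) (.leaf 1314)) (.node (.leaf 301) (.leaf 0)))) (.node (.node (.node (.leaf 748) (.leaf 1289)) (.node (.leaf 236) (.leaf 0))) (.node (.node (.leaf 1007) (.leaf 1509)) (.node (.leaf 493) (.leaf 0))))))) (.node (.node (.node (.node (.node (.node (.leaf 92) (.leaf 605)) (.node (.leaf 1135) (.leaf 1663))) (.node (.node (.leaf 863) (.leaf 1407)) (.node (.leaf 349) (.leaf 0)))) (.node (.node (.node (.leaf 156) (.leaf 669)) (.node (.leaf 1184) (.leaf 1732))) (.node (.node (.leaf 944) (.leaf 1436)) (.node (.leaf 429) (.leaf 0))))) (.node (.node (.node (.node (.leaf 28) (.leaf 557)) (.node (.leaf 1056) (.leaf 1600))) (.node (.node (.leaf 800)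 (.leaf 1352)) (.node (.leaf 285) (.leaf 0)))) (.node (.node (.node (.leaf 732) (.leaf 1247)) (.node (.leaf 220) (.leaf 0))) (.node (.node (.leaf 991) (.leaf 1535)) (.node (.leaf 477) (.leaf 0)))))) (.node (.node (.node (.node (.node (.leaf 124) (.leaf 611)) (.node (.leaf 1121) (.leaf 1631))) (.node (.node (.leaf 866) (.leaf 1383)) (.node (.leaf 355) (.leaf 0)))) (.node (.node (.node (.leaf 200) (.leaf 675)) (.node (.leaf 1201) (.leaf 1700))) (.node (.node (.leaf 945) (.leaf 1476)) (.node (.leaf 435) (.leaf 0))))) (.node (.node (.node (.node (.leaf 60) (.leaf 565)) (.node (.leaf 1074) (.leaf 1568))) (.node (.node (.leaf 801) (.leaf 1312)) (.node (.leaf 293) (.leaf 0)))) (.node (.node (.node (.leaf 734) (.leaf 1287)) (.node (.leaf 228) (.leaf 0))) (.node (.node (.leaf 1009) (.leaf 1503)) (.node (.leaf 485) (.leaf 0)))))))))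

def orbI2_5 : Janko.Tree ℕ :=
  (.node (.node (.node (.node (.node (.node (.node (.node (.leaf 13) (.leaf 537)) (.node (.leaf 1038) (.leaf 1552))) (.node (.node (.leaf 769) (.leaf 1259)) (.node (.leaf 263) (.leaf 0)))) (.node (.node (.node (.leaf 83) (.leaf 583)) (.node (.leaf 1101) (.leaf 1615))) (.node (.node (.leaf 830) (.leaf 1367)) (.node (.leaf 327) (.leaf 0))))) (.node (.node (.node (.node (.leaf 135) (.leaf 663)) (.node (.leaf 1150) (.leaf 1676))) (.node (.node (.leaf 893) (.leaf 1423)) (.node (.leaf 393) (.leaf 0)))) (.node (.node (.node (.leaf 218) (.leaf 729)) (.node (.leaf 1230) (.leaf 1751))) (.node (.node (.leaf 974) (.leaf 1455)) (.node (.leaf 473) (.leaf 0)))))) (.node (.node (.node (.node (.node (.leaf 103) (.leaf 657)) (.node (.leaf 1164) (.leaf 1648))) (.node (.node (.leaf 892) (.leaf 1396)) (.node (.leaf 383) (.leaf 0)))) (.node (.node (.node (.leaf 174) (.leaf 719)) (.node (.leaf 1211) (.leaf 1716))) (.node (.node (.leaf 971) (.leaf 1491)) (.node (.leaf 463) (.leaf 0))))) (.node (.node (.node (.node (.leaf 51) (.leaf 575)) (.node (.leaf 1083)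 (.leaf 1580))) (.node (.node (.leaf 827) (.leaf 1323)) (.node (.leaf 319) (.leaf 0)))) (.node (.node (.node (.leaf 767) (.leaf 1304)) (.node (.leaf 255) (.leaf 0))) (.node (.node (.leaf 1020) (.leaf 1516)) (.node (.leaf 529) (.leaf 0))))))) (.node (.node (.node (.node (.node (.node (.leaf 22) (.leaf 521)) (.node (.leaf 1021) (.leaf 1529))) (.node (.node (.leaf 785) (.leaf 1306)) (.node (.leaf 279) (.leaf 0)))) (.node (.node (.node (.leaf 79) (.leaf 599)) (.node (.leaf 1086) (.leaf 1593))) (.node (.node (.leaf 845) (.leaf 1325)) (.node (.leaf 343) (.leaf 0))))) (.node (.node (.node (.node (.leaf 137) (.leaf 647)) (.node (.leaf 1165) (.leaf 1653))) (.node (.node (.leaf 910) (.leaf 1398)) (.node (.leaf 409) (.leaf 0)))) (.node (.node (.node (.leaf 204) (.leaf 713)) (.node (.leaf 1213) (.leaf 1713))) (.node (.node (.leaf 958) (.leaf 1493)) (.node (.leaf 455) (.leaf 0)))))) (.node (.node (.node (.node (.node (.leaf 105) (.leaf 641)) (.node (.leaf 1148) (.leaf 1690))) (.node (.node (.leaf 907) (.leaf 1426)) (.node (.leaf 399) (.leaf 0)))) (.node (.node (.node (.leaf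 161) (.leaf 703)) (.node (.leaf 1227) (.leaf 1741))) (.node (.node (.leaf 955) (.leaf 1458)) (.node (.leaf 449) (.leaf 0))))) (.node (.node (.node (.node (.leaf 55) (.leaf 591)) (.node (.leaf 1099) (.leaf 1621))) (.node (.node (.leaf 844) (.leaf 1370)) (.node (.leaf 337) (.leaf 0)))) (.node (.node (.node (.leaf 783) (.leaf 1262)) (.node (.leaf 271) (.leaf 0))) (.node (.node (.leaf 1036) (.leaf 1558)) (.node (.leaf 513) (.leaf 0)))))))) (.node (.node (.node (.node (.node (.node (.node (.leaf 5) (.leaf 515)) (.node (.leaf 989) (.leaf 1518))) (.node (.node (.leaf 753) (.leaf 1293)) (.node (.leaf 275) (.leaf 0)))) (.node (.node (.node (.leaf 71) (.leaf 597)) (.node (.leaf 1053) (.leaf 1581))) (.node (.node (.leaf 814) (.leaf 1337)) (.node (.leaf 339) (.leaf 0))))) (.node (.node (.node (.node (.leaf 129) (.leaf 645)) (.node (.leaf 1133) (.leaf 1650))) (.node (.node (.leaf 877) (.leaf 1393)) (.node (.leaf 405) (.leaf 0)))) (.node (.node (.node (.leaf 193) (.leaf 707)) (.node (.leaf 1182) (.leaf 1717))) (.node (.node (.leaf 925) (.leaf 1489)) (.node (.leaf 451) (.leaf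 0)))))) (.node (.node (.node (.node (.node (.leaf 97) (.leaf 635)) (.node (.leaf 1116) (.leaf 1677))) (.node (.node (.leaf 876) (.leaf 1429)) (.node (.leaf 395) (.leaf 0)))) (.node (.node (.node (.leaf 166) (.leaf 701)) (.node (.leaf 1196) (.leaf 1753))) (.node (.node (.leaf 924) (.leaf 1462)) (.node (.leaf 445) (.leaf 0))))) (.node (.node (.node (.node (.leaf 47) (.leaf 589)) (.node (.leaf 1068) (.leaf 1617))) (.node (.node (.leaf 811) (.leaf 1358)) (.node (.leaf 333) (.leaf 0)))) (.node (.node (.node (.leaf 751) (.leaf 1273)) (.node (.leaf 267) (.leaf 0))) (.node (.node (.leaf 1004) (.leaf 1553)) (.node (.leaf 507) (.leaf 0))))))) (.node (.node (.node (.node (.node (.node (.leaf 95) (.leaf 653)) (.node (.leaf 1132) (.leaf 1655))) (.node (.node (.leaf 860) (.leaf 1387)) (.node (.leaf 381) (.leaf 0)))) (.node (.node (.node (.leaf 183) (.leaf 715)) (.node (.leaf 1180) (.leaf 1707))) (.node (.node (.leaf 940) (.leaf 1484)) (.node (.leaf 461) (.leaf 0))))) (.node (.node (.node (.node (.leaf 43) (.leaf 571)) (.node (.leaf 1052) (.leaf 1587))) (.node (.node (.leaf 796)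 (.leaf 1332)) (.node (.leaf 317) (.leaf 0)))) (.node (.node (.node (.leaf 735) (.leaf 1295)) (.node (.leaf 251) (.leaf 0))) (.node (.node (.leaf 988) (.leaf 1523)) (.node (.leaf 525) (.leaf 0)))))) (.node (.node (.node (.node (.node (.leaf 127) (.leaf 659)) (.node (.leaf 1118) (.leaf 1683))) (.node (.node (.leaf 861) (.leaf 1432)) (.node (.leaf 387) (.leaf 0)))) (.node (.node (.node (.leaf 207) (.leaf 725)) (.node (.leaf 1197) (.leaf 1744))) (.node (.node (.leaf 941) (.leaf 1464)) (.node (.leaf 467) (.leaf 0))))) (.node (.node (.node (.node (.leaf 75) (.leaf 579)) (.node (.leaf 1070) (.leaf 1624))) (.node (.node (.leaf 797) (.leaf 1360)) (.node (.leaf 325) (.leaf 0)))) (.node (.node (.node (.leaf 737) (.leaf 1268)) (.node (.leaf 259) (.leaf 0))) (.node (.node (.leaf 1006) (.leaf 1559)) (.node (.leaf 533) (.leaf 0)))))))))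

def orbI2_6 : Janko.Tree ℕ :=
  (.node (.node (.node (.node (.node (.node (.node (.node (.leaf 14) (.leaf 535)) (.node (.leaf 1042) (.leaf 1548))) (.node (.node (.leaf 770) (.leaf 1263)) (.node (.leaf 264) (.leaf 0)))) (.node (.node (.node (.leaf 84) (.leaf 585)) (.node (.leaf 1106) (.leaf 1612))) (.node (.node (.leaf 833) (.leaf 1364)) (.node (.leaf 329) (.leaf 0))))) (.node (.node (.node (.node (.leaf 136) (.leaf 665)) (.node (.leaf 1154) (.leaf 1680))) (.node (.node (.leaf 897) (.leaf 1419)) (.node (.leaf 391) (.leaf 0)))) (.node (.node (.node (.leaf 217) (.leaf 727)) (.node (.leaf 1233) (.leaf 1748))) (.node (.node (.leaf 977) (.leaf 1452)) (.node (.leaf 471) (.leaf 0)))))) (.node (.node (.node (.node (.node (.leaf 104) (.leaf 655)) (.node (.leaf 1168) (.leaf 1644))) (.node (.node (.leaf 896) (.leaf 1400)) (.node (.leaf 385) (.leaf 0)))) (.node (.node (.node (.leaf 173) (.leaf 721)) (.node (.leaf 1216) (.leaf 1719))) (.node (.node (.leaf 976) (.leaf 1496)) (.node (.leaf 465) (.leaf 0))))) (.node (.node (.node (.node (.leaf 52) (.leaf 577)) (.node (.leaf 1088)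 (.leaf 1583))) (.node (.node (.leaf 832) (.leaf 1328)) (.node (.leaf 321) (.leaf 0)))) (.node (.node (.node (.leaf 768) (.leaf 1300)) (.node (.leaf 256) (.leaf 0))) (.node (.node (.leaf 1024) (.leaf 1520)) (.node (.leaf 527) (.leaf 0))))))) (.node (.node (.node (.node (.node (.node (.leaf 21) (.leaf 519)) (.node (.leaf 1025) (.leaf 1525))) (.node (.node (.leaf 786) (.leaf 1302)) (.node (.leaf 280) (.leaf 0)))) (.node (.node (.node (.leaf 80) (.leaf 601)) (.node (.leaf 1089) (.leaf 1590))) (.node (.node (.leaf 850) (.leaf 1330)) (.node (.leaf 345) (.leaf 0))))) (.node (.node (.node (.node (.leaf 138) (.leaf 649)) (.node (.leaf 1169) (.leaf 1657))) (.node (.node (.leaf 914) (.leaf 1402)) (.node (.leaf 407) (.leaf 0)))) (.node (.node (.node (.leaf 203) (.leaf 711)) (.node (.leaf 1218) (.leaf 1710))) (.node (.node (.leaf 961) (.leaf 1498)) (.node (.leaf 457) (.leaf 0)))))) (.node (.node (.node (.node (.node (.leaf 106) (.leaf 639)) (.node (.leaf 1152) (.leaf 1686))) (.node (.node (.leaf 911) (.leaf 1422)) (.node (.leaf 401) (.leaf 0)))) (.node (.node (.node (.leaf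 162) (.leaf 705)) (.node (.leaf 1232) (.leaf 1746))) (.node (.node (.leaf 960) (.leaf 1453)) (.node (.leaf 447) (.leaf 0))))) (.node (.node (.node (.node (.leaf 56) (.leaf 593)) (.node (.leaf 1104) (.leaf 1626))) (.node (.node (.leaf 847) (.leaf 1365)) (.node (.leaf 335) (.leaf 0)))) (.node (.node (.node (.leaf 784) (.leaf 1266)) (.node (.leaf 272) (.leaf 0))) (.node (.node (.leaf 1040) (.leaf 1562)) (.node (.leaf 511) (.leaf 0)))))))) (.node (.node (.node (.node (.node (.node (.node (.leaf 6) (.leaf 517)) (.node (.leaf 993) (.leaf 1522))) (.node (.node (.leaf 754) (.leaf 1297)) (.node (.leaf 276) (.leaf 0)))) (.node (.node (.node (.leaf 72) (.leaf 595)) (.node (.leaf 1058) (.leaf 1586))) (.node (.node (.leaf 817) (.leaf 1334)) (.node (.leaf 341) (.leaf 0))))) (.node (.node (.node (.node (.leaf 130) (.leaf 643)) (.node (.leaf 1137) (.leaf 1646))) (.node (.node (.leaf 881) (.leaf 1389)) (.node (.leaf 403) (.leaf 0)))) (.node (.node (.node (.leaf 194) (.leaf 709)) (.node (.leaf 1185) (.leaf 1722))) (.node (.node (.leaf 930) (.leaf 1486)) (.node (.leaf 453) (.leaf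 0)))))) (.node (.node (.node (.node (.node (.leaf 98) (.leaf 637)) (.node (.leaf 1120) (.leaf 1681))) (.node (.node (.leaf 880) (.leaf 1433)) (.node (.leaf 397) (.leaf 0)))) (.node (.node (.node (.leaf 165) (.leaf 699)) (.node (.leaf 1199) (.leaf 1750))) (.node (.node (.leaf 927) (.leaf 1465)) (.node (.leaf 443) (.leaf 0))))) (.node (.node (.node (.node (.leaf 48) (.leaf 587)) (.node (.leaf 1071) (.leaf 1614))) (.node (.node (.leaf 816) (.leaf 1361)) (.node (.leaf 331) (.leaf 0)))) (.node (.node (.node (.leaf 752) (.leaf 1269)) (.node (.leaf 268) (.leaf 0))) (.node (.node (.leaf 1008) (.leaf 1549)) (.node (.leaf 509) (.leaf 0))))))) (.node (.node (.node (.node (.node (.node (.leaf 96) (.leaf 651)) (.node (.leaf 1136) (.leaf 1651))) (.node (.node (.leaf 864) (.leaf 1391)) (.node (.leaf 379) (.leaf 0)))) (.node (.node (.node (.leaf 184) (.leaf 717)) (.node (.leaf 1183) (.leaf 1712))) (.node (.node (.leaf 943) (.leaf 1487)) (.node (.leaf 459) (.leaf 0))))) (.node (.node (.node (.node (.leaf 44) (.leaf 573)) (.node (.leaf 1055) (.leaf 1592))) (.node (.node (.leaf 799)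 (.leaf 1335)) (.node (.leaf 315) (.leaf 0)))) (.node (.node (.node (.leaf 736) (.leaf 1291)) (.node (.leaf 252) (.leaf 0))) (.node (.node (.leaf 992) (.leaf 1527)) (.node (.leaf 523) (.leaf 0)))))) (.node (.node (.node (.node (.node (.leaf 128) (.leaf 661)) (.node (.leaf 1122) (.leaf 1687))) (.node (.node (.leaf 865) (.leaf 1428)) (.node (.leaf 389) (.leaf 0)))) (.node (.node (.node (.leaf 208) (.leaf 723)) (.node (.leaf 1202) (.leaf 1739))) (.node (.node (.leaf 946) (.leaf 1459)) (.node (.leaf 469) (.leaf 0))))) (.node (.node (.node (.node (.leaf 76) (.leaf 581)) (.node (.leaf 1073) (.leaf 1619))) (.node (.node (.leaf 802) (.leaf 1355)) (.node (.leaf 323) (.leaf 0)))) (.node (.node (.node (.leaf 738) (.leaf 1272)) (.node (.leaf 260) (.leaf 0))) (.node (.node (.leaf 1010) (.leaf 1555)) (.node (.leaf 531) (.leaf 0)))))))))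

def orbI2_7 : Janko.Tree ℕ :=
  (.node (.node (.node (.node (.node (.node (.node (.node (.leaf 15) (.leaf 488)) (.node (.leaf 1046) (.leaf 1508))) (.node (.node (.leaf 773) (.leaf 1276)) (.node (.leaf 233) (.leaf 0)))) (.node (.node (.node (.leaf 69) (.leaf 568)) (.node (.leaf 1109) (.leaf 1572))) (.node (.node (.leaf 838) (.leaf 1316)) (.node (.leaf 296) (.leaf 0))))) (.node (.node (.node (.node (.leaf 141) (.leaf 616)) (.node (.leaf 1157) (.leaf 1640))) (.node (.node (.leaf 901) (.leaf 1376)) (.node (.leaf 362) (.leaf 0)))) (.node (.node (.node (.leaf 187) (.leaf 680)) (.node (.leaf 1238) (.leaf 1691))) (.node (.node (.leaf 981) (.leaf 1467)) (.node (.leaf 442) (.leaf 0)))))) (.node (.node (.node (.node (.node (.leaf 115) (.leaf 610)) (.node (.leaf 1172) (.leaf 1672))) (.node (.node (.leaf 899) (.leaf 1416)) (.node (.leaf 352) (.leaf 0)))) (.node (.node (.node (.leaf 163) (.leaf 674)) (.node (.leaf 1220) (.leaf 1723))) (.node (.node (.leaf 980) (.leaf 1443)) (.node (.leaf 432) (.leaf 0))))) (.node (.node (.node (.node (.leaf 37) (.leaf 560)) (.node (.leaf 1092)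 (.leaf 1604))) (.node (.node (.leaf 835) (.leaf 1340)) (.node (.leaf 288) (.leaf 0)))) (.node (.node (.node (.leaf 771) (.leaf 1252)) (.node (.leaf 225) (.leaf 0))) (.node (.node (.leaf 1027) (.leaf 1540)) (.node (.leaf 480) (.leaf 0))))))) (.node (.node (.node (.node (.node (.node (.leaf 24) (.leaf 506)) (.node (.leaf 1030) (.leaf 1533))) (.node (.node (.leaf 789) (.leaf 1257)) (.node (.leaf 249) (.leaf 0)))) (.node (.node (.node (.leaf 65) (.leaf 554)) (.node (.leaf 1093) (.leaf 1598))) (.node (.node (.leaf 854) (.leaf 1346)) (.node (.leaf 312) (.leaf 0))))) (.node (.node (.node (.node (.leaf 139) (.leaf 634)) (.node (.leaf 1173) (.leaf 1665))) (.node (.node (.leaf 917) (.leaf 1413)) (.node (.leaf 378) (.leaf 0)))) (.node (.node (.node (.leaf 210) (.leaf 698)) (.node (.leaf 1222) (.leaf 1733))) (.node (.node (.leaf 966) (.leaf 1449)) (.node (.leaf 424) (.leaf 0)))))) (.node (.node (.node (.node (.node (.leaf 117) (.leaf 624)) (.node (.leaf 1155) (.leaf 1634))) (.node (.node (.leaf 915) (.leaf 1374)) (.node (.leaf 368) (.leaf 0)))) (.node (.node (.node (.leaf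 157) (.leaf 688)) (.node (.leaf 1235) (.leaf 1702))) (.node (.node (.leaf 963) (.leaf 1474)) (.node (.leaf 418) (.leaf 0))))) (.node (.node (.node (.node (.leaf 41) (.leaf 546)) (.node (.leaf 1107) (.leaf 1565))) (.node (.node (.leaf 851) (.leaf 1321)) (.node (.leaf 306) (.leaf 0)))) (.node (.node (.node (.leaf 787) (.leaf 1282)) (.node (.leaf 241) (.leaf 0))) (.node (.node (.leaf 1044) (.leaf 1502)) (.node (.leaf 498) (.leaf 0)))))))) (.node (.node (.node (.node (.node (.node (.node (.leaf 7) (.leaf 500)) (.node (.leaf 998) (.leaf 1545))) (.node (.node (.leaf 757) (.leaf 1245)) (.node (.leaf 245) (.leaf 0)))) (.node (.node (.node (.leaf 89) (.leaf 548)) (.node (.leaf 1062) (.leaf 1609))) (.node (.node (.leaf 821) (.leaf 1349)) (.node (.leaf 310) (.leaf 0))))) (.node (.node (.node (.node (.leaf 149) (.leaf 628)) (.node (.leaf 1141) (.leaf 1669))) (.node (.node (.leaf 886) (.leaf 1409)) (.node (.leaf 374) (.leaf 0)))) (.node (.node (.node (.leaf 189) (.leaf 692)) (.node (.leaf 1189) (.leaf 1730))) (.node (.node (.leaf 933) (.leaf 1438)) (.node (.leaf 420) (.leaf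 0)))))) (.node (.node (.node (.node (.node (.leaf 109) (.leaf 622)) (.node (.leaf 1123) (.leaf 1638))) (.node (.node (.leaf 884) (.leaf 1386)) (.node (.leaf 364) (.leaf 0)))) (.node (.node (.node (.leaf 170) (.leaf 686)) (.node (.leaf 1204) (.leaf 1697))) (.node (.node (.leaf 932) (.leaf 1477)) (.node (.leaf 414) (.leaf 0))))) (.node (.node (.node (.node (.leaf 33) (.leaf 540)) (.node (.leaf 1076) (.leaf 1578))) (.node (.node (.leaf 820) (.leaf 1310)) (.node (.leaf 300) (.leaf 0)))) (.node (.node (.node (.leaf 755) (.leaf 1286)) (.node (.leaf 237) (.leaf 0))) (.node (.node (.leaf 1012) (.leaf 1514)) (.node (.leaf 492) (.leaf 0))))))) (.node (.node (.node (.node (.node (.node (.leaf 107) (.leaf 606)) (.node (.leaf 1140) (.leaf 1664))) (.node (.node (.leaf 867) (.leaf 1408)) (.node (.leaf 350) (.leaf 0)))) (.node (.node (.node (.leaf 159) (.leaf 670)) (.node (.leaf 1187) (.leaf 1731))) (.node (.node (.leaf 947) (.leaf 1435)) (.node (.leaf 430) (.leaf 0))))) (.node (.node (.node (.node (.leaf 29) (.leaf 556)) (.node (.leaf 1059) (.leaf 1596))) (.node (.node (.leaf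 804) (.leaf 1348)) (.node (.leaf 284) (.leaf 0)))) (.node (.node (.node (.leaf 739) (.leaf 1244)) (.node (.leaf 221) (.leaf 0))) (.node (.node (.leaf 995) (.leaf 1532)) (.node (.leaf 476) (.leaf 0)))))) (.node (.node (.node (.node (.node (.leaf 147) (.leaf 612)) (.node (.leaf 1125) (.leaf 1632))) (.node (.node (.leaf 869) (.leaf 1384)) (.node (.leaf 356) (.leaf 0)))) (.node (.node (.node (.leaf 195) (.leaf 676)) (.node (.leaf 1205) (.leaf 1699))) (.node (.node (.leaf 950) (.leaf 1475)) (.node (.leaf 436) (.leaf 0))))) (.node (.node (.node (.node (.leaf 61) (.leaf 564)) (.node (.leaf 1078) (.leaf 1564))) (.node (.node (.leaf 805) (.leaf 1308)) (.node (.leaf 292) (.leaf 0)))) (.node (.node (.node (.leaf 741) (.leaf 1284)) (.node (.leaf 229) (.leaf 0))) (.node (.node (.leaf 1014) (.leaf 1500)) (.node (.leaf 484) (.leaf 0)))))))))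

/-- The images of the vectors under a generator. -/
def orbI2_ : Janko.Tree ℕ :=
  .node (.node (.node orbI2_0 orbI2_4) (.node orbI2_2 orbI2_6)) (.node (.node orbI2_1 orbI2_5) (.node orbI2_3 orbI2_7))

def orbI3_0 : Janko.Tree ℕ :=
  (.node (.node (.node (.node (.node (.node (.node (.node (.leaf 0) (.leaf 1436)) (.node (.leaf 371) (.leaf 1468))) (.node (.node (.leaf 133) (.leaf 1340)) (.node (.leaf 1308) (.leaf 0)))) (.node (.node (.node (.leaf 261) (.leaf 1692)) (.node (.leaf 686) (.leaf 1724))) (.node (.node (.leaf 557) (.leaf 1596)) (.node (.leaf 1564) (.leaf 0))))) (.node (.node (.node (.node (.leaf 50) (.leaf 1440)) (.node (.leaf 436) (.leaf 1472))) (.node (.node (.leaf 148) (.leaf 1344)) (.node (.leaf 1312) (.leaf 0)))) (.node (.node (.node (.leaf 278) (.leaf 1696)) (.node (.leaf 622) (.leaf 1728))) (.node (.node (.leaf 498) (.leaf 1600)) (.node (.leaf 1568) (.leaf 0)))))) (.node (.node (.node (.node (.node (.leaf 17) (.leaf 928)) (.node (.leaf 419) (.leaf 960))) (.node (.node (.leaf 116) (.leaf 832)) (.node (.leaf 800) (.leaf 0)))) (.node (.node (.node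 (.leaf 245) (.leaf 1184)) (.node (.leaf 678) (.leaf 1216))) (.node (.node (.leaf 541) (.leaf 1088)) (.node (.leaf 1056) (.leaf 0))))) (.node (.node (.node (.node (.leaf 229) (.leaf 1180)) (.node (.leaf 613) (.leaf 1212))) (.node (.node (.leaf 477) (.leaf 1084)) (.node (.leaf 1052) (.leaf 0)))) (.node (.node (.node (.leaf 101) (.leaf 828)) (.node (.leaf 796) (.leaf 0))) (.node (.node (.leaf 356) (.leaf 956)) (.node (.leaf 924) (.leaf 0))))))) (.node (.node (.node (.node (.node (.node (.leaf 33) (.leaf 1444)) (.node (.leaf 467) (.leaf 1476))) (.node (.node (.leaf 197) (.leaf 1348)) (.node (.leaf 1316) (.leaf 0)))) (.node (.node (.node (.leaf 324) (.leaf 1700)) (.node (.leaf 662) (.leaf 1732))) (.node (.node (.leaf 593) (.leaf 1604)) (.node (.leaf 1572) (.leaf 0))))) (.node (.node (.node (.node (.leaf 80) (.leaf 1448)) (.node (.leaf 395) (.leaf 1480))) (.node (.node (.leaf 212) (.leaf 1352)) (.node (.leaf 1320) (.leaf 0)))) (.node (.node (.node (.leaf 340) (.leaf 1704)) (.node (.leaf 725) (.leaf 1736))) (.node (.node (.leaf 526) (.leaf 1608)) (.node (.leaf 1576) (.leaf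 0)))))) (.node (.node (.node (.node (.node (.leaf 65) (.leaf 936)) (.node (.leaf 388) (.leaf 968))) (.node (.node (.leaf 180) (.leaf 840)) (.node (.leaf 808) (.leaf 0)))) (.node (.node (.node (.leaf 308) (.leaf 1192)) (.node (.leaf 637) (.leaf 1224))) (.node (.node (.leaf 573) (.leaf 1096)) (.node (.leaf 1064) (.leaf 0))))) (.node (.node (.node (.node (.leaf 292) (.leaf 1188)) (.node (.leaf 701) (.leaf 1220))) (.node (.node (.leaf 509) (.leaf 1092)) (.node (.leaf 1060) (.leaf 0)))) (.node (.node (.node (.leaf 163) (.leaf 836)) (.node (.leaf 804) (.leaf 0))) (.node (.node (.leaf 444) (.leaf 964)) (.node (.leaf 932) (.leaf 0)))))))) (.node (.node (.node (.node (.node (.node (.node (.leaf 6) (.leaf 1452)) (.node (.leaf 374) (.leaf 1484))) (.node (.node (.leaf 137) (.leaf 1356)) (.node (.leaf 1324) (.leaf 0)))) (.node (.node (.node (.leaf 265) (.leaf 1708)) (.node (.leaf 693) (.leaf 1740))) (.node (.node (.leaf 561) (.leaf 1612)) (.node (.leaf 1580) (.leaf 0))))) (.node (.node (.node (.node (.leaf 53) (.leaf 1456)) (.node (.leaf 438) (.leaf 1488))) (.node (.node (.leaf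 152) (.leaf 1360)) (.node (.leaf 1328) (.leaf 0)))) (.node (.node (.node (.leaf 281) (.leaf 1712)) (.node (.leaf 629) (.leaf 1744))) (.node (.node (.leaf 494) (.leaf 1616)) (.node (.leaf 1584) (.leaf 0)))))) (.node (.node (.node (.node (.node (.leaf 25) (.leaf 944)) (.node (.leaf 422) (.leaf 976))) (.node (.node (.leaf 120) (.leaf 848)) (.node (.leaf 816) (.leaf 0)))) (.node (.node (.node (.leaf 250) (.leaf 1200)) (.node (.leaf 670) (.leaf 1232))) (.node (.node (.leaf 545) (.leaf 1104)) (.node (.leaf 1072) (.leaf 0))))) (.node (.node (.node (.node (.leaf 233) (.leaf 1196)) (.node (.leaf 605) (.leaf 1228))) (.node (.node (.leaf 481) (.leaf 1100)) (.node (.leaf 1068) (.leaf 0)))) (.node (.node (.node (.leaf 105) (.leaf 844)) (.node (.leaf 812) (.leaf 0))) (.node (.node (.leaf 358) (.leaf 972)) (.node (.leaf 940) (.leaf 0))))))) (.node (.node (.node (.node (.node (.node (.leaf 41) (.leaf 1460)) (.node (.leaf 469) (.leaf 1492))) (.node (.node (.leaf 201) (.leaf 1364)) (.node (.leaf 1332) (.leaf 0)))) (.node (.node (.node (.leaf 328) (.leaf 1716)) (.node (.leaf 654)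 (.leaf 1748))) (.node (.node (.leaf 589) (.leaf 1620)) (.node (.leaf 1588) (.leaf 0))))) (.node (.node (.node (.node (.leaf 87) (.leaf 1464)) (.node (.leaf 398) (.leaf 1496))) (.node (.node (.leaf 216) (.leaf 1368)) (.node (.leaf 1336) (.leaf 0)))) (.node (.node (.node (.leaf 344) (.leaf 1720)) (.node (.leaf 717) (.leaf 1752))) (.node (.node (.leaf 530) (.leaf 1624)) (.node (.leaf 1592) (.leaf 0)))))) (.node (.node (.node (.node (.node (.leaf 68) (.leaf 952)) (.node (.leaf 390) (.leaf 984))) (.node (.node (.leaf 184) (.leaf 856)) (.node (.leaf 824) (.leaf 0)))) (.node (.node (.node (.leaf 312) (.leaf 1208)) (.node (.leaf 646) (.leaf 1240))) (.node (.node (.leaf 577) (.leaf 1112)) (.node (.leaf 1080) (.leaf 0))))) (.node (.node (.node (.node (.leaf 296) (.leaf 1204)) (.node (.leaf 710) (.leaf 1236))) (.node (.node (.leaf 513) (.leaf 1108)) (.node (.leaf 1076) (.leaf 0)))) (.node (.node (.node (.leaf 167) (.leaf 852)) (.node (.leaf 820) (.leaf 0))) (.node (.node (.leaf 445) (.leaf 980)) (.node (.leaf 948) (.leaf 0)))))))))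

def orbI3_1 : Janko.Tree ℕ :=
  (.node (.node (.node (.node (.node (.node (.node (.node (.leaf 3) (.leaf 1437)) (.node (.leaf 376) (.leaf 1469))) (.node (.node (.leaf 132) (.leaf 1341)) (.node (.leaf 1309) (.leaf 0)))) (.node (.node (.node (.leaf 260) (.leaf 1693)) (.node (.leaf 697) (.leaf 1725))) (.node (.node (.leaf 566) (.leaf 1597)) (.node (.leaf 1565) (.leaf 0))))) (.node (.node (.node (.node (.leaf 48) (.leaf 1441)) (.node (.leaf 440) (.leaf 1473))) (.node (.node (.leaf 149) (.leaf 1345)) (.node (.leaf 1313) (.leaf 0)))) (.node (.node (.node (.leaf 275) (.leaf 1697)) (.node (.leaf 633) (.leaf 1729))) (.node (.node (.leaf 506) (.leaf 1601)) (.node (.leaf 1569) (.leaf 0)))))) (.node (.node (.node (.node (.node (.leaf 16) (.leaf 929)) (.node (.leaf 424) (.leaf 961))) (.node (.node (.leaf 117) (.leaf 833)) (.node (.leaf 801) (.leaf 0)))) (.node (.node (.node (.leaf 244) (.leaf 1185)) (.node (.leaf 674) (.leaf 1217))) (.node (.node (.leaf 549) (.leaf 1089)) (.node (.leaf 1057) (.leaf 0))))) (.node (.node (.node (.node (.leaf 228) (.leaf 1181)) (.node (.leaf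 609) (.leaf 1213))) (.node (.node (.leaf 486) (.leaf 1085)) (.node (.leaf 1053) (.leaf 0)))) (.node (.node (.node (.leaf 100) (.leaf 829)) (.node (.leaf 797) (.leaf 0))) (.node (.node (.leaf 360) (.leaf 957)) (.node (.leaf 925) (.leaf 0))))))) (.node (.node (.node (.node (.node (.node (.leaf 32) (.leaf 1445)) (.node (.leaf 471) (.leaf 1477))) (.node (.node (.leaf 196) (.leaf 1349)) (.node (.leaf 1317) (.leaf 0)))) (.node (.node (.node (.leaf 325) (.leaf 1701)) (.node (.leaf 658) (.leaf 1733))) (.node (.node (.leaf 601) (.leaf 1605)) (.node (.leaf 1573) (.leaf 0))))) (.node (.node (.node (.node (.leaf 81) (.leaf 1449)) (.node (.leaf 400) (.leaf 1481))) (.node (.node (.leaf 213) (.leaf 1353)) (.node (.leaf 1321) (.leaf 0)))) (.node (.node (.node (.leaf 341) (.leaf 1705)) (.node (.leaf 721) (.leaf 1737))) (.node (.node (.leaf 533) (.leaf 1609)) (.node (.leaf 1577) (.leaf 0)))))) (.node (.node (.node (.node (.node (.leaf 66) (.leaf 937)) (.node (.leaf 392) (.leaf 969))) (.node (.node (.leaf 181) (.leaf 841)) (.node (.leaf 809) (.leaf 0)))) (.node (.node (.node (.leaf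 309) (.leaf 1193)) (.node (.leaf 650) (.leaf 1225))) (.node (.node (.leaf 582) (.leaf 1097)) (.node (.leaf 1065) (.leaf 0))))) (.node (.node (.node (.node (.leaf 293) (.leaf 1189)) (.node (.leaf 714) (.leaf 1221))) (.node (.node (.leaf 517) (.leaf 1093)) (.node (.leaf 1061) (.leaf 0)))) (.node (.node (.node (.leaf 166) (.leaf 837)) (.node (.leaf 805) (.leaf 0))) (.node (.node (.leaf 447) (.leaf 965)) (.node (.leaf 933) (.leaf 0)))))))) (.node (.node (.node (.node (.node (.node (.node (.leaf 9) (.leaf 1453)) (.node (.leaf 377) (.leaf 1485))) (.node (.node (.leaf 136) (.leaf 1357)) (.node (.leaf 1325) (.leaf 0)))) (.node (.node (.node (.leaf 264) (.leaf 1709)) (.node (.leaf 690) (.leaf 1741))) (.node (.node (.leaf 570) (.leaf 1613)) (.node (.leaf 1581) (.leaf 0))))) (.node (.node (.node (.node (.leaf 51) (.leaf 1457)) (.node (.leaf 442) (.leaf 1489))) (.node (.node (.leaf 153) (.leaf 1361)) (.node (.leaf 1329) (.leaf 0)))) (.node (.node (.node (.leaf 280) (.leaf 1713)) (.node (.leaf 626) (.leaf 1745))) (.node (.node (.leaf 502) (.leaf 1617)) (.node (.leaf 1585) (.leaf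 0)))))) (.node (.node (.node (.node (.node (.leaf 24) (.leaf 945)) (.node (.leaf 425) (.leaf 977))) (.node (.node (.leaf 121) (.leaf 849)) (.node (.leaf 817) (.leaf 0)))) (.node (.node (.node (.leaf 247) (.leaf 1201)) (.node (.leaf 682) (.leaf 1233))) (.node (.node (.leaf 553) (.leaf 1105)) (.node (.leaf 1073) (.leaf 0))))) (.node (.node (.node (.node (.leaf 232) (.leaf 1197)) (.node (.leaf 617) (.leaf 1229))) (.node (.node (.leaf 490) (.leaf 1101)) (.node (.leaf 1069) (.leaf 0)))) (.node (.node (.node (.leaf 104) (.leaf 845)) (.node (.leaf 813) (.leaf 0))) (.node (.node (.leaf 362) (.leaf 973)) (.node (.leaf 941) (.leaf 0))))))) (.node (.node (.node (.node (.node (.node (.leaf 40) (.leaf 1461)) (.node (.leaf 473) (.leaf 1493))) (.node (.node (.leaf 200) (.leaf 1365)) (.node (.leaf 1333) (.leaf 0)))) (.node (.node (.node (.leaf 329) (.leaf 1717)) (.node (.leaf 666) (.leaf 1749))) (.node (.node (.leaf 597) (.leaf 1621)) (.node (.leaf 1589) (.leaf 0))))) (.node (.node (.node (.node (.leaf 90) (.leaf 1465)) (.node (.leaf 401) (.leaf 1497))) (.node (.node (.leaf 217)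 (.leaf 1369)) (.node (.leaf 1337) (.leaf 0)))) (.node (.node (.node (.leaf 345) (.leaf 1721)) (.node (.leaf 729) (.leaf 1753))) (.node (.node (.leaf 537) (.leaf 1625)) (.node (.leaf 1593) (.leaf 0)))))) (.node (.node (.node (.node (.node (.leaf 67) (.leaf 953)) (.node (.leaf 394) (.leaf 985))) (.node (.node (.leaf 185) (.leaf 857)) (.node (.leaf 825) (.leaf 0)))) (.node (.node (.node (.leaf 313) (.leaf 1209)) (.node (.leaf 641) (.leaf 1241))) (.node (.node (.leaf 586) (.leaf 1113)) (.node (.leaf 1081) (.leaf 0))))) (.node (.node (.node (.node (.leaf 297) (.leaf 1205)) (.node (.leaf 705) (.leaf 1237))) (.node (.node (.leaf 521) (.leaf 1109)) (.node (.leaf 1077) (.leaf 0)))) (.node (.node (.node (.leaf 170) (.leaf 853)) (.node (.leaf 821) (.leaf 0))) (.node (.node (.leaf 450) (.leaf 981)) (.node (.leaf 949) (.leaf 0)))))))))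

def orbI3_2 : Janko.Tree ℕ :=
  (.node (.node (.node (.node (.node (.node (.node (.node (.leaf 4) (.leaf 1438)) (.node (.leaf 375) (.leaf 1470))) (.node (.node (.leaf 134) (.leaf 1342)) (.node (.leaf 1310) (.leaf 0)))) (.node (.node (.node (.leaf 262) (.leaf 1694)) (.node (.leaf 698) (.leaf 1726))) (.node (.node (.leaf 565) (.leaf 1598)) (.node (.leaf 1566) (.leaf 0))))) (.node (.node (.node (.node (.leaf 49) (.leaf 1442)) (.node (.leaf 439) (.leaf 1474))) (.node (.node (.leaf 150) (.leaf 1346)) (.node (.leaf 1314) (.leaf 0)))) (.node (.node (.node (.leaf 277) (.leaf 1698)) (.node (.leaf 634) (.leaf 1730))) (.node (.node (.leaf 505) (.leaf 1602)) (.node (.leaf 1570) (.leaf 0)))))) (.node (.node (.node (.node (.node (.leaf 18) (.leaf 930)) (.node (.leaf 423) (.leaf 962))) (.node (.node (.leaf 118) (.leaf 834)) (.node (.leaf 802) (.leaf 0)))) (.node (.node (.node (.leaf 246) (.leaf 1186)) (.node (.leaf 673) (.leaf 1218))) (.node (.node (.leaf 550) (.leaf 1090)) (.node (.leaf 1058) (.leaf 0))))) (.node (.node (.node (.node (.leaf 230) (.leaf 1182)) (.node (.leaf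 610) (.leaf 1214))) (.node (.node (.leaf 485) (.leaf 1086)) (.node (.leaf 1054) (.leaf 0)))) (.node (.node (.node (.leaf 102) (.leaf 830)) (.node (.leaf 798) (.leaf 0))) (.node (.node (.leaf 359) (.leaf 958)) (.node (.leaf 926) (.leaf 0))))))) (.node (.node (.node (.node (.node (.node (.leaf 34) (.leaf 1446)) (.node (.leaf 472) (.leaf 1478))) (.node (.node (.leaf 198) (.leaf 1350)) (.node (.leaf 1318) (.leaf 0)))) (.node (.node (.node (.leaf 326) (.leaf 1702)) (.node (.leaf 657) (.leaf 1734))) (.node (.node (.leaf 602) (.leaf 1606)) (.node (.leaf 1574) (.leaf 0))))) (.node (.node (.node (.node (.leaf 82) (.leaf 1450)) (.node (.leaf 399) (.leaf 1482))) (.node (.node (.leaf 214) (.leaf 1354)) (.node (.leaf 1322) (.leaf 0)))) (.node (.node (.node (.leaf 342) (.leaf 1706)) (.node (.leaf 722) (.leaf 1738))) (.node (.node (.leaf 534) (.leaf 1610)) (.node (.leaf 1578) (.leaf 0)))))) (.node (.node (.node (.node (.node (.leaf 64) (.leaf 938)) (.node (.leaf 391) (.leaf 970))) (.node (.node (.leaf 182) (.leaf 842)) (.node (.leaf 810) (.leaf 0)))) (.node (.node (.node (.leaf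 310) (.leaf 1194)) (.node (.leaf 649) (.leaf 1226))) (.node (.node (.leaf 581) (.leaf 1098)) (.node (.leaf 1066) (.leaf 0))))) (.node (.node (.node (.node (.leaf 294) (.leaf 1190)) (.node (.leaf 713) (.leaf 1222))) (.node (.node (.leaf 518) (.leaf 1094)) (.node (.leaf 1062) (.leaf 0)))) (.node (.node (.node (.leaf 164) (.leaf 838)) (.node (.leaf 806) (.leaf 0))) (.node (.node (.leaf 448) (.leaf 966)) (.node (.leaf 934) (.leaf 0)))))))) (.node (.node (.node (.node (.node (.node (.node (.leaf 10) (.leaf 1454)) (.node (.leaf 378) (.leaf 1486))) (.node (.node (.leaf 138) (.leaf 1358)) (.node (.leaf 1326) (.leaf 0)))) (.node (.node (.node (.leaf 266) (.leaf 1710)) (.node (.leaf 689) (.leaf 1742))) (.node (.node (.leaf 569) (.leaf 1614)) (.node (.leaf 1582) (.leaf 0))))) (.node (.node (.node (.node (.leaf 54) (.leaf 1458)) (.node (.leaf 441) (.leaf 1490))) (.node (.node (.leaf 154) (.leaf 1362)) (.node (.leaf 1330) (.leaf 0)))) (.node (.node (.node (.leaf 282) (.leaf 1714)) (.node (.leaf 625) (.leaf 1746))) (.node (.node (.leaf 501) (.leaf 1618)) (.node (.leaf 1586)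 (.leaf 0)))))) (.node (.node (.node (.node (.node (.leaf 26) (.leaf 946)) (.node (.leaf 426) (.leaf 978))) (.node (.node (.leaf 122) (.leaf 850)) (.node (.leaf 818) (.leaf 0)))) (.node (.node (.node (.leaf 249) (.leaf 1202)) (.node (.leaf 681) (.leaf 1234))) (.node (.node (.leaf 554) (.leaf 1106)) (.node (.leaf 1074) (.leaf 0))))) (.node (.node (.node (.node (.leaf 234) (.leaf 1198)) (.node (.leaf 618) (.leaf 1230))) (.node (.node (.leaf 489) (.leaf 1102)) (.node (.leaf 1070) (.leaf 0)))) (.node (.node (.node (.leaf 106) (.leaf 846)) (.node (.leaf 814) (.leaf 0))) (.node (.node (.leaf 361) (.leaf 974)) (.node (.leaf 942) (.leaf 0))))))) (.node (.node (.node (.node (.node (.node (.leaf 42) (.leaf 1462)) (.node (.leaf 474) (.leaf 1494))) (.node (.node (.leaf 202) (.leaf 1366)) (.node (.leaf 1334) (.leaf 0)))) (.node (.node (.node (.leaf 330) (.leaf 1718)) (.node (.leaf 665) (.leaf 1750))) (.node (.node (.leaf 598) (.leaf 1622)) (.node (.leaf 1590) (.leaf 0))))) (.node (.node (.node (.node (.leaf 89) (.leaf 1466)) (.node (.leaf 402) (.leaf 1498))) (.node (.node (.leaf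 218) (.leaf 1370)) (.node (.leaf 1338) (.leaf 0)))) (.node (.node (.node (.leaf 346) (.leaf 1722)) (.node (.leaf 730) (.leaf 1754))) (.node (.node (.leaf 538) (.leaf 1626)) (.node (.leaf 1594) (.leaf 0)))))) (.node (.node (.node (.node (.node (.leaf 69) (.leaf 954)) (.node (.leaf 393) (.leaf 986))) (.node (.node (.leaf 186) (.leaf 858)) (.node (.leaf 826) (.leaf 0)))) (.node (.node (.node (.leaf 314) (.leaf 1210)) (.node (.leaf 642) (.leaf 1242))) (.node (.node (.leaf 585) (.leaf 1114)) (.node (.leaf 1082) (.leaf 0))))) (.node (.node (.node (.node (.leaf 298) (.leaf 1206)) (.node (.leaf 706) (.leaf 1238))) (.node (.node (.leaf 522) (.leaf 1110)) (.node (.leaf 1078) (.leaf 0)))) (.node (.node (.node (.leaf 168) (.leaf 854)) (.node (.leaf 822) (.leaf 0))) (.node (.node (.leaf 449) (.leaf 982)) (.node (.leaf 950) (.leaf 0)))))))))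

def orbI3_3 : Janko.Tree ℕ :=
  (.node (.node (.node (.node (.node (.node (.node (.node (.leaf 1) (.leaf 1387)) (.node (.leaf 365) (.leaf 1419))) (.node (.node (.leaf 127) (.leaf 1291)) (.node (.leaf 1259) (.leaf 0)))) (.node (.node (.node (.leaf 255) (.leaf 1643)) (.node (.leaf 683) (.leaf 1675))) (.node (.node (.leaf 559) (.leaf 1547)) (.node (.leaf 1515) (.leaf 0))))) (.node (.node (.node (.node (.leaf 57) (.leaf 1391)) (.node (.leaf 429) (.leaf 1423))) (.node (.node (.leaf 143) (.leaf 1295)) (.node (.leaf 1263) (.leaf 0)))) (.node (.node (.node (.leaf 271) (.leaf 1647)) (.node (.leaf 619) (.leaf 1679))) (.node (.node (.leaf 491) (.leaf 1551)) (.node (.leaf 1519) (.leaf 0)))))) (.node (.node (.node (.node (.node (.leaf 19) (.leaf 879)) (.node (.leaf 413) (.leaf 911))) (.node (.node (.leaf 111) (.leaf 783)) (.node (.leaf 751) (.leaf 0)))) (.node (.node (.node (.leaf 240) (.leaf 1135)) (.node (.leaf 676) (.leaf 1167))) (.node (.node (.leaf 544) (.leaf 1039)) (.node (.leaf 1007) (.leaf 0))))) (.node (.node (.node (.node (.leaf 223) (.leaf 1131)) (.node (.leaf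 611) (.leaf 1163))) (.node (.node (.leaf 479) (.leaf 1035)) (.node (.leaf 1003) (.leaf 0)))) (.node (.node (.node (.leaf 95) (.leaf 779)) (.node (.leaf 747) (.leaf 0))) (.node (.node (.leaf 349) (.leaf 907)) (.node (.leaf 875) (.leaf 0))))))) (.node (.node (.node (.node (.node (.node (.leaf 35) (.leaf 1395)) (.node (.leaf 462) (.leaf 1427))) (.node (.node (.leaf 193) (.leaf 1299)) (.node (.leaf 1267) (.leaf 0)))) (.node (.node (.node (.leaf 319) (.leaf 1651)) (.node (.leaf 660) (.leaf 1683))) (.node (.node (.leaf 588) (.leaf 1555)) (.node (.leaf 1523) (.leaf 0))))) (.node (.node (.node (.node (.leaf 85) (.leaf 1399)) (.node (.leaf 405) (.leaf 1431))) (.node (.node (.leaf 207) (.leaf 1303)) (.node (.leaf 1271) (.leaf 0)))) (.node (.node (.node (.leaf 335) (.leaf 1655)) (.node (.leaf 723) (.leaf 1687))) (.node (.node (.leaf 528) (.leaf 1559)) (.node (.leaf 1527) (.leaf 0)))))) (.node (.node (.node (.node (.node (.leaf 73) (.leaf 887)) (.node (.leaf 381) (.leaf 919))) (.node (.node (.leaf 175) (.leaf 791)) (.node (.leaf 759) (.leaf 0)))) (.node (.node (.node (.leaf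 303) (.leaf 1143)) (.node (.leaf 636) (.leaf 1175))) (.node (.node (.leaf 575) (.leaf 1047)) (.node (.leaf 1015) (.leaf 0))))) (.node (.node (.node (.node (.leaf 287) (.leaf 1139)) (.node (.leaf 700) (.leaf 1171))) (.node (.node (.leaf 512) (.leaf 1043)) (.node (.leaf 1011) (.leaf 0)))) (.node (.node (.node (.leaf 159) (.leaf 787)) (.node (.leaf 755) (.leaf 0))) (.node (.node (.leaf 454) (.leaf 915)) (.node (.leaf 883) (.leaf 0)))))))) (.node (.node (.node (.node (.node (.node (.node (.leaf 27) (.leaf 1379)) (.node (.leaf 460) (.leaf 1411))) (.node (.node (.leaf 189) (.leaf 1283)) (.node (.leaf 1251) (.leaf 0)))) (.node (.node (.node (.leaf 315) (.leaf 1635)) (.node (.leaf 652) (.leaf 1667))) (.node (.node (.leaf 592) (.leaf 1539)) (.node (.leaf 1507) (.leaf 0))))) (.node (.node (.node (.node (.leaf 75) (.leaf 1383)) (.node (.leaf 404) (.leaf 1415))) (.node (.node (.leaf 203) (.leaf 1287)) (.node (.leaf 1255) (.leaf 0)))) (.node (.node (.node (.leaf 331) (.leaf 1639)) (.node (.leaf 715) (.leaf 1671))) (.node (.node (.leaf 524) (.leaf 1543)) (.node (.leaf 1511)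 (.leaf 0)))))) (.node (.node (.node (.node (.node (.leaf 59) (.leaf 871)) (.node (.leaf 379) (.leaf 903))) (.node (.node (.leaf 171) (.leaf 775)) (.node (.leaf 743) (.leaf 0)))) (.node (.node (.node (.leaf 299) (.leaf 1127)) (.node (.leaf 643) (.leaf 1159))) (.node (.node (.leaf 571) (.leaf 1031)) (.node (.leaf 999) (.leaf 0))))) (.node (.node (.node (.node (.leaf 283) (.leaf 1123)) (.node (.leaf 707) (.leaf 1155))) (.node (.node (.leaf 508) (.leaf 1027)) (.node (.leaf 995) (.leaf 0)))) (.node (.node (.node (.leaf 155) (.leaf 771)) (.node (.leaf 739) (.leaf 0))) (.node (.node (.leaf 451) (.leaf 899)) (.node (.leaf 867) (.leaf 0))))))) (.node (.node (.node (.node (.node (.node (.leaf 11) (.leaf 863)) (.node (.leaf 412) (.leaf 895))) (.node (.node (.leaf 107) (.leaf 767)) (.node (.leaf 735) (.leaf 0)))) (.node (.node (.node (.leaf 235) (.leaf 1119)) (.node (.leaf 668) (.leaf 1151))) (.node (.node (.leaf 540) (.leaf 1023)) (.node (.leaf 991) (.leaf 0))))) (.node (.node (.node (.node (.leaf 219) (.leaf 1115)) (.node (.leaf 603) (.leaf 1147))) (.node (.node (.leaf 475)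 (.leaf 1019)) (.node (.leaf 987) (.leaf 0)))) (.node (.node (.node (.leaf 91) (.leaf 763)) (.node (.leaf 731) (.leaf 0))) (.node (.node (.leaf 347) (.leaf 891)) (.node (.leaf 859) (.leaf 0)))))) (.node (.node (.node (.node (.node (.leaf 43) (.leaf 1375)) (.node (.leaf 427) (.leaf 1407))) (.node (.node (.leaf 139) (.leaf 1279)) (.node (.leaf 1247) (.leaf 0)))) (.node (.node (.node (.leaf 268) (.leaf 1631)) (.node (.leaf 628) (.leaf 1663))) (.node (.node (.leaf 495) (.leaf 1535)) (.node (.leaf 1503) (.leaf 0))))) (.node (.node (.node (.node (.leaf 251) (.leaf 1627)) (.node (.leaf 692) (.leaf 1659))) (.node (.node (.leaf 555) (.leaf 1531)) (.node (.leaf 1499) (.leaf 0)))) (.node (.node (.node (.leaf 123) (.leaf 1275)) (.node (.leaf 1243) (.leaf 0))) (.node (.node (.leaf 364) (.leaf 1403)) (.node (.leaf 1371) (.leaf 0)))))))))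

def orbI3_4 : Janko.Tree ℕ :=
  (.node (.node (.node (.node (.node (.node (.node (.node (.leaf 2) (.leaf 1388)) (.node (.leaf 366) (.leaf 1420))) (.node (.node (.leaf 129) (.leaf 1292)) (.node (.leaf 1260) (.leaf 0)))) (.node (.node (.node (.leaf 257) (.leaf 1644)) (.node (.leaf 684) (.leaf 1676))) (.node (.node (.leaf 560) (.leaf 1548)) (.node (.leaf 1516) (.leaf 0))))) (.node (.node (.node (.node (.leaf 56) (.leaf 1392)) (.node (.leaf 430) (.leaf 1424))) (.node (.node (.leaf 144) (.leaf 1296)) (.node (.leaf 1264) (.leaf 0)))) (.node (.node (.node (.leaf 273) (.leaf 1648)) (.node (.leaf 620) (.leaf 1680))) (.node (.node (.leaf 492) (.leaf 1552)) (.node (.leaf 1520) (.leaf 0)))))) (.node (.node (.node (.node (.node (.leaf 21) (.leaf 880)) (.node (.leaf 414) (.leaf 912))) (.node (.node (.leaf 112) (.leaf 784)) (.node (.leaf 752) (.leaf 0)))) (.node (.node (.node (.leaf 242) (.leaf 1136)) (.node (.leaf 675) (.leaf 1168))) (.node (.node (.leaf 543) (.leaf 1040)) (.node (.leaf 1008) (.leaf 0))))) (.node (.node (.node (.node (.leaf 225) (.leaf 1132)) (.node (.leaf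 612) (.leaf 1164))) (.node (.node (.leaf 480) (.leaf 1036)) (.node (.leaf 1004) (.leaf 0)))) (.node (.node (.node (.leaf 97) (.leaf 780)) (.node (.leaf 748) (.leaf 0))) (.node (.node (.leaf 350) (.leaf 908)) (.node (.leaf 876) (.leaf 0))))))) (.node (.node (.node (.node (.node (.node (.leaf 37) (.leaf 1396)) (.node (.leaf 461) (.leaf 1428))) (.node (.node (.leaf 191) (.leaf 1300)) (.node (.leaf 1268) (.leaf 0)))) (.node (.node (.node (.leaf 320) (.leaf 1652)) (.node (.leaf 659) (.leaf 1684))) (.node (.node (.leaf 587) (.leaf 1556)) (.node (.leaf 1524) (.leaf 0))))) (.node (.node (.node (.node (.leaf 86) (.leaf 1400)) (.node (.leaf 406) (.leaf 1432))) (.node (.node (.leaf 208) (.leaf 1304)) (.node (.leaf 1272) (.leaf 0)))) (.node (.node (.node (.leaf 336) (.leaf 1656)) (.node (.leaf 724) (.leaf 1688))) (.node (.node (.leaf 527) (.leaf 1560)) (.node (.leaf 1528) (.leaf 0)))))) (.node (.node (.node (.node (.node (.leaf 71) (.leaf 888)) (.node (.leaf 382) (.leaf 920))) (.node (.node (.leaf 176) (.leaf 792)) (.node (.leaf 760) (.leaf 0)))) (.node (.node (.node (.leaf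 304) (.leaf 1144)) (.node (.leaf 635) (.leaf 1176))) (.node (.node (.leaf 576) (.leaf 1048)) (.node (.leaf 1016) (.leaf 0))))) (.node (.node (.node (.node (.leaf 288) (.leaf 1140)) (.node (.leaf 699) (.leaf 1172))) (.node (.node (.leaf 511) (.leaf 1044)) (.node (.leaf 1012) (.leaf 0)))) (.node (.node (.node (.leaf 161) (.leaf 788)) (.node (.leaf 756) (.leaf 0))) (.node (.node (.leaf 453) (.leaf 916)) (.node (.leaf 884) (.leaf 0)))))))) (.node (.node (.node (.node (.node (.node (.node (.leaf 29) (.leaf 1380)) (.node (.leaf 459) (.leaf 1412))) (.node (.node (.leaf 187) (.leaf 1284)) (.node (.leaf 1252) (.leaf 0)))) (.node (.node (.node (.leaf 316) (.leaf 1636)) (.node (.leaf 651) (.leaf 1668))) (.node (.node (.leaf 591) (.leaf 1540)) (.node (.leaf 1508) (.leaf 0))))) (.node (.node (.node (.node (.leaf 76) (.leaf 1384)) (.node (.leaf 403) (.leaf 1416))) (.node (.node (.leaf 204) (.leaf 1288)) (.node (.leaf 1256) (.leaf 0)))) (.node (.node (.node (.leaf 332) (.leaf 1640)) (.node (.leaf 716) (.leaf 1672))) (.node (.node (.leaf 523) (.leaf 1544)) (.node (.leaf 1512)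 (.leaf 0)))))) (.node (.node (.node (.node (.node (.leaf 61) (.leaf 872)) (.node (.leaf 380) (.leaf 904))) (.node (.node (.leaf 172) (.leaf 776)) (.node (.leaf 744) (.leaf 0)))) (.node (.node (.node (.leaf 300) (.leaf 1128)) (.node (.leaf 644) (.leaf 1160))) (.node (.node (.leaf 572) (.leaf 1032)) (.node (.leaf 1000) (.leaf 0))))) (.node (.node (.node (.node (.leaf 284) (.leaf 1124)) (.node (.leaf 708) (.leaf 1156))) (.node (.node (.leaf 507) (.leaf 1028)) (.node (.leaf 996) (.leaf 0)))) (.node (.node (.node (.leaf 157) (.leaf 772)) (.node (.leaf 740) (.leaf 0))) (.node (.node (.leaf 452) (.leaf 900)) (.node (.leaf 868) (.leaf 0))))))) (.node (.node (.node (.node (.node (.node (.leaf 13) (.leaf 864)) (.node (.leaf 411) (.leaf 896))) (.node (.node (.leaf 108) (.leaf 768)) (.node (.leaf 736) (.leaf 0)))) (.node (.node (.node (.leaf 237) (.leaf 1120)) (.node (.leaf 667) (.leaf 1152))) (.node (.node (.leaf 539) (.leaf 1024)) (.node (.leaf 992) (.leaf 0))))) (.node (.node (.node (.node (.leaf 221) (.leaf 1116)) (.node (.leaf 604) (.leaf 1148))) (.node (.node (.leaf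 476) (.leaf 1020)) (.node (.leaf 988) (.leaf 0)))) (.node (.node (.node (.leaf 93) (.leaf 764)) (.node (.leaf 732) (.leaf 0))) (.node (.node (.leaf 348) (.leaf 892)) (.node (.leaf 860) (.leaf 0)))))) (.node (.node (.node (.node (.node (.leaf 46) (.leaf 1376)) (.node (.leaf 428) (.leaf 1408))) (.node (.node (.leaf 140) (.leaf 1280)) (.node (.leaf 1248) (.leaf 0)))) (.node (.node (.node (.leaf 270) (.leaf 1632)) (.node (.leaf 627) (.leaf 1664))) (.node (.node (.leaf 496) (.leaf 1536)) (.node (.leaf 1504) (.leaf 0))))) (.node (.node (.node (.node (.leaf 253) (.leaf 1628)) (.node (.leaf 691) (.leaf 1660))) (.node (.node (.leaf 556) (.leaf 1532)) (.node (.leaf 1500) (.leaf 0)))) (.node (.node (.node (.leaf 125) (.leaf 1276)) (.node (.leaf 1244) (.leaf 0))) (.node (.node (.leaf 363) (.leaf 1404)) (.node (.leaf 1372) (.leaf 0)))))))))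

def orbI3_5 : Janko.Tree ℕ :=
  (.node (.node (.node (.node (.node (.node (.node (.node (.leaf 7) (.leaf 1389)) (.node (.leaf 369) (.leaf 1421))) (.node (.node (.leaf 128) (.leaf 1293)) (.node (.leaf 1261) (.leaf 0)))) (.node (.node (.node (.leaf 256) (.leaf 1645)) (.node (.leaf 695) (.leaf 1677))) (.node (.node (.leaf 567) (.leaf 1549)) (.node (.leaf 1517) (.leaf 0))))) (.node (.node (.node (.node (.leaf 58) (.leaf 1393)) (.node (.leaf 434) (.leaf 1425))) (.node (.node (.leaf 145) (.leaf 1297)) (.node (.leaf 1265) (.leaf 0)))) (.node (.node (.node (.leaf 272) (.leaf 1649)) (.node (.leaf 631) (.leaf 1681))) (.node (.node (.leaf 500) (.leaf 1553)) (.node (.leaf 1521) (.leaf 0)))))) (.node (.node (.node (.node (.node (.leaf 20) (.leaf 881)) (.node (.leaf 417) (.leaf 913))) (.node (.node (.leaf 113) (.leaf 785)) (.node (.leaf 753) (.leaf 0)))) (.node (.node (.node (.leaf 239) (.leaf 1137)) (.node (.leaf 671) (.leaf 1169))) (.node (.node (.leaf 551) (.leaf 1041)) (.node (.leaf 1009) (.leaf 0))))) (.node (.node (.node (.node (.leaf 224) (.leaf 1133)) (.node (.leaf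 608) (.leaf 1165))) (.node (.node (.leaf 487) (.leaf 1037)) (.node (.leaf 1005) (.leaf 0)))) (.node (.node (.node (.leaf 96) (.leaf 781)) (.node (.leaf 749) (.leaf 0))) (.node (.node (.leaf 354) (.leaf 909)) (.node (.leaf 877) (.leaf 0))))))) (.node (.node (.node (.node (.node (.node (.leaf 36) (.leaf 1397)) (.node (.leaf 465) (.leaf 1429))) (.node (.node (.leaf 194) (.leaf 1301)) (.node (.leaf 1269) (.leaf 0)))) (.node (.node (.node (.leaf 321) (.leaf 1653)) (.node (.leaf 655) (.leaf 1685))) (.node (.node (.leaf 595) (.leaf 1557)) (.node (.leaf 1525) (.leaf 0))))) (.node (.node (.node (.node (.leaf 83) (.leaf 1401)) (.node (.leaf 409) (.leaf 1433))) (.node (.node (.leaf 209) (.leaf 1305)) (.node (.leaf 1273) (.leaf 0)))) (.node (.node (.node (.leaf 337) (.leaf 1657)) (.node (.leaf 720) (.leaf 1689))) (.node (.node (.leaf 536) (.leaf 1561)) (.node (.leaf 1529) (.leaf 0)))))) (.node (.node (.node (.node (.node (.leaf 72) (.leaf 889)) (.node (.leaf 386) (.leaf 921))) (.node (.node (.leaf 177) (.leaf 793)) (.node (.leaf 761) (.leaf 0)))) (.node (.node (.node (.leaf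 305) (.leaf 1145)) (.node (.leaf 648) (.leaf 1177))) (.node (.node (.leaf 583) (.leaf 1049)) (.node (.leaf 1017) (.leaf 0))))) (.node (.node (.node (.node (.leaf 289) (.leaf 1141)) (.node (.leaf 712) (.leaf 1173))) (.node (.node (.leaf 519) (.leaf 1045)) (.node (.leaf 1013) (.leaf 0)))) (.node (.node (.node (.leaf 160) (.leaf 789)) (.node (.leaf 757) (.leaf 0))) (.node (.node (.leaf 458) (.leaf 917)) (.node (.leaf 885) (.leaf 0)))))))) (.node (.node (.node (.node (.node (.node (.node (.leaf 28) (.leaf 1381)) (.node (.leaf 463) (.leaf 1413))) (.node (.node (.leaf 190) (.leaf 1285)) (.node (.leaf 1253) (.leaf 0)))) (.node (.node (.node (.leaf 317) (.leaf 1637)) (.node (.leaf 663) (.leaf 1669))) (.node (.node (.leaf 599) (.leaf 1541)) (.node (.leaf 1509) (.leaf 0))))) (.node (.node (.node (.node (.leaf 77) (.leaf 1385)) (.node (.leaf 408) (.leaf 1417))) (.node (.node (.leaf 205) (.leaf 1289)) (.node (.leaf 1257) (.leaf 0)))) (.node (.node (.node (.leaf 333) (.leaf 1641)) (.node (.leaf 728) (.leaf 1673))) (.node (.node (.leaf 532) (.leaf 1545)) (.node (.leaf 1513)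 (.leaf 0)))))) (.node (.node (.node (.node (.node (.leaf 62) (.leaf 873)) (.node (.leaf 384) (.leaf 905))) (.node (.node (.leaf 173) (.leaf 777)) (.node (.leaf 745) (.leaf 0)))) (.node (.node (.node (.leaf 301) (.leaf 1129)) (.node (.leaf 639) (.leaf 1161))) (.node (.node (.leaf 579) (.leaf 1033)) (.node (.leaf 1001) (.leaf 0))))) (.node (.node (.node (.node (.leaf 285) (.leaf 1125)) (.node (.leaf 703) (.leaf 1157))) (.node (.node (.leaf 515) (.leaf 1029)) (.node (.leaf 997) (.leaf 0)))) (.node (.node (.node (.leaf 156) (.leaf 773)) (.node (.leaf 741) (.leaf 0))) (.node (.node (.leaf 455) (.leaf 901)) (.node (.leaf 869) (.leaf 0))))))) (.node (.node (.node (.node (.node (.node (.leaf 12) (.leaf 865)) (.node (.leaf 416) (.leaf 897))) (.node (.node (.leaf 109) (.leaf 769)) (.node (.leaf 737) (.leaf 0)))) (.node (.node (.node (.leaf 236) (.leaf 1121)) (.node (.leaf 679) (.leaf 1153))) (.node (.node (.leaf 547) (.leaf 1025)) (.node (.leaf 993) (.leaf 0))))) (.node (.node (.node (.node (.leaf 220) (.leaf 1117)) (.node (.leaf 616) (.leaf 1149))) (.node (.node (.leaf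 483) (.leaf 1021)) (.node (.leaf 989) (.leaf 0)))) (.node (.node (.node (.leaf 92) (.leaf 765)) (.node (.leaf 733) (.leaf 0))) (.node (.node (.leaf 352) (.leaf 893)) (.node (.leaf 861) (.leaf 0)))))) (.node (.node (.node (.node (.node (.leaf 44) (.leaf 1377)) (.node (.leaf 432) (.leaf 1409))) (.node (.node (.leaf 141) (.leaf 1281)) (.node (.leaf 1249) (.leaf 0)))) (.node (.node (.node (.leaf 267) (.leaf 1633)) (.node (.leaf 624) (.leaf 1665))) (.node (.node (.leaf 504) (.leaf 1537)) (.node (.leaf 1505) (.leaf 0))))) (.node (.node (.node (.node (.leaf 252) (.leaf 1629)) (.node (.leaf 688) (.leaf 1661))) (.node (.node (.leaf 563) (.leaf 1533)) (.node (.leaf 1501) (.leaf 0)))) (.node (.node (.node (.leaf 124) (.leaf 1277)) (.node (.leaf 1245) (.leaf 0))) (.node (.node (.leaf 368) (.leaf 1405)) (.node (.leaf 1373) (.leaf 0)))))))))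

def orbI3_6 : Janko.Tree ℕ :=
  (.node (.node (.node (.node (.node (.node (.node (.node (.leaf 8) (.leaf 1390)) (.node (.leaf 370) (.leaf 1422))) (.node (.node (.leaf 130) (.leaf 1294)) (.node (.leaf 1262) (.leaf 0)))) (.node (.node (.node (.leaf 258) (.leaf 1646)) (.node (.leaf 696) (.leaf 1678))) (.node (.node (.leaf 568) (.leaf 1550)) (.node (.leaf 1518) (.leaf 0))))) (.node (.node (.node (.node (.leaf 55) (.leaf 1394)) (.node (.leaf 433) (.leaf 1426))) (.node (.node (.leaf 146) (.leaf 1298)) (.node (.leaf 1266) (.leaf 0)))) (.node (.node (.node (.leaf 274) (.leaf 1650)) (.node (.leaf 632) (.leaf 1682))) (.node (.node (.leaf 499) (.leaf 1554)) (.node (.leaf 1522) (.leaf 0)))))) (.node (.node (.node (.node (.node (.leaf 22) (.leaf 882)) (.node (.leaf 418) (.leaf 914))) (.node (.node (.leaf 114) (.leaf 786)) (.node (.leaf 754) (.leaf 0)))) (.node (.node (.node (.leaf 241) (.leaf 1138)) (.node (.leaf 672) (.leaf 1170))) (.node (.node (.leaf 552) (.leaf 1042)) (.node (.leaf 1010) (.leaf 0))))) (.node (.node (.node (.node (.leaf 226) (.leaf 1134)) (.node (.leaf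 607) (.leaf 1166))) (.node (.node (.leaf 488) (.leaf 1038)) (.node (.leaf 1006) (.leaf 0)))) (.node (.node (.node (.leaf 98) (.leaf 782)) (.node (.leaf 750) (.leaf 0))) (.node (.node (.leaf 353) (.leaf 910)) (.node (.leaf 878) (.leaf 0))))))) (.node (.node (.node (.node (.node (.node (.leaf 38) (.leaf 1398)) (.node (.leaf 466) (.leaf 1430))) (.node (.node (.leaf 192) (.leaf 1302)) (.node (.leaf 1270) (.leaf 0)))) (.node (.node (.node (.leaf 322) (.leaf 1654)) (.node (.leaf 656) (.leaf 1686))) (.node (.node (.leaf 596) (.leaf 1558)) (.node (.leaf 1526) (.leaf 0))))) (.node (.node (.node (.node (.leaf 84) (.leaf 1402)) (.node (.leaf 410) (.leaf 1434))) (.node (.node (.leaf 210) (.leaf 1306)) (.node (.leaf 1274) (.leaf 0)))) (.node (.node (.node (.leaf 338) (.leaf 1658)) (.node (.leaf 719) (.leaf 1690))) (.node (.node (.leaf 535) (.leaf 1562)) (.node (.leaf 1530) (.leaf 0)))))) (.node (.node (.node (.node (.node (.leaf 74) (.leaf 890)) (.node (.leaf 385) (.leaf 922))) (.node (.node (.leaf 178) (.leaf 794)) (.node (.leaf 762) (.leaf 0)))) (.node (.node (.node (.leaf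 306) (.leaf 1146)) (.node (.leaf 647) (.leaf 1178))) (.node (.node (.leaf 584) (.leaf 1050)) (.node (.leaf 1018) (.leaf 0))))) (.node (.node (.node (.node (.leaf 290) (.leaf 1142)) (.node (.leaf 711) (.leaf 1174))) (.node (.node (.leaf 520) (.leaf 1046)) (.node (.leaf 1014) (.leaf 0)))) (.node (.node (.node (.leaf 162) (.leaf 790)) (.node (.leaf 758) (.leaf 0))) (.node (.node (.leaf 457) (.leaf 918)) (.node (.leaf 886) (.leaf 0)))))))) (.node (.node (.node (.node (.node (.node (.node (.leaf 30) (.leaf 1382)) (.node (.leaf 464) (.leaf 1414))) (.node (.node (.leaf 188) (.leaf 1286)) (.node (.leaf 1254) (.leaf 0)))) (.node (.node (.node (.leaf 318) (.leaf 1638)) (.node (.leaf 664) (.leaf 1670))) (.node (.node (.leaf 600) (.leaf 1542)) (.node (.leaf 1510) (.leaf 0))))) (.node (.node (.node (.node (.leaf 78) (.leaf 1386)) (.node (.leaf 407) (.leaf 1418))) (.node (.node (.leaf 206) (.leaf 1290)) (.node (.leaf 1258) (.leaf 0)))) (.node (.node (.node (.leaf 334) (.leaf 1642)) (.node (.leaf 727) (.leaf 1674))) (.node (.node (.leaf 531) (.leaf 1546)) (.node (.leaf 1514)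 (.leaf 0)))))) (.node (.node (.node (.node (.node (.leaf 60) (.leaf 874)) (.node (.leaf 383) (.leaf 906))) (.node (.node (.leaf 174) (.leaf 778)) (.node (.leaf 746) (.leaf 0)))) (.node (.node (.node (.leaf 302) (.leaf 1130)) (.node (.leaf 640) (.leaf 1162))) (.node (.node (.leaf 580) (.leaf 1034)) (.node (.leaf 1002) (.leaf 0))))) (.node (.node (.node (.node (.leaf 286) (.leaf 1126)) (.node (.leaf 704) (.leaf 1158))) (.node (.node (.leaf 516) (.leaf 1030)) (.node (.leaf 998) (.leaf 0)))) (.node (.node (.node (.leaf 158) (.leaf 774)) (.node (.leaf 742) (.leaf 0))) (.node (.node (.leaf 456) (.leaf 902)) (.node (.leaf 870) (.leaf 0))))))) (.node (.node (.node (.node (.node (.node (.leaf 14) (.leaf 866)) (.node (.leaf 415) (.leaf 898))) (.node (.node (.leaf 110) (.leaf 770)) (.node (.leaf 738) (.leaf 0)))) (.node (.node (.node (.leaf 238) (.leaf 1122)) (.node (.leaf 680) (.leaf 1154))) (.node (.node (.leaf 548) (.leaf 1026)) (.node (.leaf 994) (.leaf 0))))) (.node (.node (.node (.node (.leaf 222) (.leaf 1118)) (.node (.leaf 615) (.leaf 1150))) (.node (.node (.leaf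 484) (.leaf 1022)) (.node (.leaf 990) (.leaf 0)))) (.node (.node (.node (.leaf 94) (.leaf 766)) (.node (.leaf 734) (.leaf 0))) (.node (.node (.leaf 351) (.leaf 894)) (.node (.leaf 862) (.leaf 0)))))) (.node (.node (.node (.node (.node (.leaf 45) (.leaf 1378)) (.node (.leaf 431) (.leaf 1410))) (.node (.node (.leaf 142) (.leaf 1282)) (.node (.leaf 1250) (.leaf 0)))) (.node (.node (.node (.leaf 269) (.leaf 1634)) (.node (.leaf 623) (.leaf 1666))) (.node (.node (.leaf 503) (.leaf 1538)) (.node (.leaf 1506) (.leaf 0))))) (.node (.node (.node (.node (.leaf 254) (.leaf 1630)) (.node (.leaf 687) (.leaf 1662))) (.node (.node (.leaf 564) (.leaf 1534)) (.node (.leaf 1502) (.leaf 0)))) (.node (.node (.node (.leaf 126) (.leaf 1278)) (.node (.leaf 1246) (.leaf 0))) (.node (.node (.leaf 367) (.leaf 1406)) (.node (.leaf 1374) (.leaf 0)))))))))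

def orbI3_7 : Janko.Tree ℕ :=
  (.node (.node (.node (.node (.node (.node (.node (.node (.leaf 5) (.leaf 1451)) (.node (.leaf 373) (.leaf 1483))) (.node (.node (.leaf 135) (.leaf 1355)) (.node (.leaf 1323) (.leaf 0)))) (.node (.node (.node (.leaf 263) (.leaf 1707)) (.node (.leaf 694) (.leaf 1739))) (.node (.node (.leaf 562) (.leaf 1611)) (.node (.leaf 1579) (.leaf 0))))) (.node (.node (.node (.node (.leaf 52) (.leaf 1455)) (.node (.leaf 437) (.leaf 1487))) (.node (.node (.leaf 151) (.leaf 1359)) (.node (.leaf 1327) (.leaf 0)))) (.node (.node (.node (.leaf 279) (.leaf 1711)) (.node (.leaf 630) (.leaf 1743))) (.node (.node (.leaf 493) (.leaf 1615)) (.node (.leaf 1583) (.leaf 0)))))) (.node (.node (.node (.node (.node (.leaf 23) (.leaf 943)) (.node (.leaf 421) (.leaf 975))) (.node (.node (.leaf 119) (.leaf 847)) (.node (.leaf 815) (.leaf 0)))) (.node (.node (.node (.leaf 248) (.leaf 1199)) (.node (.leaf 669) (.leaf 1231))) (.node (.node (.leaf 546) (.leaf 1103)) (.node (.leaf 1071) (.leaf 0))))) (.node (.node (.node (.node (.leaf 231) (.leaf 1195)) (.node (.leaf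 606) (.leaf 1227))) (.node (.node (.leaf 482) (.leaf 1099)) (.node (.leaf 1067) (.leaf 0)))) (.node (.node (.node (.leaf 103) (.leaf 843)) (.node (.leaf 811) (.leaf 0))) (.node (.node (.leaf 357) (.leaf 971)) (.node (.leaf 939) (.leaf 0))))))) (.node (.node (.node (.node (.node (.node (.leaf 39) (.leaf 1459)) (.node (.leaf 470) (.leaf 1491))) (.node (.node (.leaf 199) (.leaf 1363)) (.node (.leaf 1331) (.leaf 0)))) (.node (.node (.node (.leaf 327) (.leaf 1715)) (.node (.leaf 653) (.leaf 1747))) (.node (.node (.leaf 590) (.leaf 1619)) (.node (.leaf 1587) (.leaf 0))))) (.node (.node (.node (.node (.leaf 88) (.leaf 1463)) (.node (.leaf 397) (.leaf 1495))) (.node (.node (.leaf 215) (.leaf 1367)) (.node (.leaf 1335) (.leaf 0)))) (.node (.node (.node (.leaf 343) (.leaf 1719)) (.node (.leaf 718) (.leaf 1751))) (.node (.node (.leaf 529) (.leaf 1623)) (.node (.leaf 1591) (.leaf 0)))))) (.node (.node (.node (.node (.node (.leaf 70) (.leaf 951)) (.node (.leaf 389) (.leaf 983))) (.node (.node (.leaf 183) (.leaf 855)) (.node (.leaf 823) (.leaf 0)))) (.node (.node (.node (.leaf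 311) (.leaf 1207)) (.node (.leaf 645) (.leaf 1239))) (.node (.node (.leaf 578) (.leaf 1111)) (.node (.leaf 1079) (.leaf 0))))) (.node (.node (.node (.node (.leaf 295) (.leaf 1203)) (.node (.leaf 709) (.leaf 1235))) (.node (.node (.leaf 514) (.leaf 1107)) (.node (.leaf 1075) (.leaf 0)))) (.node (.node (.node (.leaf 169) (.leaf 851)) (.node (.leaf 819) (.leaf 0))) (.node (.node (.leaf 446) (.leaf 979)) (.node (.leaf 947) (.leaf 0)))))))) (.node (.node (.node (.node (.node (.node (.node (.leaf 31) (.leaf 1443)) (.node (.leaf 468) (.leaf 1475))) (.node (.node (.leaf 195) (.leaf 1347)) (.node (.leaf 1315) (.leaf 0)))) (.node (.node (.node (.leaf 323) (.leaf 1699)) (.node (.leaf 661) (.leaf 1731))) (.node (.node (.leaf 594) (.leaf 1603)) (.node (.leaf 1571) (.leaf 0))))) (.node (.node (.node (.node (.leaf 79) (.leaf 1447)) (.node (.leaf 396) (.leaf 1479))) (.node (.node (.leaf 211) (.leaf 1351)) (.node (.leaf 1319) (.leaf 0)))) (.node (.node (.node (.leaf 339) (.leaf 1703)) (.node (.leaf 726) (.leaf 1735))) (.node (.node (.leaf 525) (.leaf 1607)) (.node (.leaf 1575)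 (.leaf 0)))))) (.node (.node (.node (.node (.node (.leaf 63) (.leaf 935)) (.node (.leaf 387) (.leaf 967))) (.node (.node (.leaf 179) (.leaf 839)) (.node (.leaf 807) (.leaf 0)))) (.node (.node (.node (.leaf 307) (.leaf 1191)) (.node (.leaf 638) (.leaf 1223))) (.node (.node (.leaf 574) (.leaf 1095)) (.node (.leaf 1063) (.leaf 0))))) (.node (.node (.node (.node (.leaf 291) (.leaf 1187)) (.node (.leaf 702) (.leaf 1219))) (.node (.node (.leaf 510) (.leaf 1091)) (.node (.leaf 1059) (.leaf 0)))) (.node (.node (.node (.leaf 165) (.leaf 835)) (.node (.leaf 803) (.leaf 0))) (.node (.node (.leaf 443) (.leaf 963)) (.node (.leaf 931) (.leaf 0))))))) (.node (.node (.node (.node (.node (.node (.leaf 15) (.leaf 927)) (.node (.leaf 420) (.leaf 959))) (.node (.node (.leaf 115) (.leaf 831)) (.node (.leaf 799) (.leaf 0)))) (.node (.node (.node (.leaf 243) (.leaf 1183)) (.node (.leaf 677) (.leaf 1215))) (.node (.node (.leaf 542) (.leaf 1087)) (.node (.leaf 1055) (.leaf 0))))) (.node (.node (.node (.node (.leaf 227) (.leaf 1179)) (.node (.leaf 614) (.leaf 1211))) (.node (.node (.leaf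 478) (.leaf 1083)) (.node (.leaf 1051) (.leaf 0)))) (.node (.node (.node (.leaf 99) (.leaf 827)) (.node (.leaf 795) (.leaf 0))) (.node (.node (.leaf 355) (.leaf 955)) (.node (.leaf 923) (.leaf 0)))))) (.node (.node (.node (.node (.node (.leaf 47) (.leaf 1439)) (.node (.leaf 435) (.leaf 1471))) (.node (.node (.leaf 147) (.leaf 1343)) (.node (.leaf 1311) (.leaf 0)))) (.node (.node (.node (.leaf 276) (.leaf 1695)) (.node (.leaf 621) (.leaf 1727))) (.node (.node (.leaf 497) (.leaf 1599)) (.node (.leaf 1567) (.leaf 0))))) (.node (.node (.node (.node (.leaf 259) (.leaf 1691)) (.node (.leaf 685) (.leaf 1723))) (.node (.node (.leaf 558) (.leaf 1595)) (.node (.leaf 1563) (.leaf 0)))) (.node (.node (.node (.leaf 131) (.leaf 1339)) (.node (.leaf 1307) (.leaf 0))) (.node (.node (.leaf 372) (.leaf 1467)) (.node (.leaf 1435) (.leaf 0)))))))))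

/-- The images of the vectors under a generator. -/
def orbI3_ : Janko.Tree ℕ :=
  .node (.node (.node orbI3_0 orbI3_4) (.node orbI3_2 orbI3_6)) (.node (.node orbI3_1 orbI3_5) (.node orbI3_3 orbI3_7))

def walkZ0 : Janko.Tree ℕ :=
  (.node (.node (.node (.node (.node (.node (.node (.node (.leaf 1784507327313954) (.leaf 4354742119042986)) (.node (.leaf 3278202685664301) (.leaf 3540395102171173))) (.node (.node (.leaf 1807257060316004) (.leaf 2389311725408999)) (.node (.leaf 3144616523337640) (.leaf 3749268029304866)))) (.node (.node (.node (.leaf 275077265615724) (.leaf 2012206604101344)) (.node (.leaf 1582021314373359) (.leaf 3983715476828207))) (.node (.node (.leaf 4124202743457636) (.leaf 2376217705053931)) (.node (.leaf 1604691048614628) (.leaf 4411945095331555))))) (.node (.node (.node (.node (.leaf 277466724499173) (.leaf 1380640367906725)) (.node (.leaf 369240338336493) (.leaf 2231165913508897))) (.node (.node (.leaf 117052105989994) (.leaf 4298668727592874)) (.node (.leaf 2031388735171621) (.leaf 368047509977127)))) (.node (.node (.node (.leaf 2645945444310880)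 (.leaf 1614630864005991)) (.node (.leaf 2039287788704483) (.leaf 3407184563611503))) (.node (.node (.leaf 4440233830508459) (.leaf 1532295755855911)) (.node (.leaf 4265691888400417) (.leaf 3778500631520288)))))) (.node (.node (.node (.node (.node (.leaf 2578903722601323) (.leaf 3215663798432681)) (.node (.leaf 3719123986687842) (.leaf 3826268603785060))) (.node (.node (.leaf 2573506321191784) (.leaf 3388107642370088)) (.node (.leaf 2926226995466977) (.leaf 1382915533334378)))) (.node (.node (.node (.leaf 1434365971998441) (.leaf 4274400492428197)) (.node (.leaf 3603551839710244) (.leaf 3781428678043502))) (.node (.node (.leaf 841695211478881) (.leaf 2413102218454957)) (.node (.leaf 1017709581347688) (.leaf 1369950301648939))))) (.node (.node (.node (.node (.leaf 3360223522954148) (.leaf 2895563725960098)) (.node (.leaf 2119835729154912) (.leaf 2116936587340652))) (.node (.node (.leaf 2766648181910562) (.leaf 3628051312581551)) (.node (.leaf 4062372224110498) (.leaf 2055715576781740)))) (.node (.node (.node (.leaf 4500649780029355) (.leaf 3468924878546657)) (.node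 (.leaf 2419167859699749) (.leaf 2220670116897))) (.node (.node (.leaf 2468015506721514) (.leaf 3424254722288486)) (.node (.leaf 971662048716646) (.leaf 2806045466534959))))))) (.node (.node (.node (.node (.node (.node (.leaf 1460717718693732) (.leaf 659768695890977)) (.node (.leaf 2632438833344546) (.leaf 3613256223336359))) (.node (.node (.leaf 4313370544525219) (.leaf 3056223443402479)) (.node (.leaf 4269077106061352) (.leaf 945825275816992)))) (.node (.node (.node (.leaf 928250046450404) (.leaf 1199446240153517)) (.node (.leaf 4465704502665056) (.leaf 1483667868051301))) (.node (.node (.leaf 1017724864140012) (.leaf 1004641116295075)) (.node (.leaf 4420946164252391) (.leaf 1509215176795173))))) (.node (.node (.node (.node (.leaf 2939655672984480) (.leaf 682419861366688)) (.node (.leaf 2269316381469548) (.leaf 644858835363755))) (.node (.node (.leaf 4147909916471338) (.leaf 1849562155162540)) (.node (.leaf 3094926029825774) (.leaf 3413222389555046)))) (.node (.node (.node (.leaf 1270685263537900) (.leaf 1616027718209440)) (.node (.leaf 2978282443697199) (.leaf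 3341167771885410))) (.node (.node (.leaf 1547234474873706) (.leaf 4376731904002792)) (.node (.leaf 589891325883303) (.leaf 2545602843621423)))))) (.node (.node (.node (.node (.node (.leaf 3532390399585318) (.leaf 2603765600134181)) (.node (.leaf 623799060987620) (.leaf 2472862805747559))) (.node (.node (.leaf 613399774524332) (.leaf 1651911373694698)) (.node (.leaf 2506763526074410) (.leaf 2978226072509348)))) (.node (.node (.node (.leaf 3921365042025327) (.leaf 1152337716572205)) (.node (.leaf 1977350541668392) (.leaf 947495281467234))) (.node (.node (.leaf 604129712730152) (.leaf 3556919704971113)) (.node (.leaf 3001493315757101) (.leaf 1364425970593835))))) (.node (.node (.node (.node (.leaf 1002087640519394) (.leaf 2385039008278252)) (.node (.leaf 2013003581417382) (.leaf 2100868779261678))) (.node (.node (.leaf 2657176063464291) (.leaf 1654462964674598)) (.node (.leaf 2076888323300269) (.leaf 3798243323468712)))) (.node (.node (.node (.leaf 1376345811428392) (.leaf 2792036094679978)) (.node (.leaf 4451110493178592) (.leaf 2930658543582957))) (.node (.node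 (.leaf 4189147465929569) (.leaf 2084078421878637)) (.node (.leaf 991149565252332) (.leaf 2477051880259300)))))))) (.node (.node (.node (.node (.node (.node (.node (.leaf 175842917325737) (.leaf 807428582080227)) (.node (.leaf 3924093247008800) (.leaf 2081375378733094))) (.node (.node (.leaf 2759519771710307) (.leaf 1890606384893863)) (.node (.leaf 4447657910777894) (.leaf 524958750583844)))) (.node (.node (.node (.leaf 180953332885410) (.leaf 3831967638696873)) (.node (.leaf 144841863882473) (.leaf 3563080436983712))) (.node (.node (.leaf 1471193122491109) (.leaf 2395638339115950)) (.node (.leaf 413359396934376) (.leaf 1192954306812845))))) (.node (.node (.node (.node (.leaf 3420424144329637) (.leaf 1324806873287401)) (.node (.leaf 2536695881175780) (.leaf 927991222586086))) (.node (.node (.leaf 1814035168096295) (.leaf 2444363260226414)) (.node (.leaf 974138666231720) (.leaf 612196404337581)))) (.node (.node (.node (.leaf 1324404675554336) (.leaf 1230554339108714)) (.node (.leaf 2309877134830639) (.leaf 4089856920315809))) (.node (.node (.leaf 4273735254807403)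 (.leaf 3279605162499939)) (.node (.leaf 4125183628982317) (.leaf 2177442910150499)))))) (.node (.node (.node (.node (.node (.leaf 4365330744270689) (.leaf 3963340262185895)) (.node (.leaf 3905214776976425) (.leaf 413122120979311))) (.node (.node (.leaf 1607260677730350) (.leaf 4221003397845743)) (.node (.leaf 3483737886600237) (.leaf 3828103863997288)))) (.node (.node (.node (.leaf 4134795666935727) (.leaf 2093522943122336)) (.node (.leaf 2850294582132456) (.leaf 1134807841236908))) (.node (.node (.leaf 2807240477502501) (.leaf 81861688381344)) (.node (.leaf 3779322358729452) (.leaf 723045124975657))))) (.node (.node (.node (.node (.leaf 4355656770776096) (.leaf 2481100836953960)) (.node (.leaf 3217427295374052) (.leaf 3996393998774304))) (.node (.node (.leaf 1065456106001125) (.leaf 2422782143288041)) (.node (.leaf 1680905597796079) (.leaf 2274387820129313)))) (.node (.node (.node (.leaf 2832239020216239) (.leaf 1640614426366690)) (.node (.leaf 3939241386420137) (.leaf 798219564814246))) (.node (.node (.leaf 2871662049743586) (.leaf 3069333149704047)) (.node (.leaf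 2811392895331367) (.leaf 2419621036031727))))))) (.node (.node (.node (.node (.node (.node (.leaf 2020175535663968) (.leaf 3682493765844709)) (.node (.leaf 3935826992736166) (.leaf 2573142768120738))) (.node (.node (.leaf 607403664860200) (.leaf 4471739310975846)) (.node (.leaf 1917285162991337) (.leaf 3017029680523113)))) (.node (.node (.node (.leaf 2901370810151847) (.leaf 2131100162650157)) (.node (.leaf 2312906071666729) (.leaf 3785796540096354))) (.node (.node (.leaf 2026268438172521) (.leaf 3554029631170474)) (.node (.leaf 1019814902895457) (.leaf 1925080767154925))))) (.node (.node (.node (.node (.leaf 1368974278111267) (.leaf 480428070327012)) (.node (.leaf 3199710306957344) (.leaf 1208178611493803))) (.node (.node (.leaf 3114771920123940) (.leaf 2013508290824934)) (.node (.leaf 1300038933482213) (.leaf 4340587989163885)))) (.node (.node (.node (.leaf 593336583367525) (.leaf 3584623406526504)) (.node (.leaf 2914801522751526) (.leaf 4295158787735274))) (.node (.node (.leaf 207748707198829) (.leaf 2514752849907620)) (.node (.leaf 3439340451959525) (.leaf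 2922190844618603)))))) (.node (.node (.node (.node (.node (.leaf 2337071264031784) (.leaf 1351188973630383)) (.node (.leaf 1546158599416867) (.leaf 1078165315086183))) (.node (.node (.leaf 3575412248160098) (.leaf 3451090365386663)) (.node (.leaf 2040195951579041) (.leaf 3351271142483818)))) (.node (.node (.node (.leaf 201918570604452) (.leaf 4311541420290990)) (.node (.leaf 2452379866539042) (.leaf 1760822101829356))) (.node (.node (.leaf 4115543651823658) (.leaf 848596884122660)) (.node (.leaf 2395913705659310) (.leaf 722005882089508))))) (.node (.node (.node (.node (.leaf 445082167008165) (.leaf 3012122820193124)) (.node (.leaf 4129256044169952) (.leaf 1784195264666535))) (.node (.node (.leaf 4297691868042082) (.leaf 848413212127273)) (.node (.leaf 3166731452656679) (.leaf 584978236764196)))) (.node (.node (.node (.leaf 1923392361585579) (.leaf 1434345021187951)) (.node (.leaf 3880496900868841) (.leaf 3713526678544233))) (.node (.node (.leaf 3147418169417579) (.leaf 4075037252913890)) (.node (.leaf 251248561697711) (.leaf 4290799650640623)))))))))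

def walkZ1 : Janko.Tree ℕ :=
  (.node (.node (.node (.node (.node (.node (.node (.node (.leaf 4496133576898603) (.leaf 1537448762976166)) (.node (.leaf 3020179541571628) (.leaf 2062360317978529))) (.node (.node (.leaf 133429469188007) (.leaf 928266174932719)) (.node (.leaf 3202762690531243) (.leaf 2761803573730213)))) (.node (.node (.node (.leaf 168381907281774) (.leaf 1386851439555495)) (.node (.leaf 3599001591014435) (.leaf 917445264337965))) (.node (.node (.leaf 1679205409353766) (.leaf 3960459640432552)) (.node (.leaf 4088187863322543) (.leaf 2515032969078510))))) (.node (.node (.node (.node (.leaf 1529422824531878) (.leaf 856616349798304)) (.node (.leaf 3443029442963172) (.leaf 1380975222896672))) (.node (.node (.leaf 697205955358759) (.leaf 1552085144951724)) (.node (.leaf 2638938470229728) (.leaf 4180307920180074)))) (.node (.node (.node (.leaf 2067379874591658) (.leaf 2126438270833518)) (.node (.leaf 3474595434322859) (.leaf 2552780292070313))) (.node (.node (.leaf 2274434528287659) (.leaf 2561889723566821)) (.node (.leaf 3229070761782306) (.leaf 2529505437286120))))))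 (.node (.node (.node (.node (.node (.leaf 4321131544318826) (.leaf 3644762480361192)) (.node (.leaf 1526845000495150) (.leaf 168105127208686))) (.node (.node (.leaf 2693697687130979) (.leaf 99305705500714)) (.node (.leaf 1507318111403756) (.leaf 4228570522182702)))) (.node (.node (.node (.leaf 3763536409545455) (.leaf 3375589167952814)) (.node (.leaf 3212699290931949) (.leaf 683093231211372))) (.node (.node (.leaf 3435832310151205) (.leaf 1493094335670123)) (.node (.leaf 2822900205268011) (.leaf 4088251750742052))))) (.node (.node (.node (.node (.leaf 690099629467362) (.leaf 1210792663454569)) (.node (.leaf 4405293459022895) (.leaf 444398461183907))) (.node (.node (.leaf 3747495426842466) (.leaf 1104608113944288)) (.node (.leaf 73642896159663) (.leaf 981418577210217)))) (.node (.node (.node (.leaf 1493031384508329) (.leaf 4413292477801518)) (.node (.leaf 4242698074645543) (.leaf 3912233397903212))) (.node (.node (.leaf 1318714347169644) (.leaf 3780046885464934)) (.node (.leaf 2180082479901547) (.leaf 2310721164954340))))))) (.node (.node (.node (.node (.node (.node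 (.leaf 2074722792480608) (.leaf 143866939227885)) (.node (.leaf 822303274715875) (.leaf 645340468176741))) (.node (.node (.leaf 3079698052652901) (.leaf 148814804786085)) (.node (.leaf 3130532807396072) (.leaf 1413052567043823)))) (.node (.node (.node (.leaf 856335599675109) (.leaf 4226846973334245)) (.node (.leaf 893350026220389) (.leaf 630375042178914))) (.node (.node (.leaf 670949170367207) (.leaf 1808404665572257)) (.node (.leaf 2346568202490596) (.leaf 1216226740202337))))) (.node (.node (.node (.node (.leaf 2951746618582948) (.leaf 2667125111053229)) (.node (.leaf 1012034128178209) (.leaf 3439274400027489))) (.node (.node (.leaf 1746932778982306) (.leaf 1112786852637539)) (.node (.leaf 1967845233113124) (.leaf 2487818402197541)))) (.node (.node (.node (.leaf 682393297031075) (.leaf 779018038255460)) (.node (.leaf 737811007350508) (.leaf 3420670548965422))) (.node (.node (.leaf 537548074886186) (.leaf 1381756564856675)) (.node (.leaf 2764066916246571) (.leaf 1199733958290278)))))) (.node (.node (.node (.node (.node (.leaf 2227525310965472) (.leaf 686753440197668))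 (.node (.leaf 181706099074794) (.leaf 1632125193692903))) (.node (.node (.leaf 3032772916236194) (.leaf 1013111774580643)) (.node (.leaf 1412520789822186) (.leaf 3958349105066020)))) (.node (.node (.node (.leaf 2457123057345574) (.leaf 2970009339749413)) (.node (.leaf 1703690745935908) (.leaf 874568099883887))) (.node (.node (.leaf 2522749108905834) (.leaf 1386306050208685)) (.node (.leaf 1221749700673254) (.leaf 836264997741604))))) (.node (.node (.node (.node (.leaf 1745644016343978) (.leaf 1391998351222690)) (.node (.leaf 2353883613384616) (.leaf 535830471485356))) (.node (.node (.leaf 3765738646400039) (.leaf 2121323632827307)) (.node (.leaf 2971109115644647) (.leaf 3519363532896296)))) (.node (.node (.node (.leaf 2485309373213738) (.leaf 1102701572731812)) (.node (.leaf 1401461596328676) (.leaf 1310379025488801))) (.node (.node (.leaf 1527715872959342) (.leaf 4121168449721189)) (.node (.leaf 2204600870974369) (.leaf 2604737574189088)))))))) (.node (.node (.node (.node (.node (.node (.node (.leaf 799812586167205) (.leaf 4454443632748453)) (.node (.leaf 3755272587323235)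 (.leaf 3563805152252771))) (.node (.node (.leaf 3952562292237358) (.leaf 2025782549058287)) (.node (.leaf 2438532840433382) (.leaf 2311621684867118)))) (.node (.node (.node (.leaf 3559832704600812) (.leaf 3517531931366247)) (.node (.leaf 3449293295538085) (.leaf 1500978901772135))) (.node (.node (.leaf 2347959179896677) (.leaf 1488737209532131)) (.node (.leaf 3506879699880679) (.leaf 1821249138830181))))) (.node (.node (.node (.node (.leaf 2254040041828389) (.leaf 2607607536484065)) (.node (.leaf 2334649674952748) (.leaf 2478220060996516))) (.node (.node (.leaf 3168340709270565) (.leaf 1828939815342952)) (.node (.leaf 2688526024173486) (.leaf 1471148679293795)))) (.node (.node (.node (.leaf 3559607689504484) (.leaf 2414065562525542)) (.node (.leaf 2558042699523107) (.leaf 1785595493492579))) (.node (.node (.leaf 4327827213429807) (.leaf 197351477606439)) (.node (.leaf 2521483852698337) (.leaf 3181705536344931)))))) (.node (.node (.node (.node (.node (.leaf 1065415100512291) (.leaf 1077462829846435)) (.node (.leaf 1004043761161062) (.leaf 3612459693358818))) (.node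 (.node (.leaf 2863032631340072) (.leaf 2896786704590570)) (.node (.leaf 496919715800812) (.leaf 562864372058863)))) (.node (.node (.node (.leaf 550143311295406) (.leaf 2604469931806628)) (.node (.leaf 1784410343035751) (.leaf 4151468794128239))) (.node (.node (.leaf 3790009213319207) (.leaf 3045649344733025)) (.node (.leaf 1003500979516331) (.leaf 1541614474766178))))) (.node (.node (.node (.node (.leaf 1159480636745447) (.leaf 3869504435511150)) (.node (.leaf 3456018655122147) (.leaf 3779614671688429))) (.node (.node (.leaf 2067499278139113) (.leaf 3280849228795821)) (.node (.leaf 1720053941249963) (.leaf 3470899275174759)))) (.node (.node (.node (.leaf 2564857751265130) (.leaf 4038920817979433)) (.node (.leaf 2901010167950189) (.leaf 4474552508850023))) (.node (.node (.leaf 2134800376007400) (.leaf 1292435600422955)) (.node (.leaf 668167563339495) (.leaf 3743770208121766))))))) (.node (.node (.node (.node (.node (.node (.leaf 1907288983884642) (.leaf 3845593825470370)) (.node (.leaf 3463484167478182) (.leaf 4039086478255137))) (.node (.node (.leaf 4093941668718444)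 (.leaf 258409226118889)) (.node (.leaf 3126843176513572) (.leaf 2422359966587808)))) (.node (.node (.node (.leaf 1172208627027878) (.leaf 1541565784773354)) (.node (.leaf 2007033108081702) (.leaf 1504414491712430))) (.node (.node (.leaf 3234728925244261) (.leaf 3975695865892776)) (.node (.leaf 2729694566917163) (.leaf 97853217824617))))) (.node (.node (.node (.node (.leaf 3260669681142502) (.leaf 218466630202280)) (.node (.leaf 3326098899166951) (.leaf 4237569046488929))) (.node (.node (.leaf 816115083227178) (.leaf 2607603622949792)) (.node (.leaf 3080103816575016) (.leaf 3645516927449129)))) (.node (.node (.node (.leaf 3093851618743143) (.leaf 2861323424893672)) (.node (.leaf 1165573470081775) (.leaf 2115511472479136))) (.node (.node (.leaf 4500965622067246) (.leaf 3821232738341732)) (.node (.leaf 2797585961434851) (.leaf 4232344616560557)))))) (.node (.node (.node (.node (.node (.leaf 3503780902272743) (.leaf 2515812132304930)) (.node (.leaf 1134825020974124) (.leaf 1523011899762530))) (.node (.node (.leaf 3461921641701221) (.leaf 3305289514934117)) (.node (.leaf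 1235124022686627) (.leaf 2509113412359022)))) (.node (.node (.node (.leaf 2243503419385700) (.leaf 2839017734869861)) (.node (.leaf 773921879747619) (.leaf 1014451513742176))) (.node (.node (.leaf 2608926653942508) (.leaf 2043382128767019)) (.node (.leaf 4104985187611561) (.leaf 3198027694456545))))) (.node (.node (.node (.node (.leaf 4207107228559273) (.leaf 4056060642782061)) (.node (.leaf 3225108106503204) (.leaf 3227461133245357))) (.node (.node (.leaf 2002230721700899) (.leaf 1121619872902188)) (.node (.leaf 2525800737760994) (.leaf 3839977408122785)))) (.node (.node (.node (.leaf 3514845027150692) (.leaf 4113195693416299)) (.node (.leaf 4500552454246314) (.leaf 1513078298045483))) (.node (.node (.leaf 3365970638534702) (.leaf 506936596892390)) (.node (.leaf 1201327787798572) (.leaf 1873655467800616)))))))))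

def walkZ2 : Janko.Tree ℕ :=
  (.node (.node (.node (.node (.node (.node (.node (.node (.leaf 2214783725654759) (.leaf 3518134234048420)) (.node (.leaf 4368317716615908) (.leaf 504058260268963))) (.node (.node (.leaf 127789228023654) (.leaf 2980866320774060)) (.node (.leaf 1856975530142569) (.leaf 1248211932543009)))) (.node (.node (.node (.leaf 735903869724521) (.leaf 4248336525097005)) (.node (.leaf 3215663513206509) (.leaf 4234693996275557))) (.node (.node (.leaf 3448992360911716) (.leaf 3565640618348462)) (.node (.leaf 2530219201052393) (.leaf 2700828672955110))))) (.node (.node (.node (.node (.leaf 1882717349538857) (.leaf 2289831517425575)) (.node (.leaf 4030482726784938) (.leaf 801254771827751))) (.node (.node (.leaf 2610441210993577) (.leaf 3630870141905765)) (.node (.leaf 102060175708907) (.leaf 971920747897902)))) (.node (.node (.node (.leaf 2344821957661543) (.leaf 1402729248828263)) (.node (.leaf 1175994176481199) (.leaf 1507259593830444))) (.node (.node (.leaf 1149090340920231) (.leaf 1728816781800353)) (.node (.leaf 2920191396292321) (.leaf 2791208652306473))))))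 (.node (.node (.node (.node (.node (.leaf 2374154219217952) (.leaf 170179136822187)) (.node (.leaf 2455965492717410) (.leaf 1578864450144993))) (.node (.node (.leaf 2797000723835753) (.leaf 3960509032424488)) (.node (.leaf 1314963590601635) (.leaf 1527387262331754)))) (.node (.node (.node (.leaf 1603541979116456) (.leaf 2563069681472352)) (.node (.leaf 72787260268390) (.leaf 4331713569826670))) (.node (.node (.leaf 4203535141805922) (.leaf 3022344502422379)) (.node (.leaf 2048493217440807) (.leaf 1623762869742445))))) (.node (.node (.node (.node (.leaf 4120733744712431) (.leaf 3701531838392034)) (.node (.leaf 1276306701741101) (.leaf 2294573332509608))) (.node (.node (.leaf 1916417488529262) (.leaf 137875050409)) (.node (.leaf 3311883593872291) (.leaf 1565163657735207)))) (.node (.node (.node (.leaf 1631390122190701) (.leaf 3734970007879394)) (.node (.leaf 571121735565037) (.leaf 1113293594931247))) (.node (.node (.leaf 3557010830909289) (.leaf 1646149013974051)) (.node (.leaf 939335238685546) (.leaf 2591077003072232))))))) (.node (.node (.node (.node (.node (.node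 (.leaf 158417416550444) (.leaf 2218598954371813)) (.node (.leaf 1546172828001318) (.leaf 2015848256150434))) (.node (.node (.leaf 1035815309123425) (.leaf 2605705817568173)) (.node (.leaf 967783819856609) (.leaf 386441215092451)))) (.node (.node (.node (.leaf 1845971809472426) (.leaf 818451657107370)) (.node (.leaf 1546349892578154) (.leaf 3090199361938466))) (.node (.node (.leaf 4155897690373868) (.leaf 2925886098630574)) (.node (.leaf 747671674477482) (.leaf 2178060565390370))))) (.node (.node (.node (.node (.leaf 3581797079882663) (.leaf 3490063881906082)) (.node (.leaf 186696843979617) (.leaf 4237947573676907))) (.node (.node (.leaf 3176648619567979) (.leaf 3741117145311080)) (.node (.leaf 3005314821165) (.leaf 2984576695072810)))) (.node (.node (.node (.leaf 657351602762658) (.leaf 260823326812008)) (.node (.leaf 684876261952234) (.leaf 3839486228566882))) (.node (.node (.leaf 2440369735511087) (.leaf 833058863305453)) (.node (.leaf 1590366953651943) (.leaf 3812565345152046)))))) (.node (.node (.node (.node (.node (.leaf 1534271854318310) (.leaf 2437128990532642))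 (.node (.leaf 4164412854489825) (.leaf 2360318113353643))) (.node (.node (.leaf 2177414249009061) (.leaf 454298423251681)) (.node (.leaf 791233793882148) (.leaf 1501672174121001)))) (.node (.node (.node (.leaf 2755964266227425) (.leaf 543323487495918)) (.node (.leaf 1917342918945836) (.leaf 483580267850784))) (.node (.node (.leaf 2161815098290215) (.leaf 3522356047926121)) (.node (.leaf 1918797040396009) (.leaf 730598747671275))))) (.node (.node (.node (.node (.leaf 1318424160757677) (.leaf 1284248469298094)) (.node (.leaf 4254849154735019) (.leaf 3067452532722411))) (.node (.node (.leaf 1496770090297251) (.leaf 647191618168743)) (.node (.leaf 2969158827556589) (.leaf 78304731641896)))) (.node (.node (.node (.leaf 3443276599085792) (.leaf 1695359968861088)) (.node (.leaf 3200366742162157) (.leaf 3414195212118882))) (.node (.node (.leaf 2342450988706851) (.leaf 3280696025016232)) (.node (.leaf 4049735347796015) (.leaf 3947505405900833)))))))) (.node (.node (.node (.node (.node (.node (.node (.leaf 4172995045403497) (.leaf 1391859840375714)) (.node (.leaf 1633222725316653)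 (.leaf 3162303332920362))) (.node (.node (.leaf 543935203883053) (.leaf 2926288856877796)) (.node (.leaf 1513725520571235) (.leaf 2408830666805165)))) (.node (.node (.node (.leaf 3015298022336230) (.leaf 255062111767277)) (.node (.leaf 1865481076503462) (.leaf 932698801680428))) (.node (.node (.leaf 1628468163747683) (.leaf 2059623429133166)) (.node (.leaf 400018012861349) (.leaf 3076567930545188))))) (.node (.node (.node (.node (.leaf 3653723753024224) (.leaf 1454385210757866)) (.node (.leaf 3547815960726254) (.leaf 1848087566280615))) (.node (.node (.leaf 3958327525471140) (.leaf 1402496398681839)) (.node (.leaf 1111718850013039) (.leaf 2732150752930849)))) (.node (.node (.node (.leaf 238178194164450) (.leaf 455975534487402)) (.node (.leaf 2519906701478632) (.leaf 3259423732618086))) (.node (.node (.leaf 2244980754720686) (.leaf 4225784180619306)) (.node (.leaf 3004638370686692) (.leaf 1546694756721700)))))) (.node (.node (.node (.node (.node (.leaf 3313325562507298) (.leaf 2762237924881325)) (.node (.leaf 2351163267736622) (.leaf 4011060309567393))) (.node (.node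 (.leaf 4151168962160367) (.leaf 1076781441551079)) (.node (.leaf 1183718116685866) (.leaf 1995574641652652)))) (.node (.node (.node (.leaf 1937602136060838) (.leaf 3243209538313129)) (.node (.leaf 2165073123732333) (.leaf 3280429806250850))) (.node (.node (.leaf 3353550673515242) (.leaf 3580274185119654)) (.node (.leaf 3104556161343341) (.leaf 3561215696349088))))) (.node (.node (.node (.node (.leaf 376691396760300) (.leaf 2605208833758057)) (.node (.leaf 223994706975657) (.leaf 2548884050804460))) (.node (.node (.leaf 2087966007803628) (.leaf 146401278680940)) (.node (.leaf 2907643878002598) (.leaf 769583036573549)))) (.node (.node (.node (.leaf 3594535488271270) (.leaf 3469664345590505)) (.node (.leaf 2341588427992102) (.leaf 2227044110497826))) (.node (.node (.leaf 625663487573728) (.leaf 217294130028396)) (.node (.leaf 2380231919658026) (.leaf 3607072755045219))))))) (.node (.node (.node (.node (.node (.node (.leaf 4200300235826219) (.leaf 2686768383070112)) (.node (.leaf 2085870219205546) (.leaf 2457471122407145))) (.node (.node (.leaf 2973248311910253) (.leaf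 3374173400403874)) (.node (.leaf 2802890817201190) (.leaf 2419100837210990)))) (.node (.node (.node (.leaf 1904046184927141) (.leaf 377228493495203)) (.node (.leaf 1489211377018597) (.leaf 3896618766673837))) (.node (.node (.leaf 1910246011612203) (.leaf 1747186265268074)) (.node (.leaf 2923186606695468) (.leaf 4496277918339947))))) (.node (.node (.node (.node (.leaf 3831536062037742) (.leaf 3829048308054050)) (.node (.leaf 745290312644655) (.leaf 3693948607061863))) (.node (.node (.leaf 786078869791777) (.leaf 137379631972068)) (.node (.leaf 487146341520098) (.leaf 2775479996833638)))) (.node (.node (.node (.leaf 3289596156830765) (.leaf 2431291276048421)) (.node (.leaf 3734915291671584) (.leaf 3331658402278248))) (.node (.node (.leaf 2741206386021228) (.leaf 1154600455825317)) (.node (.leaf 3380559334123425) (.leaf 4319246652008360)))))) (.node (.node (.node (.node (.node (.leaf 977779799666727) (.leaf 4062979735219241)) (.node (.leaf 4256077016468207) (.leaf 877306716768997))) (.node (.node (.leaf 1038200038160422) (.leaf 879605756269423)) (.node (.leaf 2208307482473387)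 (.leaf 2443879987819434)))) (.node (.node (.node (.leaf 2068031823584161) (.leaf 164948904874729)) (.node (.leaf 911408732410593) (.leaf 4383355140721376))) (.node (.node (.leaf 3960026063299631) (.leaf 3313006173852393)) (.node (.leaf 2605419952793507) (.leaf 192087261934506))))) (.node (.node (.node (.node (.leaf 436330714523497) (.leaf 697203714511726)) (.node (.leaf 4413752363561007) (.leaf 1227148936342368))) (.node (.node (.leaf 1036054741511207) (.leaf 4400277909520096)) (.node (.leaf 3808352327033898) (.leaf 251801044361056)))) (.node (.node (.node (.leaf 3036223277475759) (.leaf 4112927593327457)) (.node (.leaf 3536253518455855) (.leaf 869581404853103))) (.node (.node (.leaf 2325431114653544) (.leaf 3098184902472614)) (.node (.leaf 171267010133735) (.leaf 4297503031530213)))))))))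

def walkZ3 : Janko.Tree ℕ :=
  (.node (.node (.node (.node (.node (.node (.node (.node (.leaf 923246721143531) (.leaf 4361674265601888)) (.node (.leaf 2208387593751267) (.leaf 4292741395474279))) (.node (.node (.leaf 2517049558884192) (.leaf 214894420480736)) (.node (.leaf 804232661985130) (.leaf 191168664565793)))) (.node (.node (.node (.leaf 110224615579502) (.leaf 2805804792910563)) (.node (.leaf 4342683908066022) (.leaf 2233622905658274))) (.node (.node (.leaf 555921144277870) (.leaf 1152363366047598)) (.node (.leaf 4094777595897775) (.leaf 1143351927115688))))) (.node (.node (.node (.node (.leaf 952552233105451) (.leaf 2350777166893806)) (.node (.leaf 4243351153796139) (.leaf 1587287607005926))) (.node (.node (.leaf 1135379089517409) (.leaf 1030319561067243)) (.node (.leaf 2723990826647277) (.leaf 1281329095751719)))) (.node (.node (.node (.leaf 2134807203353452) (.leaf 3930051983086311)) (.node (.leaf 4439799017983908) (.leaf 3361901989900323))) (.node (.node (.leaf 1383835982066605) (.leaf 2052773716208487)) (.node (.leaf 86251554848480) (.leaf 2864684567732065))))))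 (.node (.node (.node (.node (.node (.leaf 4242783919493989) (.leaf 1561489379190504)) (.node (.leaf 2224662736908321) (.leaf 74488589218725))) (.node (.node (.leaf 3853013726309416) (.leaf 722053199804458)) (.node (.leaf 3518597029245861) (.leaf 2283463364174891)))) (.node (.node (.node (.leaf 173977525141221) (.leaf 216333177826149)) (.node (.leaf 1006418976487465) (.leaf 4379585558263855))) (.node (.node (.leaf 1790644766308394) (.leaf 135172726254633)) (.node (.leaf 3952232332636204) (.leaf 2145197030239270))))) (.node (.node (.node (.node (.leaf 3952298904859564) (.leaf 3597872236335019)) (.node (.leaf 1652931270801453) (.leaf 3088161794765730))) (.node (.node (.leaf 2487302497284139) (.leaf 2078394403607398)) (.node (.leaf 4041371705782308) (.leaf 1889084183845792)))) (.node (.node (.node (.leaf 3872119701756844) (.leaf 1109604255786027)) (.node (.leaf 2325066029164259) (.leaf 3219630836922403))) (.node (.node (.leaf 3521867433883680) (.leaf 3761195345555493)) (.node (.leaf 4149708863924070) (.leaf 256590536782764))))))) (.node (.node (.node (.node (.node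 (.node (.leaf 1234850000775085) (.leaf 1212364369235874)) (.node (.leaf 4098889294671916) (.leaf 2954377992724328))) (.node (.node (.leaf 138473504) (.leaf 1790156144352167)) (.node (.leaf 2402427110765479) (.leaf 3011557126886120)))) (.node (.node (.node (.leaf 105955922793184) (.leaf 2566185643298731)) (.node (.leaf 2514311972236326) (.leaf 3010029222734883))) (.node (.node (.leaf 941880276946857) (.leaf 3016544409429870)) (.node (.leaf 2294490385092527) (.leaf 92849661586476))))) (.node (.node (.node (.node (.leaf 2204947643947947) (.leaf 2443040708716390)) (.node (.leaf 223724820884517) (.leaf 4471900551556138))) (.node (.node (.leaf 2437881617509216) (.leaf 732974363615081)) (.node (.leaf 583801065514728) (.leaf 2220503185599522)))) (.node (.node (.node (.leaf 3296122301477802) (.leaf 1405176283983907)) (.node (.leaf 3838519835174632) (.leaf 2336006641345575))) (.node (.node (.leaf 662270151211054) (.leaf 2279662695546594)) (.node (.leaf 1119856602180651) (.leaf 2700024158990381)))))) (.node (.node (.node (.node (.node (.leaf 4090695261273833) (.leaf 2877915518595104))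 (.node (.leaf 2930915092266726) (.leaf 234870645183212))) (.node (.node (.leaf 879483140808549) (.leaf 858391042916068)) (.node (.leaf 3144753859957485) (.leaf 4036123499473770)))) (.node (.node (.node (.leaf 2046095531708332) (.leaf 2588189605694187)) (.node (.leaf 4076983579600617) (.leaf 4186276340016171))) (.node (.node (.leaf 2936746032953384) (.leaf 4430195485091750)) (.node (.leaf 3109035967577829) (.leaf 2364051027448548))))) (.node (.node (.node (.node (.leaf 1484064314173294) (.leaf 248828465572717)) (.node (.leaf 4333490936407972) (.leaf 492370919650220))) (.node (.node (.leaf 854118813542243) (.leaf 222134581995361)) (.node (.leaf 587257757411240) (.leaf 2544564023469799)))) (.node (.node (.node (.leaf 4205018371142560) (.leaf 105742616992680)) (.node (.leaf 133546980264) (.leaf 4186706709638191))) (.node (.node (.leaf 868011987757923) (.leaf 2793629749421932)) (.node (.leaf 2821453437047527) (.leaf 3955122648371945)))))))) (.node (.node (.node (.node (.node (.node (.node (.leaf 3598146164546468) (.leaf 1019121205226345)) (.node (.leaf 3032299154683937)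 (.leaf 1978749048367009))) (.node (.node (.leaf 3516488252960815) (.leaf 371483742729126)) (.node (.leaf 1735314890157089) (.leaf 2690241528455018)))) (.node (.node (.node (.leaf 3052133739024298) (.leaf 3828639942797029)) (.node (.leaf 465025340231588) (.leaf 1526604121732009))) (.node (.node (.leaf 1174789397346345) (.leaf 1574160159560551)) (.node (.leaf 2041421855784676) (.leaf 3298182417916960))))) (.node (.node (.node (.node (.leaf 2905197159448294) (.leaf 3353943165688743)) (.node (.leaf 3285061937910511) (.leaf 549088792029024))) (.node (.node (.leaf 3359456268350376) (.leaf 4304784038776736)) (.node (.leaf 470518309317472) (.leaf 2189843815373731)))) (.node (.node (.node (.leaf 3993670373045156) (.leaf 4433073809453102)) (.node (.leaf 1873446003156832) (.leaf 2852009806885798))) (.node (.node (.leaf 1961918723942250) (.leaf 478228440199208)) (.node (.leaf 1152350601573293) (.leaf 1077706496274476)))))) (.node (.node (.node (.node (.node (.leaf 1912388142015523) (.leaf 2926437118137193)) (.node (.leaf 4363415564102700) (.leaf 4415188246547170))) (.node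 (.node (.leaf 4039483068158697) (.leaf 1051946157241255)) (.node (.leaf 3650082491903018) (.leaf 3228899277426605)))) (.node (.node (.node (.leaf 562040022061935) (.leaf 1089588346805153)) (.node (.leaf 3674677307829295) (.leaf 3649646553572397))) (.node (.node (.leaf 2912417230031598) (.leaf 2197474908244715)) (.node (.leaf 356505873807395) (.leaf 2838971671422885))))) (.node (.node (.node (.node (.leaf 4209671275020008) (.leaf 3237697951956705)) (.node (.leaf 3046440302325805) (.leaf 2608412984709867))) (.node (.node (.leaf 755790286038754) (.leaf 3594415442140068)) (.node (.leaf 206975799650219) (.leaf 1773965017930657)))) (.node (.node (.node (.leaf 3949140341773167) (.leaf 2796632925535983)) (.node (.leaf 979691882259497) (.leaf 4359609207660396))) (.node (.node (.leaf 2138488505323429) (.leaf 2020941825828781)) (.node (.leaf 2630569405933281) (.leaf 3376979090756449))))))) (.node (.node (.node (.node (.node (.node (.leaf 3502364770505581) (.leaf 187694512410529)) (.node (.leaf 2263434011882401) (.leaf 2474520570383074))) (.node (.node (.leaf 1293946034305071)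 (.leaf 1190072926499753)) (.node (.leaf 3780546992537322) (.leaf 183738898179119)))) (.node (.node (.node (.leaf 454262314950500) (.leaf 1637510755166119)) (.node (.leaf 3248446084983652) (.leaf 2232120697582499))) (.node (.node (.leaf 954322939849576) (.leaf 2739004402902894)) (.node (.leaf 737166421961774) (.leaf 1703095988757549))))) (.node (.node (.node (.node (.leaf 2532496318782376) (.leaf 2112082812392169)) (.node (.leaf 2875853117172773) (.leaf 1141912555366241))) (.node (.node (.leaf 1755985193647854) (.leaf 83257683071724)) (.node (.leaf 3455910037582765) (.leaf 1154620908298080)))) (.node (.node (.node (.leaf 1099198279214828) (.leaf 1132725551813356)) (.node (.leaf 3529062441915106) (.leaf 3550098558069803))) (.node (.node (.leaf 426031491558245) (.leaf 814972797361066)) (.node (.leaf 220793844878057) (.leaf 1231906450777965)))))) (.node (.node (.node (.node (.node (.leaf 4192121079571500) (.leaf 650082596759278)) (.node (.leaf 2430201174732834) (.leaf 3280850294682533))) (.node (.node (.leaf 2736293750846379) (.leaf 3857085206290273)) (.node (.leaf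 1746327164478498) (.leaf 3780025729831779)))) (.node (.node (.node (.leaf 3367311294393196) (.leaf 358923795553186)) (.node (.leaf 1172079912528932) (.leaf 3553987957633952))) (.node (.node (.leaf 3571392159199270) (.leaf 128045592992678)) (.node (.leaf 1772866699172780) (.leaf 3041651125261163))))) (.node (.node (.node (.node (.leaf 676900371696364) (.leaf 1793429497100323)) (.node (.leaf 3680432095693549) (.leaf 4447383985148780))) (.node (.node (.leaf 1639495744813093) (.leaf 123120908314349)) (.node (.leaf 882174835097313) (.leaf 3333921372759082)))) (.node (.node (.node (.leaf 2120658559330155) (.leaf 1992438163515247)) (.node (.leaf 870158381203171) (.leaf 1391346197817188))) (.node (.node (.leaf 4419884957546531) (.leaf 2852418309234536)) (.node (.leaf 2739411960107744) (.leaf 2779695726393383)))))))))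

def walkZ4 : Janko.Tree ℕ :=
  (.node (.node (.node (.node (.node (.node (.node (.node (.leaf 3999746644098791) (.leaf 3719168808717038)) (.node (.leaf 3531216755474150) (.leaf 4083099998704484))) (.node (.node (.leaf 405694720028719) (.leaf 4249961134791598)) (.node (.leaf 1229605345765229) (.leaf 2238449433732842)))) (.node (.node (.node (.leaf 2439248551914536) (.leaf 2846608020874981)) (.node (.leaf 3512706493009830) (.leaf 3819512561199983))) (.node (.node (.leaf 4210827732773934) (.leaf 1854880998631137)) (.node (.leaf 580590255624108) (.leaf 1624872796557230))))) (.node (.node (.node (.node (.leaf 2136918716748513) (.leaf 177846169432099)) (.node (.leaf 4444962231462953) (.leaf 607935523710892))) (.node (.node (.leaf 1070241436904296) (.leaf 3004422638875564)) (.node (.leaf 2492226414569388) (.leaf 697795469666024)))) (.node (.node (.node (.leaf 2862217455840288) (.leaf 2638603725000609)) (.node (.leaf 1348395756805033) (.leaf 549160668425057))) (.node (.node (.leaf 683768835887020) (.leaf 3929844434446254)) (.node (.leaf 2970495343797985) (.leaf 681598468559716))))))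 (.node (.node (.node (.node (.node (.leaf 1770894392075301) (.leaf 1812521345102763)) (.node (.leaf 1518878116342830) (.leaf 1520921611440874))) (.node (.node (.leaf 1288184446230376) (.leaf 3169656278078182)) (.node (.leaf 3316320253093806) (.leaf 2506860464303142)))) (.node (.node (.node (.leaf 4324589595305891) (.leaf 3033831626380128)) (.node (.leaf 508180504028195) (.leaf 2916324877578272))) (.node (.node (.leaf 2228176640143403) (.leaf 4486794661591083)) (.node (.leaf 1953236759022318) (.leaf 828932404342823))))) (.node (.node (.node (.node (.leaf 2756856582350761) (.leaf 3907758358844131)) (.node (.leaf 3810256040137441) (.leaf 4416893223785325))) (.node (.node (.leaf 3061389561767788) (.leaf 1630180954315682)) (.node (.leaf 3512706668609259) (.leaf 365724253084588)))) (.node (.node (.node (.leaf 3569591693912935) (.leaf 3041630358404838)) (.node (.leaf 870237912273643) (.leaf 807045829291048))) (.node (.node (.leaf 1069700290355048) (.leaf 2619323637410853)) (.node (.leaf 984733150017570) (.leaf 3705353192341227))))))) (.node (.node (.node (.node (.node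 (.node (.leaf 1718441440601962) (.leaf 256318196458532)) (.node (.leaf 1001982568057580) (.leaf 779559474080612))) (.node (.node (.leaf 840165578742703) (.leaf 3461511625567087)) (.node (.leaf 3219583088123751) (.leaf 4218545535405988)))) (.node (.node (.node (.leaf 3705685780372392) (.leaf 1424584717803375)) (.node (.leaf 652541608959841) (.leaf 2548254977472546))) (.node (.node (.leaf 2297731078283117) (.leaf 3820862616921832)) (.node (.leaf 3547766528635809) (.leaf 580447908781931))))) (.node (.node (.node (.node (.leaf 157186925243239) (.leaf 506072067923809)) (.node (.leaf 2223658022839338) (.leaf 3350222411967332))) (.node (.node (.leaf 3770739090084709) (.leaf 2716299610028074)) (.node (.leaf 4438375967532067) (.leaf 4483181547841254)))) (.node (.node (.node (.leaf 4500913783378791) (.leaf 865395820571686)) (.node (.leaf 180879821180838) (.leaf 529917300635694))) (.node (.node (.leaf 3070462420832992) (.leaf 3169704672421793)) (.node (.leaf 2977416081385192) (.leaf 2126893812746991)))))) (.node (.node (.node (.node (.node (.leaf 4175675146217387) (.leaf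 1484154717227751)) (.node (.leaf 3280816746861423) (.leaf 4135198714928039))) (.node (.node (.leaf 4110954802502574) (.leaf 3095923551299492)) (.node (.leaf 1732369818134251) (.leaf 1974847634482923)))) (.node (.node (.node (.leaf 1967802930918306) (.leaf 937374033540012)) (.node (.leaf 3325152844080873) (.leaf 851986360627233))) (.node (.node (.leaf 2654882555455202) (.leaf 2056953195025257)) (.node (.leaf 2216375543713) (.leaf 1104387526063008))))) (.node (.node (.node (.node (.leaf 2686969023449833) (.leaf 1241497664186086)) (.node (.leaf 1082602440665958) (.leaf 2965280295657325))) (.node (.node (.leaf 759781646231398) (.leaf 668306784875435)) (.node (.leaf 4481131281882031) (.leaf 107267313755177)))) (.node (.node (.node (.leaf 2729312284839854) (.leaf 697149262538468)) (.node (.leaf 2025290158749732) (.leaf 3224651226012589))) (.node (.node (.leaf 3194189455682599) (.leaf 3515386533420904)) (.node (.leaf 1089113907350252) (.leaf 1734162977110060)))))))) (.node (.node (.node (.node (.node (.node (.node (.leaf 2716262173416360) (.leaf 3891806464988005)) (.node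 (.leaf 3014024014931693) (.leaf 4079873767335782))) (.node (.node (.leaf 2626009843213358) (.leaf 3724348837547941)) (.node (.leaf 1263849935053870) (.leaf 3380501352064033)))) (.node (.node (.node (.leaf 1298940116505326) (.leaf 152670108274607)) (.node (.leaf 1914407535464359) (.leaf 1452244198888296))) (.node (.node (.leaf 877582416797538) (.leaf 2595314060754670)) (.node (.leaf 3116934465641382) (.leaf 3199183098081320))))) (.node (.node (.node (.node (.leaf 2448903062852325) (.leaf 2163932675077032)) (.node (.leaf 2539397198814118) (.leaf 3608994462949229))) (.node (.node (.leaf 3827277781930850) (.leaf 3174140619887335)) (.node (.leaf 1086259571086178) (.leaf 1543940080462700)))) (.node (.node (.node (.leaf 4101919127109355) (.leaf 1539818076363686)) (.node (.leaf 629578820071463) (.leaf 601060644885355))) (.node (.node (.leaf 2923768775518063) (.leaf 2069106811900643)) (.node (.leaf 2884840112786145) (.leaf 2373277837829862)))))) (.node (.node (.node (.node (.node (.leaf 3113294628830955) (.leaf 3025271266140004)) (.node (.leaf 4240617662304995) (.leaf 1460754817443552)))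 (.node (.node (.leaf 1036078256078565) (.leaf 1152376385306350)) (.node (.leaf 3350185878513388) (.leaf 1964607687008111)))) (.node (.node (.node (.leaf 805552610125733) (.leaf 1672339811707752)) (.node (.leaf 3608950986500962) (.leaf 3778454219452463))) (.node (.node (.leaf 1633085292019432) (.leaf 2917687039259560)) (.node (.leaf 2068321375678497) (.leaf 681057628284772))))) (.node (.node (.node (.node (.leaf 1680603980490671) (.leaf 837258063174568)) (.node (.leaf 3762629164246060) (.leaf 3098883831021294))) (.node (.node (.leaf 2034042395496352) (.leaf 554766952753058)) (.node (.leaf 3267743033257) (.leaf 3353357817981802)))) (.node (.node (.node (.leaf 2860737280168804) (.leaf 500897611635618)) (.node (.leaf 1187831058591785) (.leaf 3099472627408746))) (.node (.node (.leaf 482613149146983) (.leaf 583168078194542)) (.node (.leaf 508038205034412) (.leaf 2815391030158380))))))) (.node (.node (.node (.node (.node (.node (.leaf 3779148095808556) (.leaf 599285555715940)) (.node (.leaf 739412008588141) (.leaf 2993668487407337))) (.node (.node (.leaf 1512653537210400)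 (.leaf 2245757714895718)) (.node (.leaf 1399675519198948) (.leaf 1489764965278761)))) (.node (.node (.node (.leaf 221329317407591) (.leaf 220373880314785)) (.node (.leaf 4350882898908003) (.leaf 3192916325771116))) (.node (.node (.leaf 3373108395813933) (.leaf 600381988169579)) (.node (.leaf 1063181957031781) (.leaf 2514486883823654))))) (.node (.node (.node (.node (.leaf 700299138428975) (.leaf 4262931847931618)) (.node (.leaf 4244038217852643) (.leaf 1268680709824359))) (.node (.node (.leaf 2515738827699119) (.leaf 4366194077558501)) (.node (.leaf 575998822692902) (.leaf 2250505634754601)))) (.node (.node (.node (.leaf 3359455978409888) (.leaf 1067947290790627)) (.node (.leaf 2267207405006889) (.leaf 1499560180046766))) (.node (.node (.leaf 4014112595618852) (.leaf 2166763407858592)) (.node (.leaf 235842960582369) (.leaf 1555660466026531)))))) (.node (.node (.node (.node (.node (.leaf 1946096258891490) (.leaf 3890341556823079)) (.node (.leaf 668731648161837) (.leaf 3254794635504480))) (.node (.node (.leaf 611887190979491) (.leaf 880019453435749)) (.node (.leaf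 2308807413202665) (.leaf 2859049373969256)))) (.node (.node (.node (.leaf 390865512436576) (.leaf 3405047855392493)) (.node (.leaf 1351564433995815) (.leaf 4127135049519009))) (.node (.node (.leaf 81885890349793) (.leaf 1539454411892584)) (.node (.leaf 4246636701755247) (.leaf 3165187758232425))))) (.node (.node (.node (.node (.leaf 3990864970085291) (.leaf 4450495203487778)) (.node (.leaf 2657900002530024) (.leaf 1397450032654248))) (.node (.node (.leaf 2902499581334254) (.leaf 2474615664387114)) (.node (.leaf 1507433234123498) (.leaf 3009654806409259)))) (.node (.node (.node (.leaf 3547232352984943) (.leaf 1157914485585957)) (.node (.leaf 4490742093843173) (.leaf 3891422300183468))) (.node (.node (.leaf 2263350260052001) (.leaf 1912132228406179)) (.node (.leaf 3708466961098660) (.leaf 2348279201309735)))))))))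

def walkZ5 : Janko.Tree ℕ :=
  (.node (.node (.node (.node (.node (.node (.node (.node (.leaf 1109427386886052) (.leaf 3351686786383590)) (.node (.leaf 4327288674177766) (.leaf 1510327069796199))) (.node (.node (.leaf 1048999691148196) (.leaf 2124044244366254)) (.node (.leaf 2595846288433002) (.leaf 2236459788575778)))) (.node (.node (.node (.leaf 408148503979754) (.leaf 1117923140782824)) (.node (.leaf 2174924968748070) (.leaf 1305686263832421))) (.node (.node (.leaf 2561957751155553) (.leaf 810981937728238)) (.node (.leaf 3692258727448493) (.leaf 1840148804538283))))) (.node (.node (.node (.node (.leaf 3181651264598059) (.leaf 237716149979876)) (.node (.leaf 1865786480120557) (.leaf 2871314917887916))) (.node (.node (.leaf 1902173493007211) (.leaf 1166145287216040)) (.node (.leaf 3421967517682406) (.leaf 1825152661099232)))) (.node (.node (.node (.leaf 632037660080171) (.leaf 2182460281560934)) (.node (.leaf 230096189827943) (.leaf 1883329978656486))) (.node (.node (.leaf 3480572331728746) (.leaf 567379608630180)) (.node (.leaf 4412917878624175) (.leaf 4395318570888038))))))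 (.node (.node (.node (.node (.node (.leaf 3921112645364772) (.leaf 485157672735586)) (.node (.leaf 767269852227304) (.leaf 956248511339427))) (.node (.node (.leaf 2701200290047847) (.leaf 639266123704045)) (.node (.leaf 678983883938721) (.leaf 1574114182364896)))) (.node (.node (.node (.leaf 3072618549795759) (.leaf 3557147862771424)) (.node (.leaf 3227765592735466) (.leaf 924507446884399))) (.node (.node (.leaf 1283925128773354) (.leaf 2430331586995246)) (.node (.leaf 724336770081827) (.leaf 3734429944859362))))) (.node (.node (.node (.node (.leaf 120058025728938) (.leaf 4095666908383979)) (.node (.leaf 2384331420511274) (.leaf 1318192057327465))) (.node (.node (.leaf 1915800371900452) (.leaf 3120129977346924)) (.node (.leaf 3871820300473070) (.leaf 3041009105087332)))) (.node (.node (.node (.leaf 3812920507126632) (.leaf 2105007802568617)) (.node (.leaf 3852832810051499) (.leaf 1633547567572715))) (.node (.node (.leaf 3490775951996975) (.leaf 1854927706335084)) (.node (.leaf 3821468812422176) (.leaf 4414962990682861))))))) (.node (.node (.node (.node (.node (.node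 (.leaf 1779877872740205) (.leaf 3165057180679919)) (.node (.leaf 3792956339332847) (.leaf 4329713043811368))) (.node (.node (.leaf 1084858037168992) (.leaf 658829985408737)) (.node (.leaf 545044974450730) (.leaf 109203246763938)))) (.node (.node (.node (.leaf 1656569347483556) (.leaf 4150059004416871)) (.node (.leaf 2071951497389931) (.leaf 2648088922180335))) (.node (.node (.leaf 222672240369513) (.leaf 2920720876654503)) (.node (.leaf 74620636369761) (.leaf 3489349651747692))))) (.node (.node (.node (.node (.leaf 2289844016753697) (.leaf 4317122906532714)) (.node (.leaf 2715934576691941) (.leaf 2615887583816748))) (.node (.node (.leaf 3589274898048033) (.leaf 1732319377403943)) (.node (.leaf 2782042770974444) (.leaf 2989255333618735)))) (.node (.node (.node (.leaf 2640232173266856) (.leaf 2732633169067758)) (.node (.leaf 164901838001000) (.leaf 4255229436110565))) (.node (.node (.leaf 2425724946157474) (.leaf 3325041382410980)) (.node (.leaf 4323835453826983) (.leaf 538313363734251)))))) (.node (.node (.node (.node (.node (.leaf 2748323026083691) (.leaf 2084352137361454))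 (.node (.leaf 4462080373009254) (.leaf 521428898981799))) (.node (.node (.leaf 3758550024887206) (.leaf 4042160822357921)) (.node (.leaf 1741133170357153) (.leaf 3754290455580583)))) (.node (.node (.node (.leaf 3473552605148078) (.leaf 3325600765574888)) (.node (.leaf 3575324115094242) (.leaf 1216351327040430))) (.node (.node (.leaf 3759061965974376) (.leaf 2801024566881120)) (.node (.leaf 1482841476623400) (.leaf 2897145236143847))))) (.node (.node (.node (.node (.leaf 1682574088365800) (.leaf 2152688176484270)) (.node (.leaf 3166731389676590) (.leaf 3368726304018344))) (.node (.node (.leaf 1672880923451236) (.leaf 2387967305060268)) (.node (.leaf 2908121014987618) (.leaf 3272202300459)))) (.node (.node (.node (.leaf 3575113365852073) (.leaf 3951146046580653)) (.node (.leaf 669091205097186) (.leaf 3282987652455329))) (.node (.node (.leaf 2249465924743202) (.leaf 1167150284907561)) (.node (.leaf 3303318634181549) (.leaf 940752905561132)))))))) (.node (.node (.node (.node (.node (.node (.node (.leaf 2365261217852258) (.leaf 1546397551306592)) (.node (.leaf 1364020482272099)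 (.leaf 3636228837321577))) (.node (.node (.leaf 660542682051496) (.leaf 2089536409411426)) (.node (.leaf 3775208827711526) (.leaf 3470339426267169)))) (.node (.node (.node (.leaf 3061127782914983) (.leaf 1826503516066543)) (.node (.leaf 2319456742206306) (.leaf 2600309941692260))) (.node (.node (.leaf 745595802925092) (.leaf 3767521170679724)) (.node (.leaf 2053268014769895) (.leaf 1620773640508139))))) (.node (.node (.node (.node (.leaf 2536680457296809) (.leaf 1515857978497965)) (.node (.leaf 2808831759804322) (.leaf 3417279520188256))) (.node (.node (.leaf 1639715030962095) (.leaf 1231854505679789)) (.node (.leaf 1741084827133807) (.leaf 2256810637332385)))) (.node (.node (.node (.leaf 1230918748727214) (.leaf 4239499586693034)) (.node (.leaf 2256844460111915) (.leaf 650679419988835))) (.node (.node (.leaf 3093136206585710) (.leaf 4071481424854752)) (.node (.leaf 1980612733793189) (.leaf 4451223205314281)))))) (.node (.node (.node (.node (.node (.leaf 2326341533954093) (.leaf 1588134005330786)) (.node (.leaf 4488693132730220) (.leaf 275517013905327))) (.node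 (.node (.leaf 3355345704517346) (.leaf 538102989222821)) (.node (.leaf 3565295120416492) (.leaf 2457508071794592)))) (.node (.node (.node (.leaf 4239911161358243) (.leaf 2828382847248225)) (.node (.leaf 3008893226904619) (.leaf 4335234297358250))) (.node (.node (.leaf 624909371937512) (.leaf 941740475656106)) (.node (.leaf 639284391306281) (.leaf 3703529841014826))))) (.node (.node (.node (.node (.leaf 1080593759800035) (.leaf 1332339821409185)) (.node (.leaf 2856399411986145) (.leaf 564225458572005))) (.node (.node (.leaf 2907542276988768) (.leaf 3803684343785315)) (.node (.leaf 3029294823401321) (.leaf 3630516693460836)))) (.node (.node (.node (.leaf 4308720835685418) (.leaf 3808883700550374)) (.node (.leaf 1155054737378031) (.leaf 139442221084705))) (.node (.node (.leaf 4010076724371299) (.leaf 2592959226769446)) (.node (.leaf 1038057040834606) (.leaf 2174968971917344))))))) (.node (.node (.node (.node (.node (.node (.leaf 1132295083306030) (.leaf 4181681579489324)) (.node (.leaf 3151254841715553) (.leaf 3638968903384805))) (.node (.node (.leaf 1169795532579880)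 (.leaf 1155037691898735)) (.node (.leaf 1856198640058091) (.leaf 3936807242739746)))) (.node (.node (.node (.leaf 1864664138999655) (.leaf 3069607764880238)) (.node (.leaf 676219706991648) (.leaf 2212735887388717))) (.node (.node (.leaf 402763816) (.leaf 1261589060913898)) (.node (.leaf 1536097143091233) (.leaf 2772573919667947))))) (.node (.node (.node (.node (.leaf 1091125402815213) (.leaf 4038112813478816)) (.node (.leaf 3151284516244199) (.leaf 383691873761326))) (.node (.node (.leaf 4351968608670560) (.leaf 3460444801545122)) (.node (.leaf 2773653175390955) (.leaf 2677526664745708)))) (.node (.node (.node (.leaf 3647654308098990) (.leaf 2405144426673059)) (.node (.leaf 3164317682387689) (.leaf 2873296704547687))) (.node (.node (.leaf 213164877392746) (.leaf 1370665614289771)) (.node (.leaf 3894295017967529) (.leaf 2622375939583017)))))) (.node (.node (.node (.node (.node (.leaf 1520321426943020) (.leaf 3190345939730156)) (.node (.leaf 2103760880528422) (.leaf 1049026525587360))) (.node (.node (.leaf 409921744884588) (.leaf 3527764482043941)) (.node (.leaf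 2123334097153057) (.leaf 3964634312010794)))) (.node (.node (.node (.leaf 3448912078496801) (.leaf 3074663615631269)) (.node (.leaf 2446009334813418) (.leaf 2187953147928421))) (.node (.node (.leaf 1876914971305696) (.leaf 3368500906073965)) (.node (.leaf 3860349773592620) (.leaf 80487940940839))))) (.node (.node (.node (.node (.leaf 4010946044514218) (.leaf 2412107846951971)) (.node (.leaf 2786961432709858) (.leaf 1067442108623725))) (.node (.node (.leaf 690686187687854) (.leaf 1918653715562213)) (.node (.leaf 1926561862406062) (.leaf 3735871413359468)))) (.node (.node (.node (.leaf 3515503076948013) (.leaf 2949267163091688)) (.node (.leaf 1030536503633636) (.leaf 3857865805654881))) (.node (.node (.leaf 1337479287652068) (.leaf 2592467501901728)) (.node (.leaf 951024732940011) (.leaf 2707833491373)))))))))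

def walkZ6 : Janko.Tree ℕ :=
  (.node (.node (.node (.node (.node (.node (.node (.node (.leaf 1067146390798059) (.leaf 1257394891709344)) (.node (.leaf 2995464818777964) (.leaf 1027080906602534))) (.node (.node (.leaf 3701640627792746) (.leaf 1350565996942177)) (.node (.leaf 646065397507948) (.leaf 2142743339330595)))) (.node (.node (.node (.leaf 2170041512923874) (.leaf 1906539965526955)) (.node (.leaf 2773315107684077) (.leaf 4443120258971680))) (.node (.node (.leaf 2778956773518378) (.leaf 1091259276276649)) (.node (.leaf 3898655091105646) (.leaf 3476122361063335))))) (.node (.node (.node (.node (.leaf 3638432806030057) (.leaf 206239715147489)) (.node (.leaf 4001584777587756) (.leaf 3516376331968363))) (.node (.node (.leaf 1154576833111077) (.leaf 1849615739532194)) (.node (.leaf 1499288567883502) (.leaf 1523554245263076)))) (.node (.node (.node (.leaf 1935413656724518) (.leaf 4300375716387753)) (.node (.leaf 1225101292121129) (.leaf 2644609697992619))) (.node (.node (.leaf 2963639797773226) (.leaf 4266353471681454)) (.node (.leaf 4225018869362720) (.leaf 180743684008809))))))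 (.node (.node (.node (.node (.node (.leaf 3754782772099116) (.leaf 209347599843049)) (.node (.leaf 3019068325227375) (.leaf 4220270582431471))) (.node (.node (.leaf 1991563402932259) (.leaf 2321648372577195)) (.node (.leaf 3346513644054374) (.leaf 2775470489375465)))) (.node (.node (.node (.leaf 1431771181542254) (.leaf 3451086007701420)) (.node (.leaf 4327674992355047) (.leaf 2618120934151019))) (.node (.node (.leaf 1912914126394221) (.leaf 2080295664390890)) (.node (.leaf 2808364099547168) (.leaf 2227760549396197))))) (.node (.node (.node (.node (.leaf 3706868462754726) (.leaf 701752238486442)) (.node (.leaf 3622677220676334) (.leaf 3548223500630062))) (.node (.node (.leaf 2052661148511266) (.leaf 1586664965231462)) (.node (.leaf 259106242029481) (.leaf 237791015030692)))) (.node (.node (.node (.leaf 823832368489512) (.leaf 259576957915052)) (.node (.leaf 2869432451665828) (.leaf 2728537940091942))) (.node (.node (.leaf 2988444631232557) (.leaf 3643948681255855)) (.node (.leaf 648628032988899) (.leaf 2514621655681766))))))) (.node (.node (.node (.node (.node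 (.node (.leaf 2439349734596458) (.leaf 1034376495172329)) (.node (.leaf 1323615355554529) (.leaf 2603387628348450))) (.node (.node (.leaf 1765669078346603) (.leaf 2103987426027439)) (.node (.leaf 247253105225771) (.leaf 3171851454336935)))) (.node (.node (.node (.leaf 1513602005215072) (.leaf 3784470510608235)) (.node (.leaf 1772175656808484) (.leaf 848805455612651))) (.node (.node (.leaf 2167456747104098) (.leaf 2687183613694688)) (.node (.leaf 3473037497114478) (.leaf 4476827216374637))))) (.node (.node (.node (.node (.leaf 123271082850336) (.leaf 756968324949862)) (.node (.leaf 4070817916938089) (.leaf 518777171980323))) (.node (.node (.leaf 1783998795835237) (.leaf 2790784643212332)) (.node (.leaf 1402483685265312) (.leaf 2137560834436141)))) (.node (.node (.node (.leaf 2900633523169198) (.leaf 2582192175933154)) (.node (.leaf 3557014850561060) (.leaf 2693572052964078))) (.node (.node (.leaf 4041346720128869) (.leaf 1652482923049888)) (.node (.leaf 3498783876099117) (.leaf 4035052769504293)))))) (.node (.node (.node (.node (.node (.leaf 452549311985704) (.leaf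 2662091014443746)) (.node (.leaf 1310826904005669) (.leaf 1065078391639972))) (.node (.node (.leaf 3154982919269231) (.leaf 1638049620415209)) (.node (.leaf 684628965477100) (.leaf 627132537836398)))) (.node (.node (.node (.leaf 1054589113996128) (.leaf 996154674090720)) (.node (.leaf 2430401322968811) (.leaf 1109733395054316))) (.node (.node (.leaf 3348708931775524) (.leaf 1084396223982624)) (.node (.leaf 598301652718317) (.leaf 358981044523747))))) (.node (.node (.node (.node (.leaf 1531101023260582) (.leaf 533873358877605)) (.node (.leaf 1584426517586978) (.leaf 1087995060769644))) (.node (.node (.leaf 358426999453733) (.leaf 662362618453870)) (.node (.leaf 2147586886931309) (.leaf 2078861300578344)))) (.node (.node (.node (.leaf 3052569451945839) (.leaf 582601646775200)) (.node (.leaf 569566786855976) (.leaf 1107664794020719))) (.node (.node (.leaf 1491724275632865) (.leaf 3512048905677867)) (.node (.leaf 657745455763374) (.leaf 1001402890932129)))))))) (.node (.node (.node (.node (.node (.node (.node (.leaf 484917037688736) (.leaf 2556826490301487)) (.node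 (.leaf 2530842223373356) (.leaf 2162416427263014))) (.node (.node (.leaf 4222313593582500) (.leaf 3274354765963108)) (.node (.leaf 250701188778723) (.leaf 2788956825539428)))) (.node (.node (.node (.leaf 2812597646698400) (.leaf 242332957064938)) (.node (.leaf 659374221961059) (.leaf 1273258253292397))) (.node (.node (.leaf 2395542643388453) (.leaf 4487797023902447)) (.node (.leaf 1541566356222887) (.leaf 2505348037102318))))) (.node (.node (.node (.node (.leaf 600339558721261) (.leaf 2933630946827173)) (.node (.leaf 3237556878839720) (.leaf 2089930655232929))) (.node (.node (.leaf 3841629229539183) (.leaf 3939703044591528)) (.node (.leaf 106051835508777) (.leaf 1251979486554979)))) (.node (.node (.node (.leaf 4011448750807970) (.leaf 840767635351400)) (.node (.leaf 4151259212621546) (.leaf 222358144396322))) (.node (.node (.leaf 4162428256106542) (.leaf 2935597731926757)) (.node (.leaf 3233384827719597) (.leaf 2123895771337442)))))) (.node (.node (.node (.node (.node (.leaf 1555496480597029) (.leaf 185602404406121)) (.node (.leaf 695988653652000) (.leaf 2892265157614508)))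 (.node (.node (.leaf 2646412934538989) (.leaf 2480115932271471)) (.node (.leaf 1717864287725294) (.leaf 1034029282142114)))) (.node (.node (.node (.leaf 2720796395317090) (.leaf 3115096586248035)) (.node (.leaf 1984881741571111) (.leaf 1868924110579564))) (.node (.node (.leaf 689621785747302) (.leaf 2642556844402537)) (.node (.leaf 656784418209511) (.leaf 3695744904719395))))) (.node (.node (.node (.node (.leaf 1315440620021481) (.leaf 3429380087929770)) (.node (.leaf 2926622849967854) (.leaf 828586446724969))) (.node (.node (.leaf 2448241031394214) (.leaf 1908053812567916)) (.node (.leaf 1135378955651809) (.leaf 737777184810849)))) (.node (.node (.node (.leaf 1007289785382946) (.leaf 421349253103341)) (.node (.leaf 2710123160621) (.leaf 2137690658624224))) (.node (.node (.leaf 1294269564217195) (.leaf 2254082991469477)) (.node (.leaf 3585015949642474) (.leaf 2179300795727587))))))) (.node (.node (.node (.node (.node (.node (.leaf 420271890085925) (.leaf 2759017623884518)) (.node (.leaf 1037712653347886) (.leaf 3531456301279141))) (.node (.node (.leaf 1043823573663456)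 (.leaf 2666024187505510)) (.node (.leaf 2962863495161772) (.leaf 3034447561151207)))) (.node (.node (.node (.leaf 4046233867528032) (.leaf 3616003893431012)) (.node (.leaf 2885593698489198) (.leaf 2815324458428332))) (.node (.node (.leaf 217568747916012) (.leaf 2284827508437929)) (.node (.leaf 2337240096962605) (.leaf 2486863861759719))))) (.node (.node (.node (.node (.leaf 153484285624040) (.leaf 1201043119182572)) (.node (.leaf 216058042476261) (.leaf 1086119291587304))) (.node (.node (.leaf 1183137218581355) (.leaf 3055065392567149)) (.node (.leaf 1747976048544483) (.leaf 2927380093787045)))) (.node (.node (.node (.leaf 4200748015432610) (.leaf 2563058133563435)) (.node (.leaf 3627591271764717) (.leaf 671446686650285))) (.node (.node (.leaf 3946808031423522) (.leaf 2413693278688100)) (.node (.leaf 86968604747685) (.leaf 938689836639978)))))) (.node (.node (.node (.node (.node (.leaf 1868529875887855) (.leaf 3728231846945824)) (.node (.leaf 822415695685350) (.leaf 2029826669684578))) (.node (.node (.leaf 1011660378492843) (.leaf 555031730164454)) (.node (.leaf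 359087560943335) (.leaf 3611207083615277)))) (.node (.node (.node (.leaf 1010537957117858) (.leaf 3480650829337454)) (.node (.leaf 3185677041512484) (.leaf 3296912724043693))) (.node (.node (.leaf 1994502347950830) (.leaf 1805105915389800)) (.node (.leaf 1626981919222823) (.leaf 4033787064662057))))) (.node (.node (.node (.node (.leaf 3374932639502249) (.leaf 227032174360609)) (.node (.leaf 1395824515249060) (.leaf 2986741366778733))) (.node (.node (.leaf 1818278948151151) (.leaf 4132923606567661)) (.node (.leaf 3056495154291757) (.leaf 2284911768495151)))) (.node (.node (.node (.leaf 869046524736423) (.leaf 3375990751376292)) (.node (.leaf 2500138529984425) (.leaf 1907817178539885))) (.node (.node (.leaf 4246638211699557) (.leaf 872169230119855)) (.node (.leaf 1351762060312291) (.leaf 1768889825279720)))))))))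

def walkZ7 : Janko.Tree ℕ :=
  (.node (.node (.node (.node (.node (.node (.node (.node (.leaf 2746335513012137) (.leaf 2329738623257322)) (.node (.leaf 1931832860223329) (.leaf 1332759708692522))) (.node (.node (.leaf 666476211071843) (.leaf 84636352407279)) (.node (.leaf 3360188005134377) (.leaf 3795645357553699)))) (.node (.node (.node (.leaf 3415475234389734) (.leaf 2708525527973600)) (.node (.leaf 2794803589434088) (.leaf 2509372996116326))) (.node (.node (.leaf 278152440836134) (.leaf 2983637763216100)) (.node (.leaf 99907607902247) (.leaf 2946108959893344))))) (.node (.node (.node (.node (.leaf 1105064844967650) (.leaf 3005865625295791)) (.node (.leaf 644140096026668) (.leaf 4404432781698987))) (.node (.node (.leaf 1731579835250726) (.leaf 3573622933443432)) (.node (.leaf 430484703219621) (.leaf 3913176406671078)))) (.node (.node (.node (.leaf 645716050240545) (.leaf 3087565540665263)) (.node (.leaf 2002678472551274) (.leaf 2345483389457254))) (.node (.node (.leaf 4081008622572386) (.leaf 2018869031539557)) (.node (.leaf 140856330291943) (.leaf 943022332709600))))))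 (.node (.node (.node (.node (.node (.leaf 405972411323108) (.leaf 692338414637802)) (.node (.leaf 985656771892075) (.leaf 2130260665111398))) (.node (.node (.leaf 4038474159974245) (.leaf 631526565328932)) (.node (.leaf 527756607092773) (.leaf 2330485535942371)))) (.node (.node (.node (.leaf 729428567221987) (.leaf 851548435370731)) (.node (.leaf 1050847660315375) (.leaf 1607969438821410))) (.node (.node (.leaf 1324487821796388) (.leaf 4434234379642785)) (.node (.leaf 471684097444583) (.leaf 4415021272050735))))) (.node (.node (.node (.node (.leaf 2441567494466412) (.leaf 4020946102390697)) (.node (.leaf 4414959511449635) (.leaf 1504802401613857))) (.node (.node (.leaf 3799853969057504) (.leaf 636634671606636)) (.node (.leaf 1534869209573092) (.leaf 3741013620137827)))) (.node (.node (.node (.leaf 2695482871910318) (.leaf 758971234406315)) (.node (.leaf 611606372522918) (.leaf 2079522138205223))) (.node (.node (.leaf 4142929487396578) (.leaf 1230046488996708)) (.node (.leaf 1074459049392173) (.leaf 2513533396971566))))))) (.node (.node (.node (.node (.node (.node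 (.leaf 1334653507581989) (.leaf 2884622849216419)) (.node (.leaf 3173531416277923) (.leaf 3863821450063915))) (.node (.node (.leaf 4035604293948269) (.leaf 202067829562275)) (.node (.leaf 1333913761653792) (.leaf 4017970609498026)))) (.node (.node (.node (.leaf 933125984504547) (.leaf 1267587313737583)) (.node (.leaf 2220534643451755) (.leaf 4015523896243114))) (.node (.node (.leaf 3477480543465512) (.leaf 3860255588604842)) (.node (.leaf 3791420093240170) (.leaf 2685707456932706))))) (.node (.node (.node (.node (.leaf 1313750173143791) (.leaf 124346424539180)) (.node (.leaf 109659055517743) (.leaf 3225650249061095))) (.node (.node (.leaf 1280580009434983) (.leaf 1066636850898659)) (.node (.leaf 257808596316198) (.leaf 4335486168354730)))) (.node (.node (.node (.leaf 4116761632991083) (.leaf 2038550637962281)) (.node (.leaf 2113127641885733) (.leaf 4141160917892842))) (.node (.node (.leaf 1512181228560227) (.leaf 1106427796709223)) (.node (.leaf 1855178306774765) (.leaf 3473162317982753)))))) (.node (.node (.node (.node (.node (.leaf 3753257999331370) (.leaf 2260043710483182))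 (.node (.leaf 3669463105514345) (.leaf 2180630416121696))) (.node (.node (.leaf 1730959599396770) (.leaf 1993418904102823)) (.node (.leaf 3312460099236777) (.leaf 3070616622704556)))) (.node (.node (.node (.leaf 1051271880959910) (.leaf 3482569440044778)) (.node (.leaf 872740908650406) (.leaf 4451386539954917))) (.node (.node (.leaf 1317970022360107) (.leaf 1336771622005615)) (.node (.leaf 515202474163938) (.leaf 199962116377323))))) (.node (.node (.node (.node (.leaf 3192031174300398) (.leaf 4058588171293550)) (.node (.leaf 824160077852705) (.leaf 3950318692181928))) (.node (.node (.leaf 1759026580269925) (.leaf 3037522965440353)) (.node (.leaf 2483502433855337) (.leaf 2373964449508398)))) (.node (.node (.node (.leaf 3503764263902115) (.leaf 2267272165975983)) (.node (.leaf 2764236472827617) (.leaf 3652186677972904))) (.node (.node (.leaf 380407247955816) (.leaf 3195961549256745)) (.node (.leaf 806806172021667) (.leaf 2083188890205924)))))))) (.node (.node (.node (.node (.node (.node (.node (.leaf 4089261309962083) (.leaf 4226858415367919)) (.node (.leaf 673229922411552)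 (.leaf 1748606502416423))) (.node (.node (.leaf 4136819230921578) (.leaf 229853630452577)) (.node (.leaf 1223234779456552) (.leaf 3224586194560038)))) (.node (.node (.node (.leaf 3186922140821351) (.leaf 4138324468279209)) (.node (.leaf 4271705908143972) (.leaf 4170057580849061))) (.node (.node (.leaf 3171219235847918) (.leaf 370336207808237)) (.node (.leaf 127676867810154) (.leaf 2542392368047971))))) (.node (.node (.node (.node (.leaf 4374838184708832) (.leaf 3794588896880363)) (.node (.leaf 2703608554101668) (.leaf 4191723419210593))) (.node (.node (.leaf 736199789109099) (.leaf 2170501998173092)) (.node (.leaf 580613458684968) (.leaf 4103533274178602)))) (.node (.node (.node (.leaf 1266753926114149) (.leaf 2510399473726375)) (.node (.leaf 1909019509241894) (.leaf 4190911706473508))) (.node (.node (.leaf 227122695367534) (.leaf 1154616747163360)) (.node (.leaf 4320896429028271) (.leaf 3716341667706914)))))) (.node (.node (.node (.node (.node (.leaf 2805549625769708) (.leaf 2028348945523744)) (.node (.leaf 4076220292391978) (.leaf 363458661754787))) (.node (.node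 (.leaf 1245282732804845) (.leaf 2753001868692194)) (.node (.leaf 3065119289855907) (.leaf 279521798219622)))) (.node (.node (.node (.leaf 3268340813196142) (.leaf 3008812918945825)) (.node (.leaf 3073746266376928) (.leaf 816619552627631))) (.node (.node (.leaf 2686233188919144) (.leaf 3342333165805415)) (.node (.leaf 2625737520361516) (.leaf 2704793892431589))))) (.node (.node (.node (.node (.leaf 3955593806155686) (.leaf 3083286947015524)) (.node (.leaf 3007050095514341) (.leaf 3647690030027489))) (.node (.node (.leaf 1148637885387626) (.leaf 92314276341603)) (.node (.leaf 1072275364167402) (.leaf 1004750655762474)))) (.node (.node (.node (.leaf 3923456297133101) (.leaf 3783715129447142)) (.node (.leaf 3810255752458277) (.leaf 4143908934097832))) (.node (.node (.leaf 741210589294626) (.leaf 2932734523495264)) (.node (.leaf 2510179102554147) (.leaf 3044855778223145))))))) (.node (.node (.node (.node (.node (.node (.leaf 1801951192797928) (.leaf 675000191961834)) (.node (.leaf 3919054505631595) (.leaf 2359540521062306))) (.node (.node (.leaf 700511159284643) (.leaf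 838759454675814)) (.node (.leaf 2669799974480930) (.leaf 2461310460103395)))) (.node (.node (.node (.leaf 2255502048943972) (.leaf 138834848)) (.node (.leaf 2821473974658085) (.leaf 1178073364948910))) (.node (.node (.leaf 4309651563095905) (.leaf 835043579964267)) (.node (.leaf 996341385291499) (.leaf 3730555461948142))))) (.node (.node (.node (.node (.leaf 4019534403261163) (.leaf 660265840204707)) (.node (.leaf 3312698278170538) (.leaf 2952098120102829))) (.node (.node (.leaf 2480614992309090) (.leaf 3015661047763687)) (.node (.leaf 2693770967937953) (.leaf 2721833141993187)))) (.node (.node (.node (.leaf 1766423108146024) (.leaf 2892316871863331)) (.node (.leaf 1679208263949220) (.leaf 2928283568810856))) (.node (.node (.leaf 1111995647307822) (.leaf 2540527130699685)) (.node (.leaf 1504133496481699) (.leaf 589960695377955)))))) (.node (.node (.node (.node (.node (.leaf 3216682021540586) (.leaf 2380533764898538)) (.node (.leaf 684903938795236) (.leaf 3318937044446048))) (.node (.node (.leaf 363781229027180) (.leaf 3397385354599342)) (.node (.leaf 1243963284105130)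 (.leaf 3356286813593448)))) (.node (.node (.node (.leaf 1733148049887139) (.leaf 1882122924121007)) (.node (.leaf 414469493820129) (.leaf 2268095287650223))) (.node (.node (.leaf 4128996818383791) (.leaf 3229102080171885)) (.node (.leaf 1509865793398499) (.leaf 1853364114292463))))) (.node (.node (.node (.node (.leaf 258679346470766) (.leaf 3858282835972840)) (.node (.leaf 549994387732527) (.leaf 2522143297956905))) (.node (.node (.leaf 1624911572541289) (.leaf 3846765575284454)) (.node (.leaf 551471520218849) (.leaf 1647835245505576)))) (.node (.node (.node (.leaf 2103578198700975) (.leaf 2190595864655913)) (.node (.leaf 3193825871082410) (.leaf 1293445094336360))) (.node (.node (.leaf 1962207806088239) (.leaf 3266727546808165)) (.node (.leaf 681838503454630) (.leaf 4066200176349923)))))))))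

/-- The inverses of the two-group elements applied to a translate of the marked vector. -/
def walkZ : Janko.Tree ℕ :=
  .node (.node (.node walkZ0 walkZ4) (.node walkZ2 walkZ6)) (.node (.node walkZ1 walkZ5) (.node walkZ3 walkZ7))

def walkP0 : Janko.Tree ℕ :=
  (.node (.node (.node (.node (.node (.node (.node (.node (.leaf 137777121664) (.leaf 3579994983480718)) (.node (.leaf 2550898474125707) (.leaf 2938314066080129))) (.node (.node (.leaf 2020130416846728) (.leaf 115792947100557)) (.node (.leaf 1943304998556047) (.leaf 3687712866347394)))) (.node (.node (.node (.leaf 4225311317165952) (.leaf 1252234329696139)) (.node (.leaf 4261590096865159) (.leaf 3640040572386699))) (.node (.node (.leaf 4309416773753737) (.leaf 1953815990939527)) (.node (.leaf 3141933978934155) (.leaf 407755118238593))))) (.node (.node (.node (.node (.leaf 4443352913091469) (.leaf 4000433121683844)) (.node (.leaf 1626720291653508) (.leaf 3980551001000322))) (.node (.node (.leaf 2097767713230723) (.leaf 3980165665465742)) (.node (.leaf 1384406810268033) (.leaf 1713369847714185)))) (.node (.node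 (.node (.leaf 637138538167182) (.leaf 1146746346489741)) (.node (.leaf 2410292425985930) (.leaf 2526089971083149))) (.node (.node (.leaf 3838543170826631) (.leaf 2769897425949057)) (.node (.leaf 1278295057243535) (.leaf 3438591000998275)))))) (.node (.node (.node (.node (.node (.leaf 2090802878755726) (.leaf 4082506616342927)) (.node (.leaf 1808673666082703) (.leaf 399217506305927))) (.node (.node (.leaf 4024502055151503) (.leaf 3434670690092423)) (.node (.leaf 1964234814394243) (.leaf 3323986924791689)))) (.node (.node (.node (.leaf 3519529466302336) (.leaf 152345854754189)) (.node (.leaf 2571477805666698) (.leaf 577997436479369))) (.node (.node (.leaf 1506036638502794) (.leaf 1939688535798158)) (.node (.leaf 3460131234842507) (.leaf 2697181834711434))))) (.node (.node (.node (.node (.leaf 1506220333312397) (.leaf 3660773032069508)) (.node (.leaf 2564354908301197) (.leaf 3572326077576079))) (.node (.node (.leaf 1816539630323087) (.leaf 3005220950406)) (.node (.leaf 2573012740261257) (.leaf 872941921489284)))) (.node (.node (.node (.leaf 4227334232677763) (.leaf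 1366910994103175)) (.node (.leaf 4075524769296771) (.leaf 3132211092929931))) (.node (.node (.leaf 3763077273421711) (.leaf 3272758497156)) (.node (.leaf 1112300394501003) (.leaf 815514390461833))))))) (.node (.node (.node (.node (.node (.node (.leaf 3025851216357249) (.leaf 2531259251703176)) (.node (.leaf 2632634822732160) (.leaf 3526685410963844))) (.node (.node (.leaf 1746127530109324) (.leaf 3286905137049478)) (.node (.leaf 549090331046273) (.leaf 3641171300436363)))) (.node (.node (.node (.leaf 774168446360448) (.leaf 1844791519095183)) (.node (.leaf 1760072478946187) (.leaf 173887226685317))) (.node (.node (.leaf 1448447412272001) (.leaf 1821386962208138)) (.node (.leaf 1138070705188742) (.leaf 1967570314143114))))) (.node (.node (.node (.node (.leaf 2292905002001797) (.leaf 3189766739249543)) (.node (.leaf 1616116650619789) (.leaf 688804917447052))) (.node (.node (.leaf 4493629618251139) (.leaf 3795222951626113)) (.node (.leaf 684204112908170) (.leaf 1695667581685646)))) (.node (.node (.node (.leaf 2497436675412874) (.leaf 2389143936657805)) (.node (.leaf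 2157340931884428) (.leaf 2578638703014791))) (.node (.node (.leaf 4292827830113162) (.leaf 3747885145185162)) (.node (.leaf 743929769822606) (.leaf 2237674786790798)))))) (.node (.node (.node (.node (.node (.leaf 3852743614258565) (.leaf 3364874137577859)) (.node (.leaf 3844007283312513) (.leaf 2049695898134409))) (.node (.node (.leaf 1956233840243077) (.leaf 255901755259780)) (.node (.leaf 3224865123526027) (.leaf 444677071766920)))) (.node (.node (.node (.leaf 280120604422021) (.leaf 1971116080414082)) (.node (.leaf 145226410927488) (.leaf 2290942466175877))) (.node (.node (.leaf 1664315096674691) (.leaf 2236551739808650)) (.node (.leaf 369291908955521) (.leaf 1397189807436171))))) (.node (.node (.node (.node (.leaf 2549019174184843) (.leaf 1988705734879119)) (.node (.leaf 3859921238695297) (.leaf 1066594727916429))) (.node (.node (.leaf 4285114844360577) (.leaf 402121046618507)) (.node (.leaf 3789300250658179) (.leaf 2765663124902286)))) (.node (.node (.node (.leaf 2001365902240130) (.leaf 3123733848278410)) (.node (.leaf 370118131293060) (.leaf 4199872779945860)))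 (.node (.node (.leaf 838228431562634) (.leaf 1822892685466506)) (.node (.leaf 536033559548810) (.leaf 2589752450691971)))))))) (.node (.node (.node (.node (.node (.node (.node (.leaf 3471061352252810) (.leaf 2781321258977162)) (.node (.leaf 4049705804360067) (.leaf 1770615319187848))) (.node (.node (.leaf 912124459100039) (.leaf 1988374292448642)) (.node (.leaf 2676337322247564) (.leaf 3332364244196751)))) (.node (.node (.node (.leaf 2641451219690886) (.leaf 2631427460668811)) (.node (.leaf 2601964309555083) (.leaf 3803836574293386))) (.node (.node (.leaf 3044664606748552) (.leaf 2908248854918)) (.node (.leaf 3970497632779142) (.leaf 1493120166777221))))) (.node (.node (.node (.node (.leaf 2489246860510600) (.leaf 166546243012489)) (.node (.leaf 2865302218249088) (.leaf 2427462078296964))) (.node (.node (.leaf 2289608849486216) (.leaf 3858763347513216)) (.node (.leaf 1986054871822726) (.leaf 867451141132676)))) (.node (.node (.node (.leaf 357692709569925) (.leaf 1980490636956557)) (.node (.leaf 247993892701580) (.leaf 3997508161079687))) (.node (.node (.leaf 3792275841099655)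 (.leaf 1146851803533190)) (.node (.leaf 3136627856247169) (.leaf 2505494671520640)))))) (.node (.node (.node (.node (.node (.leaf 3930255595653004) (.leaf 2056437512071565)) (.node (.leaf 191949842295178) (.leaf 2415476150326155))) (.node (.node (.leaf 4257825438694785) (.leaf 1104758657535877)) (.node (.leaf 4440261046420870) (.leaf 4056482485874569)))) (.node (.node (.node (.leaf 413499941589383) (.leaf 2726204873063812)) (.node (.leaf 2877341896126351) (.leaf 1423806149827978))) (.node (.node (.leaf 1941010949509507) (.leaf 111828976059787)) (.node (.leaf 3122484088255361) (.leaf 1313505171263882))))) (.node (.node (.node (.node (.leaf 1181235207195019) (.leaf 3129797679313800)) (.node (.leaf 3354544207885196) (.leaf 2611014158707083))) (.node (.node (.leaf 3080190756081548) (.leaf 4348482328066947)) (.node (.leaf 2814447894207374) (.leaf 420673053099404)))) (.node (.node (.node (.leaf 1267499757518215) (.leaf 508604312211334)) (.node (.leaf 2822231820756364) (.leaf 2468131030023567))) (.node (.node (.leaf 2635790792577924) (.leaf 4336390022057865)) (.node (.leaf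 143780590706060) (.leaf 3223314195662728))))))) (.node (.node (.node (.node (.node (.node (.leaf 1397932968311693) (.leaf 1830917108937609)) (.node (.leaf 3383482448251279) (.leaf 1736034574787975))) (.node (.node (.leaf 1843757765699968) (.leaf 981970544278409)) (.node (.leaf 4473133169897352) (.leaf 943672126772103)))) (.node (.node (.node (.leaf 3594890993051022) (.leaf 747498715670922)) (.node (.leaf 2844501259366793) (.leaf 2158464027903879))) (.node (.node (.leaf 448842480742284) (.leaf 361290218713477)) (.node (.leaf 2115539061037956) (.leaf 631590547610497))))) (.node (.node (.node (.node (.leaf 1300376752531840) (.leaf 2826941096945542)) (.node (.leaf 3171035621367180) (.leaf 465356140112268))) (.node (.node (.leaf 1557927779566990) (.leaf 2251701075106697)) (.node (.leaf 2694452178818) (.leaf 1671681774456711)))) (.node (.node (.node (.leaf 1962175050953614) (.leaf 2048521413243272)) (.node (.leaf 2694996807665038) (.leaf 856822082859918))) (.node (.node (.leaf 1856560982954884) (.leaf 4332230233362829)) (.node (.leaf 4370513051177863) (.leaf 1520238535496587))))))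 (.node (.node (.node (.node (.node (.leaf 4006002595145098) (.leaf 3527631403174278)) (.node (.leaf 2226411547691402) (.leaf 650539434502027))) (.node (.node (.leaf 2079759762534275) (.leaf 631653863412110)) (.node (.leaf 2237604764717447) (.leaf 276226155442053)))) (.node (.node (.node (.leaf 2106664180576644) (.leaf 2917202750163334)) (.node (.leaf 2952960994849160) (.leaf 1939107368686471))) (.node (.node (.leaf 3193111071617409) (.leaf 607979819209096)) (.node (.leaf 2302633619089797) (.leaf 660326133572994))))) (.node (.node (.node (.node (.leaf 4103470792419725) (.leaf 2893782829909894)) (.node (.leaf 3746516894500738) (.leaf 1086039371131279))) (.node (.node (.leaf 1143421003553678) (.leaf 3322192245073282)) (.node (.leaf 614546488217992) (.leaf 1565753575187848)))) (.node (.node (.node (.leaf 3777665556249999) (.leaf 2392993874653058)) (.node (.leaf 1680727437045635) (.leaf 579076395938701))) (.node (.node (.leaf 839757175621504) (.leaf 2430392979725197)) (.node (.leaf 4189092989230464) (.leaf 2921469628000129)))))))))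

def walkP1 : Janko.Tree ℕ :=
  (.node (.node (.node (.node (.node (.node (.node (.node (.leaf 137776599424) (.leaf 1174731324464512)) (.node (.leaf 3846397804371342) (.leaf 2541376375973252))) (.node (.node (.leaf 780848900013454) (.leaf 2702606192922508)) (.node (.leaf 3614019414115712) (.leaf 2837818764749199)))) (.node (.node (.node (.leaf 3333682360718222) (.leaf 1073622390032783)) (.node (.leaf 147587911810433) (.leaf 712330332506505))) (.node (.node (.leaf 3264190632751490) (.leaf 2576671284864396)) (.node (.leaf 1031396447716744) (.leaf 1092542701358983))))) (.node (.node (.node (.node (.leaf 2295939094212999) (.leaf 1938375863696773)) (.node (.leaf 3128769470534528) (.leaf 1687271515299206))) (.node (.node (.leaf 1453183295943050) (.leaf 1474186176710019)) (.node (.leaf 4328154677956493) (.leaf 623291890457485)))) (.node (.node (.node (.leaf 1302050392732044) (.leaf 826307296564110)) (.node (.leaf 3170564023797130) (.leaf 1382853984796044))) (.node (.node (.leaf 3449038907442568) (.leaf 4221428718803855)) (.node (.leaf 4492449186285953) (.leaf 2450943530064777))))))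 (.node (.node (.node (.node (.node (.leaf 1775810648369024) (.leaf 2742743481004929)) (.node (.leaf 2370965766864266) (.leaf 1678679879209861))) (.node (.node (.leaf 3213323418407822) (.leaf 178872941408650)) (.node (.leaf 2089619107590030) (.leaf 1935161890078080)))) (.node (.node (.node (.leaf 1939633575025539) (.leaf 2105078203538817)) (.node (.leaf 3458610562186116) (.leaf 2830291054121857))) (.node (.node (.leaf 3341962705175948) (.leaf 3388423395815297)) (.node (.leaf 143869636025733) (.leaf 1553497520801164))))) (.node (.node (.node (.node (.leaf 3445524718244750) (.leaf 4142701106784138)) (.node (.leaf 1334103774166411) (.leaf 3787391918508421))) (.node (.node (.leaf 3110714257985409) (.leaf 2594305447006080)) (.node (.leaf 3115858014925188) (.leaf 3903711360908174)))) (.node (.node (.node (.leaf 2306072705272206) (.leaf 633650720878977)) (.node (.leaf 1698498187847040) (.leaf 613577176172423))) (.node (.node (.leaf 1902961603553157) (.leaf 2777093634756486)) (.node (.leaf 4337888965833612) (.leaf 2123581435938692))))))) (.node (.node (.node (.node (.node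 (.node (.leaf 4317908039824265) (.leaf 1065019213230984)) (.node (.leaf 591954742282127) (.leaf 2826853729185672))) (.node (.node (.leaf 4328561257383810) (.leaf 3407419285885325)) (.node (.leaf 3165805837430671) (.leaf 3321051717186442)))) (.node (.node (.node (.leaf 432036843868037) (.leaf 2213603703072649)) (.node (.leaf 4315640812777354) (.leaf 2718014514710405))) (.node (.node (.leaf 2279986481885066) (.leaf 2139367051399558)) (.node (.leaf 1134033802689418) (.leaf 649721154211717))))) (.node (.node (.node (.node (.leaf 3447993204404613) (.leaf 4122492883954055)) (.node (.leaf 1962335147837826) (.leaf 3261694748939139))) (.node (.node (.leaf 2163652981507459) (.leaf 2691256597478276)) (.node (.leaf 1787829883834763) (.leaf 1692739635160450)))) (.node (.node (.node (.leaf 1381431102941580) (.leaf 4327744635062149)) (.node (.leaf 567258094861194) (.leaf 1233435170195850))) (.node (.node (.leaf 1486373754988936) (.leaf 3591244393222020)) (.node (.leaf 3294625828333952) (.leaf 4093144029541255)))))) (.node (.node (.node (.node (.node (.leaf 4170483723539329) (.leaf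 3479675163614606)) (.node (.leaf 1618663239493507) (.leaf 4406106518606724))) (.node (.node (.leaf 394439971620233) (.leaf 1032771948515716)) (.node (.leaf 165841618131848) (.leaf 2408759647580555)))) (.node (.node (.node (.leaf 1007514168878472) (.leaf 3985898474121603)) (.node (.leaf 3324051621810561) (.leaf 514555803546500))) (.node (.node (.leaf 3148453322387335) (.leaf 3843058070401412)) (.node (.leaf 2317247513179009) (.leaf 908123198072194))))) (.node (.node (.node (.node (.leaf 4187759753919886) (.leaf 3883445940608392)) (.node (.leaf 2391367062896013) (.leaf 1479396736076164))) (.node (.node (.leaf 2941179664978313) (.leaf 1266637934612877)) (.node (.leaf 598299534597005) (.leaf 137441137024)))) (.node (.node (.node (.leaf 4280407391182223) (.leaf 2936708503007631)) (.node (.leaf 4062556135886720) (.leaf 1218319749998982))) (.node (.node (.leaf 1989152629814146) (.leaf 1800564773723011)) (.node (.leaf 154129819765126) (.leaf 516025316493696)))))))) (.node (.node (.node (.node (.node (.node (.node (.leaf 4237555195679116) (.leaf 1289402723097985)) (.node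 (.leaf 3242597294663563) (.leaf 3285538416794505))) (.node (.node (.leaf 3420121046220163) (.leaf 1577446107074446)) (.node (.leaf 135870478389121) (.leaf 3987421805870472)))) (.node (.node (.node (.leaf 2741691716693890) (.leaf 2468723006985098)) (.node (.leaf 4224583725546893) (.leaf 4376311441232781))) (.node (.node (.leaf 2483503306125194) (.leaf 171007192931215)) (.node (.leaf 1971067174230918) (.leaf 1569203330518927))))) (.node (.node (.node (.node (.leaf 2483869406307720) (.leaf 599651772363655)) (.node (.leaf 3755590722251138) (.leaf 2010738947066252))) (.node (.node (.leaf 763491264963978) (.leaf 3942456374565762)) (.node (.leaf 2396663895647622) (.leaf 2754294782545800)))) (.node (.node (.node (.leaf 1879533630760843) (.leaf 1380167693993867)) (.node (.leaf 2466521572258177) (.leaf 4093179060414345))) (.node (.node (.leaf 1283736740612481) (.leaf 3340863935828355)) (.node (.leaf 1660075238582156) (.leaf 407762733831052)))))) (.node (.node (.node (.node (.node (.leaf 1304682338082180) (.leaf 2075935026101639)) (.node (.leaf 1119414613321607) (.leaf 354948712002447)))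 (.node (.node (.leaf 2408872246369670) (.leaf 4096920184126346)) (.node (.leaf 3774031857335172) (.leaf 3575474867154828)))) (.node (.node (.node (.leaf 811334558541191) (.leaf 4379526768213389)) (.node (.leaf 1286046146681742) (.leaf 186288265483144))) (.node (.node (.leaf 4178719029740940) (.leaf 2896539193785225)) (.node (.leaf 1879905846184332) (.leaf 2024789635521413))))) (.node (.node (.node (.node (.leaf 4023381068523395) (.leaf 1331915884300171)) (.node (.leaf 1812935926322056) (.leaf 3887189643547526))) (.node (.node (.leaf 2178178570984332) (.leaf 1125486296401290)) (.node (.leaf 2233331355808134) (.leaf 2041488822824837)))) (.node (.node (.node (.leaf 4346187396395910) (.leaf 1344757089740160)) (.node (.leaf 1675733054913413) (.leaf 1461916415674254))) (.node (.node (.leaf 3178027565778829) (.leaf 3171415996040590)) (.node (.leaf 3270681112679305) (.leaf 1751496036162954))))))) (.node (.node (.node (.node (.node (.node (.leaf 807671437127558) (.leaf 1912911600470405)) (.node (.leaf 3470190927429006) (.leaf 3788170710629769))) (.node (.node (.leaf 2875303384896386)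 (.leaf 157029133613954)) (.node (.leaf 1266687041384841) (.leaf 1849368540735878)))) (.node (.node (.node (.leaf 1535371152527759) (.leaf 2725170295089025)) (.node (.leaf 3563548326351233) (.leaf 4087625754295687))) (.node (.node (.leaf 1972695490870146) (.leaf 470034579657102)) (.node (.leaf 3691344742606216) (.leaf 1043529224633224))))) (.node (.node (.node (.node (.leaf 2475495469942669) (.leaf 223473356873098)) (.node (.leaf 82126802642829) (.leaf 1199800295008135))) (.node (.node (.leaf 555692216149377) (.leaf 629166255321476)) (.node (.leaf 3097368671045004) (.leaf 951395761079687)))) (.node (.node (.node (.leaf 4433235763685248) (.leaf 2317920799240069)) (.node (.leaf 4380066242673548) (.leaf 1223830519982468))) (.node (.node (.leaf 2364779170408833) (.leaf 1516053806706573)) (.node (.leaf 2360471430793092) (.leaf 626884575152516)))))) (.node (.node (.node (.node (.node (.leaf 580882381347727) (.leaf 634933952317833)) (.node (.leaf 1440833644150152) (.leaf 3438385962668938))) (.node (.node (.leaf 1846800493186949) (.leaf 1812872438774661)) (.node (.leaf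 3792153530852743) (.leaf 4433299707435912)))) (.node (.node (.node (.leaf 3637461646864270) (.leaf 523156668360589)) (.node (.leaf 1988882692556164) (.leaf 3405041069401999))) (.node (.node (.leaf 4336369595740040) (.leaf 3109165935423874)) (.node (.leaf 3938352674654606) (.leaf 709426543505285))))) (.node (.node (.node (.node (.leaf 4467517377420672) (.leaf 3569266249200523)) (.node (.leaf 1287037670402443) (.leaf 3039739700346245))) (.node (.node (.leaf 3619056718786947) (.leaf 1679182281491855)) (.node (.leaf 255878290444162) (.leaf 1756030445258120)))) (.node (.node (.node (.leaf 2509590442963848) (.leaf 2089945034002308)) (.node (.leaf 3631852063625613) (.leaf 2056946870558086))) (.node (.node (.leaf 2384702271659407) (.leaf 1972943210797954)) (.node (.leaf 2534486422841728) (.leaf 514642328048010)))))))))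

def walkP2 : Janko.Tree ℕ :=
  (.node (.node (.node (.node (.node (.node (.node (.node (.leaf 2882177731350414) (.leaf 161187512224141)) (.node (.leaf 182598552884107) (.leaf 223587325833614))) (.node (.node (.leaf 3531999891485578) (.leaf 3474462013944199)) (.node (.leaf 3983182124535683) (.leaf 137450047872)))) (.node (.node (.node (.leaf 599134564312961) (.leaf 4285688382818698)) (.node (.leaf 3841402893333381) (.leaf 1541363852563329))) (.node (.node (.leaf 3953130098121604) (.leaf 1163372978983303)) (.node (.leaf 3757404424264578) (.leaf 3054023770438536))))) (.node (.node (.node (.node (.leaf 3939214100189579) (.leaf 3227023328307590)) (.node (.leaf 4436314664282500) (.leaf 811574263507339))) (.node (.node (.leaf 4098200351199631) (.leaf 512219779152768)) (.node (.leaf 2436588373670785) (.leaf 576785354273154)))) (.node (.node (.node (.leaf 3828502308122503) (.leaf 589253149017999)) (.node (.leaf 1688260537492870) (.leaf 3150666045122952))) (.node (.node (.leaf 1130582296203662) (.leaf 2483829954867591)) (.node (.leaf 4380049036273551) (.leaf 101371968180609))))))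 (.node (.node (.node (.node (.node (.leaf 2242387259637123) (.leaf 1033928694185358)) (.node (.leaf 1755276326196104) (.leaf 3754225899538310))) (.node (.node (.leaf 715761410983823) (.leaf 2586019835094408)) (.node (.leaf 2479379949146501) (.leaf 505705851668356)))) (.node (.node (.node (.leaf 3760130825269644) (.leaf 2855975176639364)) (.node (.leaf 3886442375773070) (.leaf 1990348039645067))) (.node (.node (.leaf 3981467788655490) (.leaf 2647907989491598)) (.node (.leaf 672657824115081) (.leaf 614530387934087))))) (.node (.node (.node (.node (.leaf 2136822266660749) (.leaf 418359986726793)) (.node (.leaf 2758635288430987) (.leaf 3987389488356744))) (.node (.node (.leaf 1101901348739970) (.leaf 1288066990196098)) (.node (.leaf 1719142426518918) (.leaf 2596667452871050)))) (.node (.node (.node (.leaf 1119729697875841) (.leaf 3193168004362125)) (.node (.leaf 4186521032612738) (.leaf 3933413691096450))) (.node (.node (.leaf 3114303248970639) (.leaf 2336959727256966)) (.node (.leaf 2901124292175746) (.leaf 2637001578850185))))))) (.node (.node (.node (.node (.node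 (.node (.leaf 1091607078898049) (.leaf 597548358387595)) (.node (.leaf 3480080368953729) (.leaf 3910590068426113))) (.node (.node (.leaf 87132989731724) (.leaf 2197958265447812)) (.node (.leaf 2339011846724480) (.leaf 2964524452276109)))) (.node (.node (.node (.leaf 4154242489156995) (.leaf 648522628712844)) (.node (.leaf 3229645763509125) (.leaf 914899917045131))) (.node (.node (.leaf 900312176745353) (.leaf 2837070630613391)) (.node (.leaf 778529933414796) (.leaf 2103886762619274))))) (.node (.node (.node (.node (.leaf 2484881026254218) (.leaf 2259745258391941)) (.node (.leaf 1133485173966731) (.leaf 2753093164992384))) (.node (.node (.leaf 1054858832493441) (.leaf 2987075456293772)) (.node (.leaf 153896570307972) (.leaf 2353163527393665)))) (.node (.node (.node (.leaf 1543300725906817) (.leaf 571384302708615)) (.node (.leaf 3486953542114179) (.leaf 1135249478341513))) (.node (.node (.leaf 2214037394344323) (.leaf 2864211337695111)) (.node (.leaf 605323323230088) (.leaf 2285119128324490)))))) (.node (.node (.node (.node (.node (.leaf 900248279410574) (.leaf 2704294978092424))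 (.node (.leaf 2218170905957249) (.leaf 149092997949831))) (.node (.node (.leaf 2101331542167949) (.leaf 4043826884443016)) (.node (.leaf 2748227503919491) (.leaf 4252463924487562)))) (.node (.node (.node (.leaf 718166567063435) (.leaf 4230525193856899)) (.node (.leaf 3279448440882573) (.leaf 4341392686696841))) (.node (.node (.leaf 842646480676233) (.leaf 2377581474864005)) (.node (.leaf 275937755457413) (.leaf 3997984699805569))))) (.node (.node (.node (.node (.leaf 2600056008564104) (.leaf 249405519997319)) (.node (.leaf 4261508408781198) (.leaf 1840997225416587))) (.node (.node (.leaf 2963503730651535) (.leaf 1677846298830222)) (.node (.leaf 139456465776516) (.leaf 845981857960322)))) (.node (.node (.node (.leaf 1173000059925385) (.leaf 2469158262575495)) (.node (.leaf 3791330788061060) (.leaf 1170833768985485))) (.node (.node (.leaf 1728541069314442) (.leaf 1480346095169927)) (.node (.leaf 3005957427513731) (.leaf 101500817656203)))))))) (.node (.node (.node (.node (.node (.node (.node (.leaf 1962178820951937) (.leaf 1253505734966663)) (.node (.leaf 2533976905334153)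 (.leaf 1671130253726089))) (.node (.node (.leaf 160861679934855) (.leaf 3052035937087364)) (.node (.leaf 2255363464155018) (.leaf 3323962311097733)))) (.node (.node (.node (.leaf 2330901916236685) (.leaf 434806184150927)) (.node (.leaf 1069021504658824) (.leaf 3611522988162433))) (.node (.node (.leaf 2032989496048519) (.leaf 222820958908288)) (.node (.leaf 2290253648327054) (.leaf 416160464250240))))) (.node (.node (.node (.node (.leaf 1254639239994255) (.leaf 3468749913008011)) (.node (.leaf 1222040898324361) (.leaf 3888822157335939))) (.node (.node (.leaf 3550072564625805) (.leaf 1154593253260162)) (.node (.leaf 1298310950050694) (.leaf 1747132900148620)))) (.node (.node (.node (.leaf 3257739050595201) (.leaf 3390229900006287)) (.node (.leaf 2446577171553153) (.leaf 1326093313577871))) (.node (.node (.leaf 1986449837623686) (.leaf 951258263324039)) (.node (.leaf 3360542347973517) (.leaf 2492761691924873)))))) (.node (.node (.node (.node (.node (.leaf 2030546987886984) (.leaf 4455728738683268)) (.node (.leaf 2714610407472514) (.leaf 2504987681458567))) (.node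 (.node (.leaf 1223028057183107) (.leaf 3059712587034496)) (.node (.leaf 1416138024486286) (.leaf 1288702951335300)))) (.node (.node (.node (.leaf 1802242283893133) (.leaf 3920410369124750)) (.node (.leaf 1109764689547147) (.leaf 3716377133462415))) (.node (.node (.leaf 3588894628952974) (.leaf 2118005360321934)) (.node (.leaf 690207416775552) (.leaf 3790181637468558))))) (.node (.node (.node (.node (.leaf 4350147574272897) (.leaf 3019646615775112)) (.node (.leaf 981293708454284) (.leaf 2378017005843330))) (.node (.node (.leaf 118139938992003) (.leaf 3649567297654656)) (.node (.leaf 3972290494760321) (.leaf 3008894217165704)))) (.node (.node (.node (.leaf 3502954467101070) (.leaf 2172537647373189)) (.node (.leaf 1395369378828672) (.leaf 954419147988359))) (.node (.node (.leaf 2804941049770880) (.leaf 3478445514177411)) (.node (.leaf 2395474433501576) (.leaf 3998971141826437))))))) (.node (.node (.node (.node (.node (.node (.leaf 2837610470860170) (.leaf 1039705998059917)) (.node (.leaf 1660409659500942) (.leaf 3114824567370635))) (.node (.node (.leaf 629814879094658)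 (.leaf 3017445935894917)) (.node (.leaf 2752920158365066) (.leaf 949888668354445)))) (.node (.node (.node (.leaf 4299062403122560) (.leaf 4484315442871686)) (.node (.leaf 2835656294043528) (.leaf 3912974807648644))) (.node (.node (.leaf 1728468050284928) (.leaf 4129564269629313)) (.node (.leaf 1705949637210507) (.leaf 1761810738617224))))) (.node (.node (.node (.node (.leaf 2359623808398208) (.leaf 3886740432444815)) (.node (.leaf 2526460836137345) (.leaf 734122568102797))) (.node (.node (.leaf 1074583002378632) (.leaf 3061584062192518)) (.node (.leaf 632086653877135) (.leaf 596250466417548)))) (.node (.node (.node (.leaf 1007481082559874) (.leaf 3319940260365710)) (.node (.leaf 3956903220774277) (.leaf 2901478396200841))) (.node (.node (.leaf 2563485538210691) (.leaf 477652048094604)) (.node (.leaf 3282990101175688) (.leaf 3857516140977538)))))) (.node (.node (.node (.node (.node (.leaf 2947172955972993) (.leaf 3987286677708174)) (.node (.leaf 3042794631464838) (.leaf 4370000117122944))) (.node (.node (.leaf 3000324942153095) (.leaf 4080096301996943)) (.node (.leaf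 2221184131625357) (.leaf 86978156966286)))) (.node (.node (.node (.leaf 1961832468661633) (.leaf 748765956838272)) (.node (.leaf 2354176530780040) (.leaf 231342266730377))) (.node (.node (.leaf 205229897298313) (.leaf 1867122443352969)) (.node (.leaf 2954717177978251) (.leaf 2937767514662287))))) (.node (.node (.node (.node (.leaf 4287482826909571) (.leaf 3868659686844295)) (.node (.leaf 1050599429766528) (.leaf 3542363127640960))) (.node (.node (.leaf 138221730582923) (.leaf 1286003824062338)) (.node (.leaf 3546820184073600) (.leaf 3830161107417996)))) (.node (.node (.node (.leaf 4403539529746822) (.leaf 601062763051915)) (.node (.leaf 1678642050904456) (.leaf 4369036739635072))) (.node (.node (.leaf 863474433717130) (.leaf 140802686988687)) (.node (.leaf 4395770646377355) (.leaf 2702602439380871)))))))))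

def walkP3 : Janko.Tree ℕ :=
  (.node (.node (.node (.node (.node (.node (.node (.node (.leaf 3023465361926030) (.leaf 1802017465362307)) (.node (.leaf 3164822617650061) (.leaf 788830501957510))) (.node (.node (.leaf 1192224220219273) (.leaf 2566995306106756)) (.node (.leaf 2930090702412674) (.leaf 919236829071746)))) (.node (.node (.node (.leaf 222220784169865) (.leaf 3588829640419204)) (.node (.leaf 2422753825392518) (.leaf 1951154402180486))) (.node (.node (.leaf 1235575564259202) (.leaf 195497765310350)) (.node (.leaf 3345712652136844) (.leaf 2199343027225985))))) (.node (.node (.node (.node (.leaf 3424678389876101) (.leaf 359624119445380)) (.node (.leaf 625260721105282) (.leaf 1700459222034308))) (.node (.node (.leaf 2983883408248711) (.leaf 258716890591115)) (.node (.leaf 2992709465665417) (.leaf 3381030486823307)))) (.node (.node (.node (.leaf 1459420529286023) (.leaf 3529083860734853)) (.node (.leaf 2568671564337548) (.leaf 1482931886030217))) (.node (.node (.leaf 2159941404190085) (.leaf 3586446421982095)) (.node (.leaf 2356293950272397) (.leaf 2333046550737806))))))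 (.node (.node (.node (.node (.node (.leaf 2222886259921799) (.leaf 3399641800446859)) (.node (.leaf 229725358844297) (.leaf 4496912129039753))) (.node (.node (.leaf 506547479108996) (.leaf 2921550888043909)) (.node (.leaf 2208734950601100) (.leaf 2075883777845632)))) (.node (.node (.node (.leaf 1713751973425033) (.leaf 1511695145371522)) (.node (.leaf 140737507250571) (.leaf 4193088527026568))) (.node (.node (.leaf 2885642835333507) (.leaf 2218794082816393)) (.node (.leaf 1006335412845955) (.leaf 2250005593706882))))) (.node (.node (.node (.node (.leaf 2121349620211073) (.leaf 1319497928211855)) (.node (.leaf 2939910613720461) (.leaf 3155167544035717))) (.node (.node (.leaf 2521687407456649) (.leaf 4214557039434635)) (.node (.leaf 614320146985346) (.leaf 1394875251819907)))) (.node (.node (.node (.leaf 86689821916548) (.leaf 2074581613831562)) (.node (.leaf 499171494317956) (.leaf 2766717355690368))) (.node (.node (.leaf 714098470766978) (.leaf 4448179141584266)) (.node (.leaf 2516756847776649) (.leaf 3700866568423813))))))) (.node (.node (.node (.node (.node (.node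 (.leaf 3087421296092548) (.leaf 4474127204182415)) (.node (.leaf 1559489610890632) (.leaf 701438510201741))) (.node (.node (.leaf 3708020182531457) (.leaf 1693579158409615)) (.node (.leaf 3056778390679950) (.leaf 643319477031820)))) (.node (.node (.node (.leaf 3906679242013581) (.leaf 2889421702064519)) (.node (.leaf 4145492772639107) (.leaf 3848025842420104))) (.node (.node (.leaf 3278176203723150) (.leaf 3793939645427590)) (.node (.leaf 1118852719412616) (.leaf 3014502645810575))))) (.node (.node (.node (.node (.leaf 3831854732120460) (.leaf 745368612743053)) (.node (.leaf 105680951221637) (.leaf 2810424786263436))) (.node (.node (.leaf 732074400927619) (.leaf 3415617769918344)) (.node (.leaf 2011308576226182) (.leaf 2310843121583501)))) (.node (.node (.node (.leaf 3124110451214733) (.leaf 2628134458228096)) (.node (.leaf 1043129085972358) (.leaf 3992798540425611))) (.node (.node (.leaf 2972175406144903) (.leaf 1310409948142468)) (.node (.leaf 3960031847030148) (.leaf 4014643258310027)))))) (.node (.node (.node (.node (.node (.leaf 1540380607083398) (.leaf 1130429410109833))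 (.node (.leaf 1041251212380035) (.leaf 3512675021711244))) (.node (.node (.leaf 4317362318610311) (.leaf 498143596572547)) (.node (.leaf 1493773701697420) (.leaf 2374368434376584)))) (.node (.node (.node (.leaf 4150876350891401) (.leaf 111705051018122)) (.node (.leaf 3141641418128268) (.leaf 4209872621693314))) (.node (.node (.leaf 3036138170634632) (.leaf 690722984751494)) (.node (.leaf 1310474333357956) (.leaf 2494482358013835))))) (.node (.node (.node (.node (.leaf 525209688314764) (.leaf 1605154082419593)) (.node (.leaf 1407355326242179) (.leaf 4258297780362627))) (.node (.node (.leaf 1557453537374087) (.leaf 1502015249067913)) (.node (.leaf 2933920222225804) (.leaf 2628755849465735)))) (.node (.node (.node (.leaf 2667076723100039) (.leaf 3096278269838728)) (.node (.leaf 666391164331404) (.leaf 3959711836588419))) (.node (.node (.leaf 3262196534495108) (.leaf 1544020028960650)) (.node (.leaf 776097476454283) (.leaf 2141850863822726)))))))) (.node (.node (.node (.node (.node (.node (.node (.leaf 3124770330131852) (.leaf 1350561859728257)) (.node (.leaf 2819671802661257)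 (.leaf 2917299831399812))) (.node (.node (.leaf 2982981755840907) (.leaf 1836816997262734)) (.node (.leaf 1736174291092878) (.leaf 4329937387631492)))) (.node (.node (.node (.leaf 3011789782978956) (.leaf 157166978012043)) (.node (.leaf 2439247196793223) (.leaf 4416720878886281))) (.node (.node (.leaf 639331654390147) (.leaf 2629883431541644)) (.node (.leaf 4182691523943304) (.leaf 1520329757454720))))) (.node (.node (.node (.node (.leaf 3104705561423745) (.leaf 3111593437789582)) (.node (.leaf 2143247843665803) (.leaf 2537493687735174))) (.node (.node (.leaf 3488109591586189) (.leaf 2248509351088518)) (.node (.leaf 3150728449162127) (.leaf 4474248750384515)))) (.node (.node (.node (.leaf 4033207027124621) (.leaf 3099903633631625)) (.node (.leaf 868439283407755) (.leaf 1147910274697615))) (.node (.node (.leaf 4178966737053579) (.leaf 2887128810172810)) (.node (.leaf 1972672901193088) (.leaf 1074980792679818)))))) (.node (.node (.node (.node (.node (.leaf 3184920046894466) (.leaf 4160461753176962)) (.node (.leaf 4107695261583746) (.leaf 3698816639611787))) (.node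 (.node (.leaf 4143281447593868) (.leaf 544208010143119)) (.node (.leaf 4483434036957579) (.leaf 972354643693957)))) (.node (.node (.node (.leaf 2881258025578375) (.leaf 2864238662860165)) (.node (.leaf 2150780369339790) (.leaf 4246550013099395))) (.node (.node (.leaf 218063915752332) (.leaf 963802853776263)) (.node (.leaf 212343546513803) (.leaf 837237447140748))))) (.node (.node (.node (.node (.leaf 631206389925763) (.leaf 4194092768937864)) (.node (.leaf 3594207343012224) (.leaf 209612269720450))) (.node (.node (.leaf 879349015985039) (.leaf 3802196946863498)) (.node (.leaf 2046595086443918) (.leaf 1617627288044931)))) (.node (.node (.node (.leaf 998374323021698) (.leaf 2374274977230731)) (.node (.leaf 2814109424821632) (.leaf 3575915076498311))) (.node (.node (.leaf 1682458582739332) (.leaf 190107225564548)) (.node (.leaf 2698400837445505) (.leaf 1952478239614856))))))) (.node (.node (.node (.node (.node (.node (.leaf 3185932228205440) (.leaf 1042458503331204)) (.node (.leaf 3570727136173442) (.leaf 1925786321897355))) (.node (.node (.leaf 2179574616694156)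 (.leaf 1706172237230477)) (.node (.leaf 1536452650949515) (.leaf 2584018697289098)))) (.node (.node (.node (.leaf 2076082840288128) (.leaf 3468016277675394)) (.node (.leaf 1017148031684489) (.leaf 4015799632125314))) (.node (.node (.leaf 248032207540101) (.leaf 2153019472703364)) (.node (.leaf 3870608737731975) (.leaf 1378503495152000))))) (.node (.node (.node (.node (.leaf 4357133886569869) (.leaf 3724144833565579)) (.node (.leaf 4208261612477828) (.leaf 2623090179876741))) (.node (.node (.leaf 3010235624648577) (.leaf 1064477820325760)) (.node (.leaf 3945123857985926) (.leaf 3808265341177741)))) (.node (.node (.node (.leaf 577494447335297) (.leaf 3906085136038795)) (.node (.leaf 1025821982150541) (.leaf 2469167077563783))) (.node (.node (.leaf 2892786976556928) (.leaf 1083150824739213)) (.node (.leaf 2694834177922) (.leaf 1300532369331078)))))) (.node (.node (.node (.node (.node (.leaf 2052055282184584) (.leaf 799603891049352)) (.node (.leaf 2989938224921987) (.leaf 580911339724171))) (.node (.node (.leaf 2319951501387151) (.leaf 1571764670517128)) (.node (.leaf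 911949586248075) (.leaf 1683298818371459)))) (.node (.node (.node (.leaf 1114700594920323) (.leaf 3005393447302)) (.node (.leaf 673896829391241) (.leaf 4104795665849729))) (.node (.node (.leaf 2159958047122825) (.leaf 361037637669262)) (.node (.leaf 3782943489780103) (.leaf 3734551593004931))))) (.node (.node (.node (.node (.leaf 795365408262016) (.leaf 3658017326128518)) (.node (.leaf 1932458507891591) (.leaf 4359886865655690))) (.node (.node (.leaf 2460359447414149) (.leaf 388661887581070)) (.node (.leaf 1335504561396611) (.leaf 998738493924738)))) (.node (.node (.node (.leaf 3422114638440335) (.leaf 648522040422272)) (.node (.leaf 2329322851315591) (.leaf 3880304475542405))) (.node (.node (.leaf 2970305247971714) (.leaf 2876762112987021)) (.node (.leaf 1135314422846349) (.leaf 4171054660601230)))))))))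

def walkP4 : Janko.Tree ℕ :=
  (.node (.node (.node (.node (.node (.node (.node (.node (.leaf 3366641503269766) (.leaf 3890591572182914)) (.node (.leaf 2231252491274125) (.leaf 3308577913559942))) (.node (.node (.leaf 2206355031959945) (.leaf 1261915948975491)) (.node (.leaf 3828523250642828) (.leaf 2469123596609421)))) (.node (.node (.node (.leaf 1163286525890945) (.leaf 3846156599841670)) (.node (.leaf 3658977106667909) (.leaf 513643122996102))) (.node (.node (.leaf 3265400601478533) (.leaf 475734489004937)) (.node (.leaf 2391767984984452) (.leaf 4420293206918539))))) (.node (.node (.node (.node (.leaf 1007274814339970) (.leaf 2001861654478210)) (.node (.leaf 193595769150863) (.leaf 734969398397316))) (.node (.node (.leaf 3689582352448392) (.leaf 3631064340227461)) (.node (.leaf 2144358189327748) (.leaf 2853604962111371)))) (.node (.node (.node (.leaf 2330248782054791) (.leaf 2295667700448645)) (.node (.leaf 3169432299914632) (.leaf 592634974766985))) (.node (.node (.leaf 4386524920375692) (.leaf 79574925177230)) (.node (.leaf 1216482006995850) (.leaf 898119602890634))))))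 (.node (.node (.node (.node (.node (.leaf 4400242576271745) (.leaf 1341602369440141)) (.node (.leaf 3269486961478024) (.leaf 2846263517303685))) (.node (.node (.leaf 701850624296843) (.leaf 3959714773597058)) (.node (.leaf 3309368068236678) (.leaf 977602329173382)))) (.node (.node (.node (.leaf 1487417171731846) (.leaf 2305834963178374)) (.node (.leaf 3816797012963712) (.leaf 1750937795018122))) (.node (.node (.leaf 1052186140468611) (.leaf 1463117433668999)) (.node (.leaf 2846886774289283) (.leaf 1405078890538379))))) (.node (.node (.node (.node (.leaf 4193184715016590) (.leaf 554488379565966)) (.node (.leaf 3494800022279050) (.leaf 1010796518123405))) (.node (.node (.leaf 2179226364686216) (.leaf 4093379267252612)) (.node (.leaf 2688500880923520) (.leaf 3730508553294213)))) (.node (.node (.node (.leaf 4011607631950723) (.leaf 576527460555658)) (.node (.leaf 2652953282149259) (.leaf 3964429960732039))) (.node (.node (.leaf 1258175590664073) (.leaf 1309577742160256)) (.node (.leaf 2850357298879877) (.leaf 593947200074633))))))) (.node (.node (.node (.node (.node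 (.node (.leaf 4122745138453376) (.leaf 104442031384971)) (.node (.leaf 2437657474937739) (.leaf 1973509563612036))) (.node (.node (.leaf 1284539037810055) (.leaf 2949714796187526)) (.node (.leaf 583089402887051) (.leaf 3691969059208588)))) (.node (.node (.node (.leaf 2774429489009039) (.leaf 2494655432405902)) (.node (.leaf 1270591277054859) (.leaf 3543248275463565))) (.node (.node (.leaf 3431967678271365) (.leaf 385769940155272)) (.node (.leaf 2665403807510917) (.leaf 3896165652790150))))) (.node (.node (.node (.node (.leaf 3272154795904) (.leaf 3089157117691790)) (.node (.leaf 2255595955251594) (.leaf 263530853069706))) (.node (.node (.leaf 772824196946817) (.leaf 1438096044787084)) (.node (.leaf 2409656205128066) (.leaf 3998357041106828)))) (.node (.node (.node (.leaf 1074878428374914) (.leaf 1656295191600519)) (.node (.leaf 1776121245107585) (.leaf 4276992877545864))) (.node (.node (.leaf 3195624747225990) (.leaf 1834539364643213)) (.node (.leaf 2884056008512390) (.leaf 2214777445675909)))))) (.node (.node (.node (.node (.node (.leaf 1335388638185868) (.leaf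 175253735491458)) (.node (.leaf 1000037465674633) (.leaf 1934480257203599))) (.node (.node (.leaf 4308617593786759) (.leaf 3040976652494220)) (.node (.leaf 2051872067844992) (.leaf 1486298390826882)))) (.node (.node (.node (.leaf 4392401751929220) (.leaf 2560782741621124)) (.node (.leaf 2777446014963597) (.leaf 3283745034321291))) (.node (.node (.leaf 1043841079344001) (.leaf 3562547919444871)) (.node (.leaf 3133763627130249) (.leaf 2989671875506566))))) (.node (.node (.node (.node (.leaf 784679702082434) (.leaf 256455666520975)) (.node (.leaf 4383112304079749) (.leaf 695333460243330))) (.node (.node (.leaf 689643233893255) (.leaf 4226004225074574)) (.node (.leaf 1261490806146433) (.leaf 3286418388821378)))) (.node (.node (.node (.leaf 807212474695046) (.leaf 2016056335825793)) (.node (.leaf 4211368222000517) (.leaf 939251500400004))) (.node (.node (.leaf 4222936501116301) (.leaf 3374812963082127)) (.node (.leaf 635968988465035) (.leaf 3907869523795340)))))))) (.node (.node (.node (.node (.node (.node (.node (.leaf 2710883498174860) (.leaf 1400707112899461)) (.node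 (.leaf 1321560310895500) (.leaf 2180613213412229))) (.node (.node (.leaf 697625029148033) (.leaf 4230246289229184)) (.node (.leaf 2001522643120512) (.leaf 4419771404139914)))) (.node (.node (.node (.leaf 2443599897628553) (.leaf 3057164149991821)) (.node (.leaf 2353865622617487) (.leaf 3185125859075981))) (.node (.node (.leaf 788436178456451) (.leaf 505713465760645)) (.node (.leaf 431450719978890) (.leaf 4387728533923202))))) (.node (.node (.node (.node (.leaf 4431769075628943) (.leaf 356749205768591)) (.node (.leaf 2399687559445903) (.leaf 3728210728880000))) (.node (.node (.leaf 2746120262310796) (.leaf 72813291392901)) (.node (.leaf 2546654303154052) (.leaf 1194258421627777)))) (.node (.node (.node (.leaf 614401868859268) (.leaf 1269524325132685)) (.node (.leaf 4464919607177603) (.leaf 116099515819909))) (.node (.node (.leaf 3010695266554762) (.leaf 1502929072683904)) (.node (.leaf 2343413863412613) (.leaf 411738178643847)))))) (.node (.node (.node (.node (.node (.leaf 1523013906822020) (.leaf 3093824325268358)) (.node (.leaf 1388896472961923) (.leaf 4142321002276741)))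 (.node (.node (.leaf 3364689440633732) (.leaf 1314770500169612)) (.node (.leaf 3139728125579141) (.leaf 3084300131842954)))) (.node (.node (.node (.leaf 2679831676825990) (.leaf 2840819612595079)) (.node (.leaf 1777450555652992) (.leaf 529526776572291))) (.node (.node (.leaf 1178541577924482) (.leaf 2711394518790542)) (.node (.leaf 3625523499351433) (.leaf 736809289849739))))) (.node (.node (.node (.node (.leaf 2670525684473226) (.leaf 4267643425712526)) (.node (.leaf 1909844056227211) (.leaf 2249732603037571))) (.node (.node (.leaf 2446496605884807) (.leaf 881234035221894)) (.node (.leaf 827904239923588) (.leaf 3566416296672135)))) (.node (.node (.node (.leaf 4037093112304512) (.leaf 3056527252558213)) (.node (.leaf 1695195928244619) (.leaf 1387588265101191))) (.node (.node (.leaf 622888111949708) (.leaf 2022379412265856)) (.node (.leaf 3974961325276549) (.leaf 163924818017673))))))) (.node (.node (.node (.node (.node (.node (.leaf 2821655439176073) (.leaf 3095170797515652)) (.node (.leaf 1833753054226319) (.leaf 2671137819677581))) (.node (.node (.leaf 672369509973379)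 (.leaf 2670550755094400)) (.node (.leaf 4501699290910606) (.leaf 1533695494990218)))) (.node (.node (.node (.leaf 2758401333383042) (.leaf 178801854676356)) (.node (.leaf 2097135998376843) (.leaf 2287298739753856))) (.node (.node (.leaf 2200588072895876) (.leaf 218242656131972)) (.node (.leaf 1819173074686851) (.leaf 483720358323595))))) (.node (.node (.node (.node (.leaf 3290221928578441) (.leaf 1025787505600391)) (.node (.leaf 672658951787397) (.leaf 3260557623079823))) (.node (.node (.leaf 2436479903281542) (.leaf 1114482008619915)) (.node (.leaf 2703868746355072) (.leaf 2724297993335170)))) (.node (.node (.node (.leaf 1232598937238916) (.leaf 1242038032587657)) (.node (.leaf 2266228381164936) (.leaf 4233328274865542))) (.node (.node (.leaf 3243198575648141) (.leaf 4128512472597889)) (.node (.leaf 394295678882695) (.leaf 2959930762529161)))))) (.node (.node (.node (.node (.node (.leaf 4322337396420480) (.leaf 4141541864991113)) (.node (.leaf 2653764010510723) (.leaf 1076405519730573))) (.node (.node (.leaf 3605080559612293) (.leaf 189355473533831)) (.node (.leaf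 3425278229000069) (.leaf 2303120371584903)))) (.node (.node (.node (.leaf 1960236608494467) (.leaf 3344656496699275)) (.node (.leaf 3640850595005829) (.leaf 2728773081115022))) (.node (.node (.leaf 2453951101983627) (.leaf 2877792041054091)) (.node (.leaf 3931779079972751) (.leaf 666861463138190))))) (.node (.node (.node (.node (.leaf 4502033961770379) (.leaf 3212150473075082)) (.node (.leaf 1326142680475523) (.leaf 2282557968861582))) (.node (.node (.leaf 835222719167363) (.leaf 2493464421950848)) (.node (.leaf 2514519144148877) (.leaf 3847730961311105)))) (.node (.node (.node (.leaf 3496021516863372) (.leaf 1150491096715656)) (.node (.leaf 787075687226244) (.leaf 233388674858373))) (.node (.node (.leaf 2436059158461824) (.leaf 3579123819742593)) (.node (.leaf 3515147050884482) (.leaf 645262685332864)))))))))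

def walkP5 : Janko.Tree ℕ :=
  (.node (.node (.node (.node (.node (.node (.node (.node (.leaf 2056537269766541) (.leaf 153499713565580)) (.node (.leaf 3294450535207817) (.leaf 2262616317325188))) (.node (.node (.leaf 2744426831997327) (.leaf 2346133303095685)) (.node (.leaf 795407344745347) (.leaf 4173068566625674)))) (.node (.node (.node (.leaf 3079110072504201) (.leaf 4224797548480390)) (.node (.leaf 450172084054401) (.leaf 135051826333568))) (.node (.node (.leaf 3928908650691465) (.leaf 977690666168192)) (.node (.leaf 1042355056772490) (.leaf 184930019725708))))) (.node (.node (.node (.node (.leaf 3962706933641600) (.leaf 2397038677455750)) (.node (.leaf 732121306179465) (.leaf 3550113881390468))) (.node (.node (.leaf 2145385776197505) (.leaf 1424365554173322)) (.node (.leaf 2710088658822) (.leaf 1658965578333063)))) (.node (.node (.node (.leaf 849280728306050) (.leaf 828313788581769)) (.node (.leaf 971011054697357) (.leaf 1033491645441929))) (.node (.node (.leaf 3084235638491013) (.leaf 439923981395340)) (.node (.leaf 2550909895190925) (.leaf 3329242106759051))))))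 (.node (.node (.node (.node (.node (.leaf 3685389064707468) (.leaf 1700444709873536)) (.node (.leaf 2465877750884225) (.leaf 2906282256772))) (.node (.node (.leaf 1300038967989135) (.leaf 3399504441085827)) (.node (.leaf 3058502601920903) (.leaf 108525627382662)))) (.node (.node (.node (.leaf 2056871131599239) (.leaf 1738277365568396)) (.node (.leaf 2523743681097613) (.leaf 1598402146748810))) (.node (.node (.leaf 4500683748994944) (.leaf 1768597976330627)) (.node (.leaf 4172451157015939) (.leaf 1288513135680390))))) (.node (.node (.node (.node (.leaf 2576305154178447) (.leaf 4234678582265728)) (.node (.leaf 2462328424340878) (.leaf 1033078963292044))) (.node (.node (.leaf 3731848372987264) (.leaf 3154855847694223)) (.node (.leaf 605194463148937) (.leaf 949079242493835)))) (.node (.node (.node (.leaf 3211336475612039) (.leaf 1400139476652431)) (.node (.leaf 3684766480491918) (.leaf 3924634879977351))) (.node (.node (.leaf 1201489222376836) (.leaf 593118650915724)) (.node (.leaf 2156738261141897) (.leaf 2117146094457741))))))) (.node (.node (.node (.node (.node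 (.node (.leaf 4304296105373582) (.leaf 529803898161030)) (.node (.leaf 4134886296343438) (.leaf 1725452647780739))) (.node (.node (.leaf 3540535619056514) (.leaf 2273549185830790)) (.node (.leaf 212206098649483) (.leaf 2863000735055238)))) (.node (.node (.node (.leaf 149362003043724) (.leaf 778530969441160)) (.node (.leaf 2195146189516675) (.leaf 2459326994379663))) (.node (.node (.leaf 3488673433598858) (.leaf 3784986639487375)) (.node (.leaf 640370266200966) (.leaf 3680141815181199))))) (.node (.node (.node (.node (.leaf 3490265451776384) (.leaf 1802593729147784)) (.node (.leaf 666812914316160) (.leaf 3589664223627648))) (.node (.node (.leaf 4170006734795146) (.leaf 1240217661072771)) (.node (.leaf 1043978490908552) (.leaf 2500829787861386)))) (.node (.node (.node (.leaf 1915396264282510) (.leaf 177366917941133)) (.node (.leaf 3587572988882827) (.leaf 943002606544769))) (.node (.node (.leaf 2726899646987655) (.leaf 1632384400895886)) (.node (.leaf 3984524676155791) (.leaf 189697190250378)))))) (.node (.node (.node (.node (.node (.leaf 4404586661678982) (.leaf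 2583539930111373)) (.node (.leaf 3879025837934473) (.leaf 530054546049423))) (.node (.node (.leaf 3812124763768200) (.leaf 192442269700486)) (.node (.leaf 966990615537029) (.leaf 2052727935321474)))) (.node (.node (.node (.leaf 3244216593589638) (.leaf 3112296241066892)) (.node (.leaf 1833830119862145) (.leaf 4440049991982467))) (.node (.node (.leaf 1077917966449546) (.leaf 2920203471933313)) (.node (.leaf 1776571472665989) (.leaf 840101575285633))))) (.node (.node (.node (.node (.leaf 3899135105296271) (.leaf 784157608077710)) (.node (.leaf 642558278093192) (.leaf 2614733117794694))) (.node (.node (.leaf 2324091014631296) (.leaf 1754126403195269)) (.node (.leaf 153310820154242) (.leaf 1445045305905538)))) (.node (.node (.node (.leaf 1362517895833989) (.leaf 1328430937321871)) (.node (.leaf 4400617218690959) (.leaf 4087849988041092))) (.node (.node (.leaf 1847896748916106) (.leaf 1961401650259330)) (.node (.leaf 2150222621695362) (.leaf 663584150011274)))))))) (.node (.node (.node (.node (.node (.node (.node (.leaf 3522770631919488) (.leaf 3207779588695937)) (.node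 (.leaf 3147796813214601) (.leaf 845095498218380))) (.node (.node (.leaf 3141964822890894) (.leaf 2780545540569984)) (.node (.leaf 2302253552100739) (.leaf 1953272622136706)))) (.node (.node (.node (.leaf 3880743308903816) (.leaf 3525944759669647)) (.node (.leaf 1007055815313282) (.leaf 4177346561217415))) (.node (.node (.leaf 2223483411236231) (.leaf 1697124033229197)) (.node (.leaf 2625604863933319) (.leaf 1009021219245953))))) (.node (.node (.node (.node (.leaf 1837591894921614) (.leaf 4052311280888197)) (.node (.leaf 1196284602834313) (.leaf 3119923465327492))) (.node (.node (.leaf 1746041462591878) (.leaf 3421837822657921)) (.node (.leaf 79942544808836) (.leaf 1810355338708360)))) (.node (.node (.node (.leaf 1481700161494408) (.leaf 1653714734308736)) (.node (.leaf 3167050161784204) (.leaf 1292934701926278))) (.node (.node (.leaf 762267929380745) (.leaf 1508428006513544)) (.node (.leaf 2790230430779788) (.leaf 3708455506708358)))))) (.node (.node (.node (.node (.node (.leaf 2638075109358976) (.leaf 2835718382839682)) (.node (.leaf 3851164498113413) (.leaf 3952955993275782)))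 (.node (.node (.leaf 1176876674942863) (.leaf 2240241203209613)) (.node (.leaf 1159478355172231) (.leaf 3415026369176964)))) (.node (.node (.node (.leaf 1700767524283782) (.leaf 2720282983060354)) (.node (.leaf 1820902188814721) (.leaf 3518576559376780))) (.node (.node (.leaf 571673661062028) (.leaf 3783325166937486)) (.node (.leaf 2299395822070152) (.leaf 3027275840819593))))) (.node (.node (.node (.node (.leaf 649172850444164) (.leaf 1985931516042624)) (.node (.leaf 4311726726460298) (.leaf 1680727471469450))) (.node (.node (.leaf 3477348848439183) (.leaf 3270026609826691)) (.node (.leaf 2558215822536591) (.leaf 3981301696196492)))) (.node (.node (.node (.leaf 4343528378047885) (.leaf 1984741370376076)) (.node (.leaf 2169922651762566) (.leaf 3007010135075203))) (.node (.node (.leaf 2530390449451906) (.leaf 1735491815204225)) (.node (.leaf 1782248469408139) (.leaf 3025901116213641))))))) (.node (.node (.node (.node (.node (.node (.leaf 1357092944381317) (.leaf 2072431347654020)) (.node (.leaf 1510880842298246) (.leaf 1453074705532810))) (.node (.node (.leaf 1074539860404610)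 (.leaf 1052810277654404)) (.node (.leaf 3416130980933514) (.leaf 1633589700328833)))) (.node (.node (.node (.leaf 594667875736451) (.leaf 1971167454262144)) (.node (.leaf 2298717418058113) (.leaf 2403820649703810))) (.node (.node (.leaf 1493157890336136) (.leaf 1118871156895623)) (.node (.leaf 4477720753858945) (.leaf 2537857706807183))))) (.node (.node (.node (.node (.leaf 469926060159885) (.leaf 4037813178599814)) (.node (.leaf 647260075701122) (.leaf 2938537195030915))) (.node (.node (.leaf 3322891317653385) (.leaf 2019749964231046)) (.node (.leaf 2304419318009738) (.leaf 2660034037092235)))) (.node (.node (.node (.leaf 4350499699296647) (.leaf 3783287157895559)) (.node (.leaf 2123586303073166) (.leaf 4302744137593729))) (.node (.node (.leaf 4066717951488906) (.leaf 1262896310893443)) (.node (.leaf 3953033845696901) (.leaf 271010407177613)))))) (.node (.node (.node (.node (.node (.leaf 1403241370142093) (.leaf 2811482113099649)) (.node (.leaf 2871337161842052) (.leaf 1550186579937671))) (.node (.node (.leaf 4465839509991309) (.leaf 2757687085543816)) (.node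 (.leaf 414039476110734) (.leaf 1605226127921544)))) (.node (.node (.node (.leaf 726278334673291) (.leaf 1267483727035788)) (.node (.leaf 2472655705586564) (.leaf 890788831818625))) (.node (.node (.leaf 1523535239216003) (.leaf 2888705894939526)) (.node (.leaf 3863235382675848) (.leaf 2547907427526018))))) (.node (.node (.node (.node (.leaf 3395014858844548) (.leaf 1156971781193088)) (.node (.leaf 666812742387584) (.leaf 3289167185798))) (.node (.node (.leaf 2232705301398923) (.leaf 2032356579367811)) (.node (.leaf 3234790608294278) (.leaf 559850366557061)))) (.node (.node (.node (.leaf 2777525407866245) (.leaf 3272523124461444)) (.node (.leaf 2441651588534147) (.leaf 1494205631771524))) (.node (.node (.leaf 540231525042063) (.leaf 4287236055282063)) (.node (.leaf 154788086158210) (.leaf 1442874753552772)))))))))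

def walkP6 : Janko.Tree ℕ :=
  (.node (.node (.node (.node (.node (.node (.node (.node (.leaf 3224254363147150) (.leaf 2850922183949701)) (.node (.leaf 3444847534983045) (.leaf 3737338826084746))) (.node (.node (.leaf 4172605047588742) (.leaf 2875531231621004)) (.node (.leaf 4155104680696718) (.leaf 3517560304339336)))) (.node (.node (.node (.leaf 614805341584261) (.leaf 2535664722353545)) (.node (.leaf 3488268580669322) (.leaf 3097748446911886))) (.node (.node (.leaf 4127271726322058) (.leaf 3991722424198541)) (.node (.leaf 898044916235151) (.leaf 1872350335673742))))) (.node (.node (.node (.node (.leaf 901551088234377) (.leaf 2103157792606086)) (.node (.leaf 3383422058727808) (.leaf 2725880181289857))) (.node (.node (.leaf 1604104411620744) (.leaf 1504769870964102)) (.node (.leaf 3900038899923848) (.leaf 1630579461828494)))) (.node (.node (.node (.leaf 1281878827230602) (.leaf 3161288357150093)) (.node (.leaf 4413348425027976) (.leaf 3987834391035278))) (.node (.node (.leaf 431386281221512) (.leaf 822321671909767)) (.node (.leaf 118332678978952) (.leaf 1301695881889677))))))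 (.node (.node (.node (.node (.node (.leaf 477072420768131) (.leaf 2167819540350856)) (.node (.leaf 1020291310618507) (.leaf 3584853759325063))) (.node (.node (.leaf 3082163271477640) (.leaf 2818098467975567)) (.node (.leaf 1101905214254976) (.leaf 2907703854239619)))) (.node (.node (.node (.leaf 1271948692355980) (.leaf 1487604514777484)) (.node (.leaf 3325173044121482) (.leaf 1727664165557133))) (.node (.node (.leaf 3371596246527882) (.leaf 959247296384902)) (.node (.leaf 3163866652076417) (.leaf 4433953446211460))))) (.node (.node (.node (.node (.leaf 2267522613881231) (.leaf 4359473242627466)) (.node (.leaf 2383036345837454) (.leaf 2318590878108033))) (.node (.node (.leaf 2092553556116877) (.leaf 613963548629897)) (.node (.leaf 84484374422924) (.leaf 1977808614229379)))) (.node (.node (.node (.leaf 661432742652288) (.leaf 1967759506326921)) (.node (.leaf 4307164799993219) (.leaf 1638029041625475))) (.node (.node (.leaf 4210520109017480) (.leaf 1460341290960259)) (.node (.leaf 1280621395617667) (.leaf 1096398580020110))))))) (.node (.node (.node (.node (.node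 (.node (.leaf 1141914568768385) (.leaf 2378535102755720)) (.node (.leaf 1150607580923789) (.leaf 4259109941817737))) (.node (.node (.leaf 1917505130071938) (.leaf 4429306518709638)) (.node (.leaf 4009811199190411) (.leaf 178693895645574)))) (.node (.node (.node (.leaf 3272505374175119) (.leaf 3925087734892418)) (.node (.leaf 728443258381706) (.leaf 786644649620352))) (.node (.node (.leaf 3586874524118913) (.leaf 669341844066191)) (.node (.leaf 3932127925730189) (.leaf 892162318978953))))) (.node (.node (.node (.node (.leaf 3843858346483076) (.leaf 2167623410493327)) (.node (.leaf 92463295796101) (.leaf 216625507248514))) (.node (.node (.leaf 3727332396850063) (.leaf 2915491885052298)) (.node (.leaf 2321261084722571) (.leaf 2398032014853510)))) (.node (.node (.node (.leaf 1627696820657545) (.leaf 3902527156392835)) (.node (.leaf 3440811725432192) (.leaf 3494471977309059))) (.node (.node (.leaf 626659080532867) (.leaf 2887437955147140)) (.node (.leaf 636814086408585) (.leaf 2303980504784263)))))) (.node (.node (.node (.node (.node (.leaf 1458880507233669) (.leaf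 4252724092851087)) (.node (.leaf 2150699547270534) (.leaf 2936838501771655))) (.node (.node (.leaf 1007072464255880) (.leaf 2527652390702984)) (.node (.leaf 1174969232497541) (.leaf 579904441588618)))) (.node (.node (.node (.leaf 604356235336577) (.leaf 3934611610675075)) (.node (.leaf 1390563924196238) (.leaf 3034464991081359))) (.node (.node (.leaf 2382286643368331) (.leaf 1993143241311623)) (.node (.leaf 2095214557013891) (.leaf 153026748414858))))) (.node (.node (.node (.node (.leaf 3182240193035662) (.leaf 2683215071299981)) (.node (.leaf 1425998877785481) (.leaf 3229071368742792))) (.node (.node (.leaf 481206305162631) (.leaf 137389005279116)) (.node (.leaf 4102196928813954) (.leaf 3096236947162510)))) (.node (.node (.node (.leaf 3224341213071246) (.leaf 3801710185664902)) (.node (.leaf 3796485500118408) (.leaf 1570010617284489))) (.node (.node (.leaf 626413193851791) (.leaf 1238407986712963)) (.node (.leaf 358287476915591) (.leaf 3225681486555534)))))))) (.node (.node (.node (.node (.node (.node (.node (.leaf 1425427550526859) (.leaf 3759766076574081)) (.node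 (.leaf 4022145972668802) (.leaf 4158682281698696))) (.node (.node (.leaf 2097393374829960) (.leaf 151209077526402)) (.node (.leaf 3805590706969474) (.leaf 3477675769484162)))) (.node (.node (.node (.leaf 1823996536694148) (.leaf 978855059883919)) (.node (.leaf 2613167236813708) (.leaf 1874096260387716))) (.node (.node (.leaf 1366489196310922) (.leaf 845097155353480)) (.node (.leaf 1463672159826316) (.leaf 281317534702471))))) (.node (.node (.node (.node (.leaf 1080696193448832) (.leaf 3462442873748876)) (.node (.leaf 2990016639609222) (.leaf 4148198359517575))) (.node (.node (.leaf 4147177385316235) (.leaf 4367071003968897)) (.node (.leaf 2924986920682885) (.leaf 4298353902746502)))) (.node (.node (.node (.leaf 808515428804996) (.leaf 4236634231187333)) (.node (.leaf 2949448172818308) (.leaf 3772436557171075))) (.node (.node (.leaf 1062424640429445) (.leaf 1880581579193221)) (.node (.leaf 1505933614655887) (.leaf 274996679288705)))))) (.node (.node (.node (.node (.node (.leaf 2925309987465601) (.leaf 3618155560063872)) (.node (.leaf 140874946726283) (.leaf 1593741021063557)))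 (.node (.node (.leaf 2045151369630593) (.leaf 739597440703373)) (.node (.leaf 3005574161251206) (.leaf 107670235427212)))) (.node (.node (.node (.leaf 833372150061959) (.leaf 191062494709634)) (.node (.leaf 3755194817275266) (.leaf 3307478186370951))) (.node (.node (.leaf 1920893519204236) (.leaf 3152687591398280)) (.node (.leaf 3296091401389958) (.leaf 4239615206868358))))) (.node (.node (.node (.node (.leaf 730749643002752) (.leaf 980543892810124)) (.node (.leaf 570844688672653) (.leaf 1333217720387470))) (.node (.node (.leaf 1052154465281423) (.leaf 1169307436076930)) (.node (.leaf 4085632684863365) (.leaf 1603327170927503)))) (.node (.node (.node (.leaf 915938621262210) (.leaf 1476378750425996)) (.node (.leaf 545870397731202) (.leaf 3407147197474697))) (.node (.node (.leaf 2584937465620365) (.leaf 3319426823071116)) (.node (.leaf 2713700009860) (.leaf 2046902424449928))))))) (.node (.node (.node (.node (.node (.node (.leaf 988622352552320) (.leaf 2299773136966530)) (.node (.leaf 514289063414154) (.leaf 1141623619476864))) (.node (.node (.leaf 598432627001229)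 (.leaf 3556796995779467)) (.node (.leaf 1341759798076804) (.leaf 903331067209601)))) (.node (.node (.node (.leaf 2358358092443533) (.leaf 4168706869495695)) (.node (.leaf 3123841586605954) (.leaf 1298562739346827))) (.node (.node (.leaf 3660447991241614) (.leaf 2257365162763660)) (.node (.leaf 3133323728477583) (.leaf 1337128438722443))))) (.node (.node (.node (.node (.leaf 1526512782247821) (.leaf 3763121561036678)) (.node (.leaf 1483413570054031) (.leaf 2656616316990350))) (.node (.node (.leaf 3242597350677386) (.leaf 2293355444285320)) (.node (.leaf 633377171976077) (.leaf 3897268195575178)))) (.node (.node (.node (.leaf 1907801782345091) (.leaf 718359404941704)) (.node (.leaf 352248059968398) (.leaf 102090463165828))) (.node (.node (.leaf 3976007269583233) (.leaf 2168710594555791)) (.node (.leaf 1541300317571469) (.leaf 1991968416666505)))))) (.node (.node (.node (.node (.node (.leaf 4134747395537804) (.leaf 3224914732072322)) (.node (.leaf 2561599711744898) (.leaf 970195118172045))) (.node (.node (.leaf 3540934103254400) (.leaf 1899844681338754)) (.node (.leaf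 3717887172508553) (.leaf 2737428999729537)))) (.node (.node (.node (.leaf 1385708403380612) (.leaf 2506741168411532)) (.node (.leaf 2036785398133120) (.leaf 201512211930505))) (.node (.node (.leaf 3860790014537610) (.leaf 2798186969706377)) (.node (.leaf 4308803634781583) (.leaf 2961304807559561))))) (.node (.node (.node (.node (.leaf 2361761920253324) (.leaf 2855442473098629)) (.node (.leaf 723669626838410) (.leaf 4243995993851780))) (.node (.node (.leaf 1456698652703624) (.leaf 4057582798647182)) (.node (.leaf 3857532848206211) (.leaf 3578280315728267)))) (.node (.node (.node (.leaf 4409601886363019) (.leaf 1617816690550157)) (.node (.leaf 1347893737014658) (.leaf 4197913431566211))) (.node (.node (.leaf 1362670303389583) (.leaf 2468955669439878)) (.node (.leaf 889207730041733) (.leaf 4112450890636167)))))))))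

def walkP7 : Janko.Tree ℕ :=
  (.node (.node (.node (.node (.node (.node (.node (.node (.leaf 2714595326620037) (.leaf 404578132620172)) (.node (.leaf 3286778431984512) (.leaf 3772939457717641))) (.node (.node (.leaf 601690808021899) (.leaf 1368811691282305)) (.node (.leaf 3570623446495616) (.leaf 3172102987931022)))) (.node (.node (.node (.leaf 1711636232122252) (.leaf 1815335315490691)) (.node (.leaf 1973370218738564) (.leaf 1288139324846984))) (.node (.node (.leaf 4106715039854976) (.leaf 2493337776814976)) (.node (.leaf 1682652598191495) (.leaf 4165692118997897))))) (.node (.node (.node (.node (.leaf 2677945453730698) (.leaf 3155756185201031)) (.node (.leaf 4231698238430598) (.leaf 2117961960594818))) (.node (.node (.leaf 1026733782549893) (.leaf 3319284537203584)) (.node (.leaf 2571993386209676) (.leaf 3990149549136772)))) (.node (.node (.node (.leaf 4095961498743177) (.leaf 544458908065163)) (.node (.leaf 2741358357434250) (.leaf 4404955652101005))) (.node (.node (.leaf 4224166335304587) (.leaf 3539005498961800)) (.node (.leaf 3938757135217544) (.leaf 2964553845552003))))))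 (.node (.node (.node (.node (.node (.leaf 2013604734265228) (.leaf 2324659586978702)) (.node (.leaf 3697754926814095) (.leaf 4216092476188549))) (.node (.node (.leaf 3805133899081607) (.leaf 3459403238150537)) (.node (.leaf 4255209138360714) (.leaf 4354435702160267)))) (.node (.node (.node (.leaf 579207549565829) (.leaf 3251913078761348)) (.node (.leaf 2975746716449670) (.leaf 3565653225867651))) (.node (.node (.leaf 4049460131014018) (.leaf 3888506541830540)) (.node (.leaf 1146163858458505) (.leaf 272146641290638))))) (.node (.node (.node (.node (.leaf 3283303270274) (.leaf 1098390864330125)) (.node (.leaf 583151269903755) (.leaf 954831397789063))) (.node (.node (.leaf 3903510651026317) (.leaf 3375958616608653)) (.node (.leaf 1845027298425743) (.leaf 540984429411205)))) (.node (.node (.node (.leaf 2265395174795662) (.leaf 4200279912501645)) (.node (.leaf 3175740495466895) (.leaf 515310294195598))) (.node (.node (.leaf 2805746356138882) (.leaf 492710066649990)) (.node (.leaf 1245631073814920) (.leaf 134762061233539))))))) (.node (.node (.node (.node (.node (.node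 (.leaf 166503335072130) (.leaf 3918611270385030)) (.node (.leaf 1672246364642688) (.leaf 2310548190717321))) (.node (.node (.leaf 1315155658937222) (.leaf 1301773266751876)) (.node (.leaf 109340658921858) (.leaf 1542563111263617)))) (.node (.node (.node (.leaf 1511167010615175) (.leaf 222357887300492)) (.node (.leaf 1154513314405254) (.leaf 107422251895180))) (.node (.node (.leaf 633921765483914) (.leaf 1411203626894728)) (.node (.leaf 4400617722015620) (.leaf 1975848669974412))))) (.node (.node (.node (.node (.leaf 4459874140345220) (.leaf 1957942793013642)) (.node (.leaf 1321821541149057) (.leaf 3324117803848590))) (.node (.node (.leaf 1693434668208011) (.leaf 639996014792585)) (.node (.leaf 3798196784722313) (.leaf 1840425495594371)))) (.node (.node (.node (.leaf 4070381809947529) (.leaf 1333099474855296)) (.node (.leaf 2165244749189506) (.leaf 3436032635094913))) (.node (.node (.leaf 4433079286400896) (.leaf 3610429313727369)) (.node (.leaf 598672335628165) (.leaf 1304644658317696)))))) (.node (.node (.node (.node (.node (.leaf 3863020725989768) (.leaf 483591236662153))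 (.node (.leaf 1642187991643011) (.leaf 600659047188363))) (.node (.node (.leaf 903787521028493) (.leaf 4437164790231429)) (.node (.leaf 3375420085203343) (.leaf 3733486139994508)))) (.node (.node (.node (.leaf 3892580620461454) (.leaf 2289540192949124)) (.node (.leaf 607462795448718) (.leaf 4007765641013123))) (.node (.node (.leaf 87250853848456) (.leaf 3751631728327562)) (.node (.leaf 2357422465271681) (.leaf 2889621637602188))))) (.node (.node (.node (.node (.leaf 3357764795995016) (.leaf 182652181424005)) (.node (.leaf 3811206245181835) (.leaf 3437741052943747))) (.node (.node (.leaf 1477842933682061) (.leaf 1838016983084939)) (.node (.leaf 3041345956245389) (.leaf 725496529061255)))) (.node (.node (.node (.leaf 3032771944425862) (.leaf 2435392185872781)) (.node (.leaf 3741621812009869) (.leaf 3074320566435212))) (.node (.node (.leaf 1683905226920835) (.leaf 3478385957684620)) (.node (.leaf 1069844764559748) (.leaf 2425801553638286)))))))) (.node (.node (.node (.node (.node (.node (.node (.leaf 935628172923790) (.leaf 4221484807595913)) (.node (.leaf 1192843297766784)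 (.leaf 3319531286229377))) (.node (.node (.leaf 1496531389993864) (.leaf 2790553156185998)) (.node (.leaf 2938353181861258) (.leaf 2266883104336259)))) (.node (.node (.node (.leaf 2183232397122433) (.leaf 1765628629818753)) (.node (.leaf 2168680970774403) (.leaf 2995337856665997))) (.node (.node (.leaf 4216282479811467) (.leaf 2331205338451854)) (.node (.leaf 1241276286300038) (.leaf 4016272922210181))))) (.node (.node (.node (.node (.leaf 2134187391479689) (.leaf 690739136910223)) (.node (.leaf 4185189216255373) (.leaf 2413591179318145))) (.node (.node (.leaf 2844923014970244) (.leaf 2901706214265228)) (.node (.leaf 4351152986771842) (.leaf 2205905624065410)))) (.node (.node (.node (.leaf 4200469339976588) (.leaf 657771926969737)) (.node (.leaf 2966950525620610) (.leaf 3394569516231049))) (.node (.node (.leaf 1480984996824975) (.leaf 2691135719583631)) (.node (.leaf 4034426854481282) (.leaf 2282940821080459)))))) (.node (.node (.node (.node (.node (.leaf 1899174209750927) (.leaf 2716450717384065)) (.node (.leaf 1651472281201034) (.leaf 3300112829483397))) (.node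 (.node (.leaf 4168141269556106) (.leaf 1220121714126731)) (.node (.leaf 1670555265012101) (.leaf 2603183115284354)))) (.node (.node (.node (.leaf 2905112154143630) (.leaf 1644812533898637)) (.node (.leaf 3755254606688131) (.leaf 3412703838813574))) (.node (.node (.leaf 1773242536516494) (.leaf 2181512604241801)) (.node (.leaf 2105741304195466) (.leaf 4378267200797573))))) (.node (.node (.node (.node (.leaf 3978735290755461) (.leaf 1494205459482500)) (.node (.leaf 514708828574604) (.leaf 221671917119366))) (.node (.node (.leaf 4187605792512911) (.leaf 4023567884491649)) (.node (.leaf 3167946780056453) (.leaf 4327491391385987)))) (.node (.node (.node (.leaf 3612604233366912) (.leaf 2561374326165385)) (.node (.leaf 2534379279000960) (.leaf 2718363395128716))) (.node (.node (.leaf 244428691013000) (.leaf 2535059024097163)) (.node (.leaf 3102178772868492) (.leaf 3922204100798856))))))) (.node (.node (.node (.node (.node (.node (.leaf 3614360133914511) (.leaf 1980351688078214)) (.node (.leaf 2441980695540611) (.leaf 1178966034049423))) (.node (.node (.leaf 3633787978992005)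 (.leaf 764588150534018)) (.node (.leaf 2593454117143951) (.leaf 2604232194913159)))) (.node (.node (.node (.leaf 191126920772482) (.leaf 3726207116680579)) (.node (.leaf 529922353603976) (.leaf 223586969815430))) (.node (.node (.leaf 2386267496733581) (.leaf 2440347252461452)) (.node (.leaf 3422644512991113) (.leaf 3097438312861570))))) (.node (.node (.node (.node (.leaf 1751850754085769) (.leaf 1254448413097351)) (.node (.leaf 4289225064168847) (.leaf 837396822886789))) (.node (.node (.leaf 1933214677110670) (.leaf 401985400454023)) (.node (.leaf 2560786365326724) (.leaf 454701621047178)))) (.node (.node (.node (.leaf 2362756164621189) (.leaf 81893590943108)) (.node (.leaf 380547861942669) (.leaf 3130783592166277))) (.node (.node (.leaf 3709114671475075) (.leaf 3335202883613063)) (.node (.leaf 3356483434061194) (.leaf 1887434366232970)))))) (.node (.node (.node (.node (.node (.leaf 3671287777939341) (.leaf 2434701984084867)) (.node (.leaf 3498511846926213) (.leaf 1653552487548815))) (.node (.node (.leaf 2971272153545601) (.leaf 3423652505011585)) (.node (.leaf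 594307226775940) (.leaf 3585575621458831)))) (.node (.node (.node (.leaf 1744998821758346) (.leaf 3346673613924741)) (.node (.leaf 432881656147855) (.leaf 105619426822534))) (.node (.node (.leaf 2731169907074439) (.leaf 3808402274417540)) (.node (.leaf 4022261734904712) (.leaf 2819035657821056))))) (.node (.node (.node (.node (.leaf 2759500631569291) (.leaf 2537616429994887)) (.node (.leaf 3401712921288070) (.leaf 4349676690791820))) (.node (.node (.leaf 3648480159289226) (.leaf 560116109572995)) (.node (.leaf 636849036586888) (.leaf 3498728680051072)))) (.node (.node (.node (.leaf 194274862434695) (.leaf 3450930379244942)) (.node (.leaf 1478417008665998) (.leaf 1940480130732929))) (.node (.node (.leaf 4062481732042120) (.leaf 278754978519949)) (.node (.leaf 3309203119180175) (.leaf 4260949248577409)))))))))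

/-- The inverses of the two-group elements applied to a translate of the marked vector. -/
def walkP : Janko.Tree ℕ :=
  .node (.node (.node walkP0 walkP4) (.node walkP2 walkP6)) (.node (.node walkP1 walkP5) (.node walkP3 walkP7))

end Cfsg.Agent.Small.FFourTwistThompson.TitsCov
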