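import Cfsg.Agent.Lib.Small.FFourTwistThompson.TitsPack
import Cfsg.Agent.Lib.Small.FFourTwistThompson.TitsData
import Cfsg.Agent.Lib.Lie.TitsMult.ThreeData
import Cfsg.Agent.Lib.Lie.TitsMult.FiveData

/-!
Computations for the covering of the Tits group by products of two conjugates of an element of order 13.
-/

set_option autoImplicit false
set_option maxRecDepth 100000
set_option maxHeartbeats 0
set_option Elab.async false

namespace Cfsg.Agent.Small.FFourTwistThompson.TitsCov

open Cfsg.Agent.Lie F4Two TitsMult
open Cfsg.Agent.Lie.FixSylow.TitsGp (getF)

/-- The word of the element of order 13. -/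
def xW : List ℕ := [11, 12, 9, 10]

/-- An element of order 5 commuting with the long involution. -/
def yZ : List ℕ := [12, 7]

/-- An element of order 3 commuting with the short involution. -/
def yP : List ℕ := [9, 11]

/-- The elements of the two-group commuting with the element of order 5. -/
def cZ : List ℕ := [0, 238]

/-- The elements of the two-group commuting with the element of order 3. -/
def cP : List ℕ := [0, 530, 645, 1763]

/-- A power of a word. -/
def pwW (w : List ℕ) : ℕ → List ℕ
  | 0 => []
  | k + 1 => w ++ pwW w k

/-- A word in the two generators as a word in the letters. -/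
def lw (w : List ℕ) : List ℕ := w.flatMap fun s => (twoGens.getD s noElem).1

/-- Only letters of the tables. -/
def lettersL (w : List ℕ) : Bool := w.all fun s => Nat.blt s 13

/-- The element of the word is a product of two conjugates of the element of order 13. -/
noncomputable def certOK (e h k : List ℕ) : Bool :=
  (lettersL e && (lettersL h && lettersL k)) &&
    Nat.beq (packW (e ++ (h ++ k))) (packW (h ++ (xW ++ (k ++ xW))))

/-- The certificates for the two-group. -/
noncomputable def twoOK : Bool :=
  repL.all fun r => Nat.beq r 0 ||
    certTwo.any fun c => Nat.beq r c.1 && certOK (lw (twoCert.wd r)) c.2.1 c.2.2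

/-- The certificates at a centraliser of an involution. -/
noncomputable def parOK (Y : List ℕ) (q : ℕ) (C : List ℕ) (L : List (ℕ × ℕ × List ℕ × List ℕ)) : Bool :=
  (List.range q).all fun j => C.all fun t => (Nat.beq j 0 && Nat.beq t 0) ||
    L.any fun c => Nat.beq j c.1 && (Nat.beq t c.2.1 && certOK (pwW Y j ++ lw (twoCert.wd t)) c.2.2.1 c.2.2.2)

/-- The certificates for the powers of the element of order 13. -/
noncomputable def powOK : Bool :=
  (List.range 12).all fun i => certOK (pwW xW (i + 1)) (certX.getD i ([], [])).1 (certX.getD i ([], [])).2

/-- The letter of a positive generator. -/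
def gX (k : ℕ) : ℕ := if k < 7 then k else if k = 7 then 13 else k - 1

/-- Only positive letters. -/
def lettersP (w : List ℕ) : Bool := w.all fun s => Nat.blt s 11 || Nat.beq s 13

/-- A row of the closure table is as claimed. -/
noncomputable def closRow (Y : List ℕ) (q k j : ℕ) (c : ℕ × List ℕ) : Bool :=
  Nat.blt c.1 q && (lettersP c.2 && Nat.beq (packW (gX k :: pwW Y j)) (packW (pwW Y c.1 ++ c.2)))

/-- The union of the translates of the positive part by the powers is closed. -/
noncomputable def closOK (Y : List ℕ) (q : ℕ) (cl : List (List (ℕ × List ℕ))) : Bool :=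
  (List.range 12).all fun k => (List.range q).all fun j => closRow Y q k j ((cl.getD k []).getD j (0, []))

/-- The letter of the inverse of a generator. -/
def invG (s : ℕ) : ℕ := if s = 0 then 9 else 14

/-- The walk table follows the tree. -/
noncomputable def walkEdge (Y : List ℕ) (W : Janko.Tree ℕ) (i : ℕ) : Bool :=
  bif Nat.beq i 0 then Nat.beq (getF W 0) (actW Y vv) else
    Nat.beq (getF W i) (stepC (diags.getD (invG (getF twoPar i % 16)) ([], [])) (getF W (getF twoPar i / 16)))

/-- An element of the two-group is listed or does not commute with the word. -/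
noncomputable def filtOK (Y C : List ℕ) (W : Janko.Tree ℕ) (i : ℕ) : Bool :=
  C.contains i || !Nat.beq (getF W i) (actW Y (getF twoElt i))

/-- A vector of the orbit. -/
noncomputable def ovec (i : ℕ) : ℕ := getF orbV i

/-- An image in the orbit. -/
noncomputable def img : ℕ → ℕ → ℕ
  | 0, i => getF orbI0_ i
  | 1, i => getF orbI1_ i
  | 2, i => getF orbI2_ i
  | _, i => getF orbI3_ i

/-- The generators map the orbit into itself. -/
noncomputable def moveOK (s : ℕ) : Bool :=
  (List.range 1755).all fun i => Nat.blt (img s i) 1755 &&
    Nat.beq (stepC (diags.getD (9 + s) ([], [])) (ovec i)) (ovec (img s i))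

/-- The columns of the element of order 3. -/
def mThree : List ℕ := (threeGens.getD 0 noElem).2.2.1

/-- The columns of the element of order 5. -/
def mFive : List ℕ := (fiveGens.getD 0 noElem).2.2.1

theorem two_cert : twoOK = true := by decide +kernel

theorem z_cert : parOK yZ 5 cZ certZ = true := by decide +kernel

theorem p_cert : parOK yP 3 cP certP = true := by decide +kernel

theorem pow_cert : powOK = true := by decide +kernel

theorem odd_cert : certOK (threeGens.getD 0 noElem).1 certThree.1 certThree.2 = true ∧
    certOK (fiveGens.getD 0 noElem).1 certFive.1 certFive.2 = true := by decide +kernel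

theorem z_clos : closOK yZ 5 closZ = true := by decide +kernel

theorem p_clos : closOK yP 3 closP = true := by decide +kernel

theorem y_ord : Nat.beq (packW (pwW yZ 5)) oneA = true ∧ Nat.beq (packW (pwW yP 3)) oneA = true ∧
    Nat.beq (packW (pwW xW 13)) oneA = true ∧ Nat.beq (actW yZ vv) vv = false ∧
      Nat.beq (actW yP vv) vv = false ∧ Nat.beq (actW xW vv) vv = false := by decide +kernel

theorem comm_ok : Nat.beq (packW (yZ ++ [0])) (packW (0 :: yZ)) = true ∧
    Nat.beq (packW (yP ++ [2])) (packW (2 :: yP)) = true ∧
    Nat.beq (packW [13, 0]) (packW [0, 13]) = true ∧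
    Nat.beq (packW [13, 2]) (packW [2, 13]) = true := by
  decide +kernel

theorem z_walk : ((List.range 2048).all fun i => walkEdge yZ walkZ i) = true := by decide +kernel

theorem p_walk : ((List.range 2048).all fun i => walkEdge yP walkP i) = true := by decide +kernel

theorem z_filt : ((List.range 2048).all fun i => filtOK yZ cZ walkZ i) = true := by decide +kernel

theorem p_filt : ((List.range 2048).all fun i => filtOK yP cP walkP i) = true := by decide +kernel

theorem orb_sorted : ((List.range 1754).all fun i => Nat.blt (ovec i) (ovec (i + 1))) = true ∧
    Nat.blt (ovec 1754) (2 ^ 52) = true := by decide +kernel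

theorem orb_move0 : moveOK 0 = true := by decide +kernel

theorem orb_move1 : moveOK 1 = true := by decide +kernel

theorem orb_move2 : moveOK 2 = true := by decide +kernel

theorem orb_move3 : moveOK 3 = true := by decide +kernel

theorem x_free : ((List.range 1755).all fun i => !Nat.beq (actW xW (ovec i)) (ovec i)) = true := by
  decide +kernel

theorem three_free : ((List.range 1755).all fun i => !Nat.beq (app mThree (ovec i) % 2 ^ 52) (ovec i)) = true := by
  decide +kernel

theorem five_fix : Nat.beq
    ((List.range 1755).filter fun i => Nat.beq (app mFive (ovec i) % 2 ^ 52) (ovec i)).length 5 = true := by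
  decide +kernel

theorem three_lines : Nat.beq ((List.range 1755).filter fun i =>
    Nat.beq ((ovec i ^^^ app mThree (ovec i) ^^^ app mThree (app mThree (ovec i))) % 2 ^ 52) 0).length 27 = true := by
  decide +kernel

end Cfsg.Agent.Small.FFourTwistThompson.TitsCov
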