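import Mathlib.GroupTheory.Sylow
import Mathlib.GroupTheory.Perm.Cycle.Type

/-!
General facts for covering a finite group by products of conjugates: Sylow conjugation into a given
subgroup, subgroups made of translates, and elements commuting with an element of prime order.
-/

set_option autoImplicit false

namespace Cfsg.Agent.Small.FFourTwistThompson.TitsCov

variable {G : Type*} [Group G] [Finite G]

theorem conj_into {p : ℕ} [Fact p.Prime] {P : Subgroup G} (hP : IsPGroup p ↥P) (hi : ¬ p ∣ P.index) {g : G}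
    {k : ℕ} (hg : g ^ p ^ k = 1) : ∃ c : G, c * g * c⁻¹ ∈ P := by
  have hz : IsPGroup p ↥(Subgroup.zpowers g) := by
    rintro ⟨y, hy⟩
    obtain ⟨i, rfl⟩ := Subgroup.mem_zpowers_iff.1 hy
    refine ⟨k, Subtype.ext ?_⟩
    show (g ^ i) ^ p ^ k = 1
    rw [← zpow_natCast, ← zpow_mul, mul_comm, zpow_mul, zpow_natCast, hg, one_zpow]
  obtain ⟨Q, hQ⟩ := hz.exists_le_sylow
  obtain ⟨c, hc⟩ := MulAction.exists_smul_eq G (hP.toSylow hi) Q
  have hgQ := hQ (Subgroup.mem_zpowers g)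
  rw [← hc, Sylow.coe_subgroup_smul, Subgroup.mem_pointwise_smul_iff_inv_smul_mem] at hgQ
  exact ⟨c⁻¹, by simpa [MulAut.conj_inv_apply] using hgQ⟩

theorem subgroup_translates (B : Subgroup G) (Y : G) {q : ℕ} (hq : 0 < q) (hY : Y ^ q = 1) (S : Set G)
    (hS : B ≤ Subgroup.closure S) (h : ∀ s ∈ S, ∀ j < q, ∃ i < q, ∃ b ∈ B, s * Y ^ j = Y ^ i * b) :
    ∃ Q : Subgroup G, B ≤ Q ∧ Y ∈ Q ∧ ∀ g ∈ Q, ∃ j < q, ∃ b ∈ B, g = Y ^ j * b := by
  refine ⟨Subgroup.closure (S ∪ {Y}), hS.trans (Subgroup.closure_mono Set.subset_union_left),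
    Subgroup.subset_closure (Or.inr rfl), fun g hg => ?_⟩
  have hg' : g ∈ Submonoid.closure (S ∪ {Y}) := by
    rwa [← Subgroup.mem_toSubmonoid, Subgroup.closure_toSubmonoid_of_finite] at hg
  clear hg
  induction hg' using Submonoid.closure_induction_left with
  | one => exact ⟨0, hq, 1, one_mem _, by simp⟩
  | mul_left x hx y hy ih =>
    obtain ⟨j, hj, b, hb, rfl⟩ := ih
    rcases hx with hx | hx
    · obtain ⟨i, hi, b', hb', e⟩ := h x hx j hj
      exact ⟨i, hi, b' * b, mul_mem hb' hb, by rw [← mul_assoc, e, mul_assoc]⟩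
    · rw [Set.mem_singleton_iff.1 hx]
      exact ⟨(j + 1) % q, Nat.mod_lt _ hq, b, hb, by
        rw [← pow_eq_pow_mod _ hY, pow_succ', mul_assoc]⟩

theorem conj_commute {q : ℕ} [Fact q.Prime] {P : Subgroup G} {a : ℕ} (hP : Nat.card ↥P = a * q)
    (ha : ¬ q ∣ a) {Y g : G} (hY : Y ∈ P) (hYq : orderOf Y = q) (hg : g ∈ P) (hq : q ∣ orderOf g) :
    ∃ c : G, c * g * c⁻¹ ∈ P ∧ Commute (c * g * c⁻¹) Y := by
  have hpos : 0 < q := (Fact.out : q.Prime).pos
  obtain ⟨b, hb⟩ : ∃ b : ↥P, b = (⟨g, hg⟩ : ↥P) ^ (orderOf g / q) := ⟨_, rfl⟩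
  have hg' : orderOf (⟨g, hg⟩ : ↥P) = orderOf g := Subgroup.orderOf_mk g hg
  have hbq : orderOf b = q := by
    rw [hb, ← hg']
    exact orderOf_pow_orderOf_div (orderOf_pos _).ne' (hg'.symm ▸ hq)
  have hY' : orderOf (⟨Y, hY⟩ : ↥P) = q := by rw [Subgroup.orderOf_mk, hYq]
  have hZ : IsPGroup q ↥(Subgroup.zpowers (⟨Y, hY⟩ : ↥P)) :=
    IsPGroup.of_card (n := 1) (by rw [Nat.card_zpowers, hY', pow_one])
  have hi : ¬ q ∣ (Subgroup.zpowers (⟨Y, hY⟩ : ↥P)).index := by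
    have h := (Subgroup.zpowers (⟨Y, hY⟩ : ↥P)).card_mul_index
    rw [Nat.card_zpowers, hY', hP, mul_comm a q] at h
    rw [mul_left_cancel₀ hpos.ne' h]
    exact ha
  obtain ⟨c, hc⟩ := conj_into hZ hi (k := 1) (show b ^ q ^ 1 = 1 by rw [pow_one, ← hbq]; exact pow_orderOf_eq_one b)
  have heq : Subgroup.zpowers (c * b * c⁻¹) = Subgroup.zpowers (⟨Y, hY⟩ : ↥P) := by
    refine Subgroup.eq_of_le_of_card_ge (Subgroup.zpowers_le.2 hc) ?_
    rw [Nat.card_zpowers, Nat.card_zpowers, hY', show c * b * c⁻¹ = MulAut.conj c b from rfl,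
      MulEquiv.orderOf_eq, hbq]
  refine ⟨(c : G), mul_mem (mul_mem c.2 hg) (inv_mem c.2), ?_⟩
  have hm : (⟨Y, hY⟩ : ↥P) ∈ Subgroup.zpowers (c * b * c⁻¹) := heq ▸ Subgroup.mem_zpowers _
  obtain ⟨i, hi'⟩ := Subgroup.mem_zpowers_iff.1 hm
  have hcb : Commute (c * ⟨g, hg⟩ * c⁻¹) (c * b * c⁻¹) := by
    rw [hb, ← conj_pow]
    exact Commute.self_pow _ _
  have := (hcb.zpow_right i).map P.subtype
  rw [hi'] at this
  simpa using this

/-- A map of prime period on a finite set of size prime to the period fixes a point. -/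
theorem fix_point {α : Type*} [Fintype α] {q : ℕ} [Fact q.Prime] (hc : ¬ q ∣ Fintype.card α) (σ : α → α)
    (hσ : ∀ a, σ^[q] a = a) : ∃ a, σ a = a := by
  have hq : 0 < q := (Fact.out : q.Prime).pos
  let e : Equiv.Perm α :=
    { toFun := σ
      invFun := σ^[q - 1]
      left_inv := fun a => by
        show σ^[q - 1] (σ a) = a
        rw [← Function.iterate_succ_apply, Nat.succ_eq_add_one, Nat.sub_add_cancel hq, hσ]
      right_inv := fun a => by
        show σ (σ^[q - 1] a) = a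
        rw [← Function.iterate_succ_apply' σ, Nat.succ_eq_add_one, Nat.sub_add_cancel hq, hσ] }
  refine Equiv.Perm.exists_fixed_point_of_prime (n := 1) hc (σ := e) ?_
  refine Equiv.ext fun a => ?_
  rw [pow_one, Equiv.Perm.coe_pow]
  exact hσ a

end Cfsg.Agent.Small.FFourTwistThompson.TitsCov
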