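import Cfsg.Agent.Lib.Small.FFourTwistThompson.TitsCheck
import Cfsg.Agent.Lib.Small.FFourTwistThompson.TitsGen
import Cfsg.Agent.Lib.Lie.TitsDegrees
import Cfsg.Agent.Lib.Lie.FixSylow.Tits

/-!
Elements of the Tits group given by words, certificates, the two-elements, and an orbit of 1755 vectors.
-/

set_option autoImplicit false
set_option maxRecDepth 20000

noncomputable section

namespace Cfsg.Agent.Small.FFourTwistThompson.TitsCov

open Cfsg.Lie Cfsg.Agent.Lie F4Two TitsMult
open Cfsg.Agent.Lie.FixSylow.TitsGp (M2_comm getF getF_eq)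
open Cfsg.Agent.Lie.TitsDegrees (tv)
open scoped MatrixGroups Matrix

attribute [local irreducible] F4Two.mulL wM gW gE TitsMult.evL evX packW actW stepC stepP Cfsg.Agent.Lie.TitsMult.gen getF

/-- The Tits group. -/
abbrev TG : Type := TitsGroup

instance finite_TG : Finite TG := by
  haveI := TitsMult.finite_GT
  exact Subtype.finite

theorem evL_append (u w : List ℕ) : TitsMult.evL (u ++ w) = TitsMult.evL u * TitsMult.evL w := by
  unfold TitsMult.evL
  simp

theorem tv_val (w : List ℕ) : (tv w).1 = TitsMult.evL w := rfl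

theorem tv_append (u w : List ℕ) : tv (u ++ w) = tv u * tv w :=
  Subtype.ext (by rw [Subgroup.coe_mul, tv_val, tv_val, tv_val, evL_append])

theorem tv_nil : tv [] = 1 :=
  Subtype.ext (by rw [OneMemClass.coe_one, tv_val]; unfold TitsMult.evL; simp)

theorem tv_pwW (w : List ℕ) : ∀ k, tv (pwW w k) = tv w ^ k
  | 0 => by rw [pwW, tv_nil, pow_zero]
  | k + 1 => by rw [pwW, tv_append, tv_pwW w k, pow_succ']

theorem lettersL_spec {w : List ℕ} (h : lettersL w = true) : lettersX w = true ∧ ∀ s ∈ w, s < 13 := by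
  simp only [lettersL, List.all_eq_true, Nat.blt_eq] at h
  refine ⟨?_, h⟩
  simp only [lettersX, List.all_eq_true, Nat.blt_eq]
  exact fun s hs => (h s hs).trans (by norm_num)

theorem tv_eq {u w : List ℕ} (hu : lettersL u = true) (hw : lettersL w = true)
    (h : Nat.beq (packW u) (packW w) = true) : tv u = tv w := by
  refine Subtype.ext ?_
  rw [tv_val, tv_val, ← evX_evL u (lettersL_spec hu).2, ← evX_evL w (lettersL_spec hw).2]
  exact evX_eq (lettersL_spec hu).1 (lettersL_spec hw).1 h

theorem packW_nil : packW [] = oneA := by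
  unfold packW
  rfl

theorem lettersL_append {u w : List ℕ} (hu : lettersL u = true) (hw : lettersL w = true) :
    lettersL (u ++ w) = true := by
  rw [lettersL, List.all_append, Bool.and_eq_true]
  exact ⟨hu, hw⟩

/-- The element of order 13. -/
def X : TG := tv xW

/-- A product of two conjugates of the element of order 13. -/
def Cov (g : TG) : Prop := ∃ u v : TG, g = u * X * u⁻¹ * (v * X * v⁻¹)

theorem cov_conj {g : TG} (c : TG) (h : Cov (c * g * c⁻¹)) : Cov g := by
  obtain ⟨u, v, e⟩ := h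
  refine ⟨c⁻¹ * u, c⁻¹ * v, ?_⟩
  rw [show g = c⁻¹ * (c * g * c⁻¹) * c by group, e]
  group

theorem cov_cert {e h k : List ℕ} (hc : certOK e h k = true) : Cov (tv e) := by
  simp only [certOK, Bool.and_eq_true] at hc
  obtain ⟨⟨he, hh, hk⟩, hb⟩ := hc
  have hx : lettersL xW = true := by decide
  have h1 := tv_eq (lettersL_append he (lettersL_append hh hk))
    (lettersL_append hh (lettersL_append hx (lettersL_append hk hx))) hb
  simp only [tv_append] at h1
  refine ⟨tv h, tv h * tv k, ?_⟩
  calc tv e = tv e * (tv h * tv k) * (tv h * tv k)⁻¹ := by group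
    _ = tv h * (X * (tv k * X)) * (tv h * tv k)⁻¹ := by rw [h1]; rfl
    _ = _ := by group

theorem prod_gen : ∀ w : List ℕ, (w.map (gen twoGens)).prod = TitsMult.evL (lw w)
  | [] => by unfold TitsMult.evL; simp [lw]
  | s :: w => by
    rw [List.map_cons, List.prod_cons, prod_gen w,
      show lw (s :: w) = (twoGens.getD s noElem).1 ++ lw w from List.flatMap_cons .., evL_append]
    unfold Cfsg.Agent.Lie.TitsMult.gen
    rfl

/-- An element of the two-group. -/
def tT (i : ℕ) : TG := tv (lw (twoCert.wd i))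

theorem t_eq (i : ℕ) : setup2.t i = (tT i).1 := by
  rw [show setup2.t i = ((twoCert.wd i).map (gen twoGens)).prod from rfl, prod_gen]
  rfl

/-- The two-group in the Tits group. -/
def M2T : Subgroup TG := M2.subgroupOf (commutator GT)

theorem card_M2T : Nat.card M2T = 2048 := by
  rw [M2T, Nat.card_congr (Subgroup.subgroupOfEquivOfLe M2_comm).toEquiv, card_M2]

theorem M2T_table {g : TG} (hg : g ∈ M2T) : ∃ i < 2048, g = tT i := by
  obtain ⟨i, hi, e⟩ := M2_table (Subgroup.mem_subgroupOf.1 hg)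
  exact ⟨i, hi, Subtype.ext (e.trans (t_eq i))⟩

theorem tree_step {i : ℕ} (hi : i < 2048) (h0 : i ≠ 0) : twoPar.get i / 16 < i ∧ twoPar.get i % 16 < 2 ∧
    twoCert.wd i = twoCert.wd (twoPar.get i / 16) ++ [twoPar.get i % 16] ∧
      twoCert.step (twoPar.get i / 16) (twoPar.get i % 16) = i := by
  have h := setup2.valid.tree i hi
  rw [CentralLocal.Cert.treeCheck, show Nat.beq i 0 = false by rw [← Bool.not_eq_true, Nat.beq_eq]; exact h0] at h
  simp only [cond_false, Bool.and_eq_true, Nat.blt_eq, beq_iff_eq, Nat.beq_eq] at h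
  exact ⟨h.1, h.2.1, h.2.2.1, h.2.2.2⟩

theorem wd_letters : ∀ i < twoCert.N, twoCert.letters (twoCert.wd i) = true := by
  intro i
  induction i using Nat.strong_induction_on with
  | _ i ih =>
    intro hi
    by_cases h0 : i = 0
    · subst h0
      have h := setup2.valid.tree 0 hi
      simp only [CentralLocal.Cert.treeCheck, show Nat.beq 0 0 = true from rfl, cond_true, Bool.and_eq_true,
        List.isEmpty_iff] at h
      rw [h.1]
      rfl
    · obtain ⟨h1, h2, h3, -⟩ := tree_step hi h0
      rw [h3, CentralLocal.Cert.letters, List.all_append, Bool.and_eq_true]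
      refine ⟨ih _ h1 (h1.trans hi), ?_⟩
      simp only [List.all_cons, List.all_nil, Bool.and_true, Nat.blt_eq]
      exact h2

theorem two_cov {g : TG} (hg : g ∈ M2T) (h1 : g ≠ 1) : Cov g := by
  obtain ⟨i, hi, rfl⟩ := M2T_table hg
  have ht := conj_all i hi
  simp only [conjTest, Bool.and_eq_true, Nat.blt_eq, Nat.beq_eq, List.contains_eq_mem, decide_eq_true_iff] at ht
  obtain ⟨c, hc⟩ : ∃ n, n = conjT.get i / 2048 := ⟨_, rfl⟩
  obtain ⟨r, hr⟩ : ∃ n, n = conjT.get i % 2048 := ⟨_, rfl⟩
  rw [← hc, ← hr] at ht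
  obtain ⟨hcN, hrN, hmem, heq⟩ := ht
  have hl : ∀ j, j < twoCert.N → ∀ a, a < twoCert.N →
      setup2.t a * setup2.t j = setup2.t (twoCert.endp a (twoCert.wd j)) := fun j hj a ha =>
    (setup2.code_walk (twoCert.wd j) ha (wd_letters j hj)).2
  have hconj : setup2.t c * setup2.t i = setup2.t r * setup2.t c := by
    rw [hl i hi c hcN, hl c hcN r hrN, heq]
  rw [t_eq, t_eq, t_eq] at hconj
  have e : tT c * tT i * (tT c)⁻¹ = tT r := by
    rw [mul_inv_eq_iff_eq_mul]
    exact Subtype.ext hconj
  refine cov_conj (tT c) ?_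
  rw [e]
  have h := List.all_eq_true.1 two_cert r hmem
  simp only [Bool.or_eq_true, Nat.beq_eq, List.any_eq_true, Bool.and_eq_true] at h
  rcases h with h | ⟨p, -, -, hp⟩
  · exfalso
    subst h
    have e0 : tT 0 = 1 := Subtype.ext ((t_eq 0).symm.trans setup2.base.1)
    rw [e0] at e
    exact h1 (conj_eq_one_iff.1 e)
  · exact cov_cert hp

/-! ### The orbit -/

/-- A vector of the orbit. -/
def gV (i : ℕ) : chevF4.Idx → ZMod 2 := vec (ovec i)

/-- The action on vectors. -/
def mv (g : TG) (v : chevF4.Idx → ZMod 2) : chevF4.Idx → ZMod 2 := g.1.1.val *ᵥ v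

theorem mv_mul (g h : TG) (v : chevF4.Idx → ZMod 2) : mv (g * h) v = mv g (mv h v) := by
  simp only [mv, Subgroup.coe_mul, Units.val_mul, Matrix.mulVec_mulVec]

theorem mv_one (v : chevF4.Idx → ZMod 2) : mv 1 v = v := by
  simp only [mv, OneMemClass.coe_one, Units.val_one, Matrix.one_mulVec]

theorem ovec_mono {i : ℕ} : ∀ {j : ℕ}, i < j → j < 1755 → ovec i < ovec j := by
  intro j
  induction j with
  | zero => intro h; exact absurd h (Nat.not_lt_zero i)
  | succ j ih =>
    intro hij hj
    have h := List.all_eq_true.1 orb_sorted.1 j (List.mem_range.2 (by omega))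
    rw [Nat.blt_eq] at h
    rcases Nat.lt_or_eq_of_le (Nat.le_of_lt_succ hij) with h' | rfl
    · exact (ih h' (by omega)).trans h
    · exact h

theorem ovec_lt {i : ℕ} (hi : i < 1755) : ovec i < 2 ^ 52 := by
  have h : ovec 1754 < 2 ^ 52 := Nat.blt_eq.mp orb_sorted.2
  rcases Nat.lt_or_eq_of_le (show i ≤ 1754 by omega) with h' | rfl
  · exact (ovec_mono h' (by norm_num)).trans h
  · exact h

theorem gV_inj {i j : ℕ} (hi : i < 1755) (hj : j < 1755) (h : gV i = gV j) : i = j := by
  have e := congrArg nv h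
  rw [gV, gV, nv_vec, nv_vec, Nat.mod_eq_of_lt (ovec_lt hi), Nat.mod_eq_of_lt (ovec_lt hj)] at e
  rcases lt_trichotomy i j with h' | h' | h'
  · exact absurd e (ovec_mono h' hj).ne
  · exact h'
  · exact absurd e.symm (ovec_mono h' hi).ne

/-- The stabiliser of the orbit, as a monoid. -/
def stab : Submonoid GT where
  carrier := {g | ∀ i < 1755, ∃ j < 1755, g.1.val *ᵥ gV i = gV j}
  one_mem' := fun i hi => ⟨i, hi, by simp⟩
  mul_mem' := by
    intro a b ha hb i hi
    obtain ⟨j, hj, e⟩ := hb i hi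
    obtain ⟨k, hk, e'⟩ := ha j hj
    exact ⟨k, hk, by rw [Subgroup.coe_mul, Units.val_mul, ← Matrix.mulVec_mulVec, e, e']⟩

theorem gen_stab {s : ℕ} (hs : s < 4) : LG (9 + s) ∈ stab := by
  intro i hi
  have hm : moveOK s = true := by
    interval_cases s
    exacts [orb_move0, orb_move1, orb_move2, orb_move3]
  have h := List.all_eq_true.1 hm i (List.mem_range.2 hi)
  simp only [Bool.and_eq_true, Nat.blt_eq, Nat.beq_eq] at h
  refine ⟨_, h.1, ?_⟩
  have e := step_mulVec (show 9 + s < 15 by omega) 52 le_rfl _ (ovec_lt hi)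
  rw [h.2, LE, if_pos (show 9 + s < 13 by omega)] at e
  exact e

theorem mv_orbit (g : TG) {i : ℕ} (hi : i < 1755) : ∃ j < 1755, mv g (gV i) = gV j := by
  haveI := TitsMult.finite_GT
  let K : Subgroup GT :=
    { toSubmonoid := stab
      inv_mem' := by
        intro x hx
        obtain ⟨m, hm⟩ := isOfFinOrder_iff_pow_eq_one.1 (isOfFinOrder_of_finite x)
        have e : x⁻¹ = x ^ (m - 1) := inv_eq_of_mul_eq_one_right (by
          rw [← pow_succ', Nat.sub_add_cancel hm.1, hm.2])
        exact e ▸ stab.pow_mem hx (m - 1) }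
  have hgen : ∀ s < 2, gen twoGens s = LG (9 + s) := by
    intro s hs
    unfold Cfsg.Agent.Lie.TitsMult.gen TitsMult.evL
    interval_cases s
    · rw [show (twoGens.getD 0 noElem).1 = [9] from rfl]; simp
    · rw [show (twoGens.getD 1 noElem).1 = [10] from rfl]; simp
  have hK : FixSylow.TitsGp.H ≤ K := by
    refine sup_le ((Subgroup.closure_le _).2 ?_) ((Subgroup.closure_le _).2 ?_)
    · rintro _ ⟨s, hs, rfl⟩
      show gen twoGens s ∈ stab
      rw [hgen s hs]
      exact gen_stab (Nat.lt_trans hs (by norm_num))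
    · rintro _ (rfl | rfl)
      · have h := gen_stab (show 2 < 4 by norm_num)
        rwa [LG, if_neg (by norm_num), if_pos rfl] at h
      · have h := gen_stab (show 3 < 4 by norm_num)
        rwa [LG, if_neg (by norm_num), if_neg (by norm_num), if_pos rfl] at h
  exact (hK.trans le_rfl) (FixSylow.TitsGp.comm_le_H g.2) i hi

/-- An element of prime order commuting with the data of a point set fixes a point of the orbit. -/
theorem exists_fix {q : ℕ} [Fact q.Prime] {d : TG} (hd : d ^ q = 1) (f : ℕ → Bool) {n : ℕ}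
    (hn : ((List.range 1755).filter f).length = n) (hq : ¬ q ∣ n)
    (hf : ∀ i < 1755, ∀ j < 1755, mv d (gV i) = gV j → f i = true → f j = true) :
    ∃ i < 1755, mv d (gV i) = gV i := by
  classical
  let s : Finset ℕ := ((List.range 1755).filter f).toFinset
  have hs : s.card = n := by
    rw [List.toFinset_card_of_nodup (List.nodup_range.filter _), hn]
  have hmem : ∀ i, i ∈ s ↔ i < 1755 ∧ f i = true := fun i => by simp [s]
  have step : ∀ a : {i // i ∈ s}, ∃ b : {i // i ∈ s}, mv d (gV a.1) = gV b.1 := fun a => by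
    obtain ⟨ha, hfa⟩ := (hmem a.1).1 a.2
    obtain ⟨j, hj, e⟩ := mv_orbit d ha
    exact ⟨⟨j, (hmem j).2 ⟨hj, hf _ ha j hj e hfa⟩⟩, e⟩
  choose σ hσ using step
  have iter : ∀ (k : ℕ) (a : {i // i ∈ s}), mv (d ^ k) (gV a.1) = gV (σ^[k] a).1 := by
    intro k
    induction k with
    | zero => intro a; rw [pow_zero, mv_one, Function.iterate_zero_apply]
    | succ k ih => intro a; rw [pow_succ, mv_mul, hσ, ih, Function.iterate_succ_apply]
  have hper : ∀ a, σ^[q] a = a := fun a => by
    have e := iter q a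
    rw [hd, mv_one] at e
    exact Subtype.ext (gV_inj ((hmem _).1 a.2).1 ((hmem _).1 (σ^[q] a).2).1 e).symm
  obtain ⟨a, ha⟩ := fix_point (by rw [Fintype.card_coe, hs]; exact hq) σ hper
  exact ⟨a.1, ((hmem _).1 a.2).1, (hσ a).trans (by rw [ha])⟩

end Cfsg.Agent.Small.FFourTwistThompson.TitsCov
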