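import Cfsg.Agent.Lib.Small.FFourTwistThompson.TitsOdd

/-!
The elements of the Tits group commuting with an involution: two parabolic subgroups, and the covering by
products of two conjugates of the element of order 13.
-/

set_option autoImplicit false
set_option maxRecDepth 20000

noncomputable section

namespace Cfsg.Agent.Small.FFourTwistThompson.TitsCov

open Cfsg.Lie Cfsg.Agent.Lie F4Two TitsMult
open Cfsg.Agent.Lie.TitsDegrees (tv)
open Cfsg.Agent.Lie.FixSylow.TitsGp (M2_comm Pp_inter getF getF_eq)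
open scoped MatrixGroups Matrix

attribute [local irreducible] F4Two.mulL wM gW gE TitsMult.evL evX packW actW stepC stepP app chevF4 getF

theorem elt_word {k : ℕ} (hk : k < 12) : LE (gX k) = gE k := by
  interval_cases k <;> simp [LE, gX, LG]

theorem pos_word {w : List ℕ} (h : lettersP w = true) : evX w ∈ Pp := by
  unfold evX
  refine Subgroup.list_prod_mem _ fun y hy => ?_
  obtain ⟨s, hs, rfl⟩ := List.mem_map.1 hy
  have hs' := List.all_eq_true.1 h s hs
  simp only [Bool.or_eq_true, Nat.blt_eq, Nat.beq_eq] at hs'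
  rcases hs' with h' | rfl
  · rw [LE, if_pos (h'.trans (by norm_num))]
    exact LG_pos h'
  · rw [LE, if_neg (by norm_num), if_pos rfl]
    exact Subgroup.mem_subgroupOf.2 (gE_pos (by norm_num))

theorem lettersP_X {w : List ℕ} (h : lettersP w = true) : lettersX w = true := by
  simp only [lettersX, List.all_eq_true, Nat.blt_eq]
  intro s hs
  have hs' := List.all_eq_true.1 h s hs
  simp only [Bool.or_eq_true, Nat.blt_eq, Nat.beq_eq] at hs'
  omega

theorem lettersX_append {u w : List ℕ} (hu : lettersX u = true) (hw : lettersX w = true) :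
    lettersX (u ++ w) = true := by
  rw [lettersX, List.all_append, Bool.and_eq_true]
  exact ⟨hu, hw⟩

theorem lettersL_pwW {w : List ℕ} (h : lettersL w = true) : ∀ k, lettersL (pwW w k) = true
  | 0 => rfl
  | k + 1 => lettersL_append h (lettersL_pwW h k)

theorem evX_pwW (w : List ℕ) : ∀ k, evX (pwW w k) = evX w ^ k
  | 0 => by unfold evX; simp [pwW]
  | k + 1 => by rw [pwW, evX_append, evX_pwW w k, pow_succ']

theorem Pp_closure : Pp ≤ Subgroup.closure (gE '' {k | k < 12}) := by
  intro g hg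
  obtain ⟨w, hw, rfl⟩ := mem_list_of_mem_pos hg
  refine Subgroup.list_prod_mem _ fun y hy => ?_
  obtain ⟨k, hk, rfl⟩ := List.mem_map.1 hy
  exact Subgroup.subset_closure ⟨k, Ws_lt 12 w hw k hk, rfl⟩

/-- The translates of the positive part form a group. -/
theorem exists_parabolic {Y : List ℕ} (hY : lettersL Y = true) {q : ℕ} (hq : 0 < q) (hYq : tv Y ^ q = 1)
    {cl : List (List (ℕ × List ℕ))} (hcl : closOK Y q cl = true) :
    ∃ Q : Subgroup GT, Pp ≤ Q ∧ (tv Y).1 ∈ Q ∧ ∀ g ∈ Q, ∃ j < q, ∃ p ∈ Pp, g = (tv Y).1 ^ j * p := by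
  haveI := TitsMult.finite_GT
  have hYX : evX Y = (tv Y).1 := evX_evL Y (lettersL_spec hY).2
  refine subgroup_translates Pp _ hq (by rw [← Subgroup.coe_pow, hYq, OneMemClass.coe_one]) _ Pp_closure ?_
  rintro _ ⟨k, hk, rfl⟩ j hj
  have h := List.all_eq_true.1 (List.all_eq_true.1 hcl k (List.mem_range.2 hk)) j (List.mem_range.2 hj)
  generalize (cl.getD k []).getD j (0, []) = c at h
  simp only [closRow, Bool.and_eq_true, Nat.blt_eq] at h
  obtain ⟨hi, hw, hb⟩ := h
  refine ⟨c.1, hi, evX c.2, pos_word hw, ?_⟩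
  have hl : lettersX (gX k :: pwW Y j) = true := by
    have h' := (lettersL_spec (lettersL_pwW hY j)).1
    simp only [lettersX, List.all_cons, Bool.and_eq_true, Nat.blt_eq] at h' ⊢
    exact ⟨by unfold gX; have : k < 12 := hk; split_ifs <;> omega, h'⟩
  have e := evX_eq hl (lettersX_append (lettersL_spec (lettersL_pwW hY c.1)).1 (lettersP_X hw)) hb
  rw [evX_append, evX_pwW, hYX,
    show evX (gX k :: pwW Y j) = LE (gX k) * evX (pwW Y j) by unfold evX; simp,
    elt_word hk, evX_pwW, hYX] at e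
  exact e

theorem gen_inv (s : ℕ) (hs : s < 2) : (gen twoGens s)⁻¹ = LE (invG s) := by
  interval_cases s
  · rw [invG, if_pos rfl, LE, if_pos (by norm_num),
      show gen twoGens 0 = TitsMult.evL [9] by
        unfold Cfsg.Agent.Lie.TitsMult.gen; rw [show (twoGens.getD 0 noElem).1 = [9] from rfl]]
    have h : evX [9, 9] = evX [] := evX_eq rfl rfl (by decide +kernel)
    unfold evX at h
    simp only [LE, List.map_cons, List.map_nil, List.prod_cons, List.prod_nil, mul_one,
      show (9 : ℕ) < 13 from by norm_num, if_true] at h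
    unfold TitsMult.evL
    simp only [List.map_cons, List.map_nil, List.prod_cons, List.prod_nil, mul_one]
    exact inv_eq_of_mul_eq_one_right h
  · rw [invG, if_neg (by norm_num), LE, if_neg (by norm_num), if_neg (by norm_num)]

theorem elt_spec {i : ℕ} (hi : i < 2048) :
    getF twoElt i < 2 ^ 52 ∧ ((tT i).1⁻¹).1.val *ᵥ vec vv = vec (getF twoElt i) := by
  have h := setup2.code_t i hi
  have hp : setup2.t i ∈ Pp := by
    rw [show setup2.t i = ((twoCert.wd i).map (gen twoGens)).prod from rfl]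
    refine M2_le (Subgroup.list_prod_mem _ fun y hy => ?_)
    obtain ⟨s, hs, rfl⟩ := List.mem_map.1 hy
    exact Subgroup.subset_closure ⟨s, Nat.blt_eq.mp (List.all_eq_true.1 (wd_letters i hi) s hs), rfl⟩
  have h' : codeV (setup2.t i) = twoElt.get i := h
  rw [codeV, if_pos hp, t_eq, ← getF_eq] at h'
  rw [← h']
  exact ⟨nv_lt _, (vec_nv _).symm⟩

theorem walk_spec {Y : List ℕ} (hY : lettersL Y = true) {W : Janko.Tree ℕ}
    (hW : ((List.range 2048).all fun i => walkEdge Y W i) = true) :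
    ∀ i < 2048, getF W i < 2 ^ 52 ∧ ((tT i).1⁻¹).1.val *ᵥ ((tv Y).1.1.val *ᵥ vec vv) = vec (getF W i) := by
  intro i
  induction i using Nat.strong_induction_on with
  | _ i ih =>
    intro hi
    have h := List.all_eq_true.1 hW i (List.mem_range.2 hi)
    unfold walkEdge at h
    by_cases h0 : i = 0
    · subst h0
      rw [show Nat.beq 0 0 = true from rfl, cond_true, Nat.beq_eq] at h
      obtain ⟨h1, h2⟩ := mv_vec hY (show vv < 2 ^ 52 by decide)
      rw [h]
      refine ⟨h2, ?_⟩
      rw [show (tT 0).1 = 1 from (t_eq 0).symm.trans setup2.base.1, inv_one, OneMemClass.coe_one, Units.val_one,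
        Matrix.one_mulVec]
      exact h1
    · rw [show Nat.beq i 0 = false by rw [← Bool.not_eq_true, Nat.beq_eq]; exact h0, cond_false, Nat.beq_eq,
        getF_eq twoPar] at h
      obtain ⟨hp, hs, -, hst⟩ := tree_step hi h0
      generalize twoPar.get i / 16 = p at h hp hst
      generalize twoPar.get i % 16 = s at h hs hst
      obtain ⟨b, e⟩ := ih p hp (hp.trans hi)
      have hstep : setup2.t p * gen twoGens s = setup2.t i := by
        have := setup2.step_image (hp.trans hi) (show s < twoCert.k from hs)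
        rw [hst] at this
        exact this
      have hinv : (tT i).1⁻¹ = LE (invG s) * (tT p).1⁻¹ := by
        rw [← t_eq, ← hstep, _root_.mul_inv_rev, gen_inv s hs, t_eq]
      have hl : invG s < 15 := by unfold invG; split_ifs <;> norm_num
      rw [h]
      refine ⟨stepC_lt hl _, ?_⟩
      rw [hinv, Subgroup.coe_mul, Units.val_mul, ← Matrix.mulVec_mulVec, e]
      exact step_mulVec hl 52 le_rfl _ b

theorem filt_spec {Y C : List ℕ} (hY : lettersL Y = true) {W : Janko.Tree ℕ}
    (hW : ((List.range 2048).all fun i => walkEdge Y W i) = true)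
    (hF : ((List.range 2048).all fun i => filtOK Y C W i) = true) {i : ℕ} (hi : i < 2048)
    (hc : Commute (tT i) (tv Y)) : i ∈ C := by
  have h := List.all_eq_true.1 hF i (List.mem_range.2 hi)
  simp only [filtOK, Bool.or_eq_true, List.contains_eq_mem, decide_eq_true_iff, Bool.not_eq_true'] at h
  refine h.resolve_right fun hne => ?_
  obtain ⟨b1, e1⟩ := walk_spec hY hW i hi
  obtain ⟨b2, e2⟩ := elt_spec hi
  obtain ⟨e3, b3⟩ := mv_vec hY b2
  have hc' : (tT i).1⁻¹ * (tv Y).1 = (tv Y).1 * (tT i).1⁻¹ :=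
    ((hc.map (commutator GT).subtype).inv_left).eq
  have e : vec (getF W i) = vec (actW Y (getF twoElt i)) := by
    rw [← e1, Matrix.mulVec_mulVec, ← Units.val_mul, ← Subgroup.coe_mul, hc', Subgroup.coe_mul, Units.val_mul,
      ← Matrix.mulVec_mulVec, e2]
    exact e3
  have e' := congrArg nv e
  rw [nv_vec, nv_vec, Nat.mod_eq_of_lt b1, Nat.mod_eq_of_lt b3] at e'
  rw [e', Nat.beq_refl] at hne
  exact Bool.noConfusion hne

/-- The elements at a parabolic subgroup which are not two-elements are products of two conjugates. -/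
theorem par_cov {Y C : List ℕ} {q : ℕ} [Fact q.Prime] (hq2 : ¬ q ∣ 2048)
    {L : List (ℕ × ℕ × List ℕ × List ℕ)} {cl : List (List (ℕ × List ℕ))} {W : Janko.Tree ℕ}
    (hY : lettersL Y = true) (hYq : Nat.beq (packW (pwW Y q)) oneA = true)
    (hY1 : Nat.beq (actW Y vv) vv = false) (hcl : closOK Y q cl = true) (hL : parOK Y q C L = true)
    (hW : ((List.range 2048).all fun i => walkEdge Y W i) = true)
    (hF : ((List.range 2048).all fun i => filtOK Y C W i) = true) {N : GF} {e : GT}
    (hcY : Commute (tv Y).1 e)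
    (hcent : ∀ g : GT, Commute g e → g ∈ Pp ∨ ∃ u ∈ Pp, ∃ v ∈ Pp, g.1 = u.1 * N * v.1)
    {g : TG} (hg : Commute g.1 e) (hnp : ∀ k : ℕ, g ^ 2 ^ k ≠ 1) : Cov g := by
  haveI := TitsMult.finite_GT
  have hp : q.Prime := Fact.out
  have hYp : tv Y ^ q = 1 := tv_pow_one (lettersL_pwW hY q) hYq
  have hY0 : tv Y ≠ 1 := tv_ne hY hY1
  have hord : orderOf (tv Y) = q := orderOf_eq_prime hYp hY0
  obtain ⟨Q, hPQ, hYQ, hQ⟩ := exists_parabolic hY hp.pos hYp hcl
  -- the centraliser lies in the parabolic subgroup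
  have hYP : (tv Y).1 ∉ Pp := by
    intro h
    have h1 := Subgroup.orderOf_dvd_natCard Pp h
    rw [Subgroup.orderOf_coe, hord, show Nat.card ↥Pp = 4096 from card_data.2,
      show 4096 = 2048 * 2 from rfl] at h1
    rcases (Nat.Prime.dvd_mul hp).1 h1 with h2 | h2
    · exact hq2 h2
    · exact hq2 (h2.trans (by norm_num))
  have hCQ : ∀ x : GT, Commute x e → x ∈ Q := by
    intro x hx
    rcases hcent x hx with h | ⟨u, hu, v, hv, h⟩
    · exact hPQ h
    rcases hcent _ hcY with h' | ⟨u', hu', v', hv', h'⟩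
    · exact absurd h' hYP
    have ex : x = u * u'⁻¹ * (tv Y).1 * v'⁻¹ * v := by
      apply Subtype.ext
      simp only [Subgroup.coe_mul, Subgroup.coe_inv]
      rw [h, h']
      group
    rw [ex]
    exact mul_mem (mul_mem (mul_mem (mul_mem (hPQ hu) (inv_mem (hPQ hu'))) hYQ) (inv_mem (hPQ hv'))) (hPQ hv)
  obtain ⟨P, hPd⟩ : ∃ P : Subgroup TG, P = Q.subgroupOf (commutator GT) := ⟨_, rfl⟩
  have hform : ∀ x ∈ P, ∃ j < q, ∃ m ∈ M2T, x = tv Y ^ j * m := by
    intro x hx
    rw [hPd, Subgroup.mem_subgroupOf] at hx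
    obtain ⟨j, hj, p, hp', he⟩ := hQ _ hx
    have hpc : p ∈ commutator GT := by
      rw [show p = ((tv Y).1 ^ j)⁻¹ * x.1 by rw [he, inv_mul_cancel_left]]
      exact mul_mem (inv_mem (pow_mem (tv Y).2 j)) x.2
    exact ⟨j, hj, ⟨p, hpc⟩, Subgroup.mem_subgroupOf.2 (Pp_inter (Subgroup.mem_inf.2 ⟨hp', hpc⟩)),
      Subtype.ext (by rw [Subgroup.coe_mul, Subgroup.coe_pow]; exact he)⟩
  have hM : M2T ≤ P := by
    intro x hx
    rw [hPd, Subgroup.mem_subgroupOf]
    exact hPQ (M2_le (Subgroup.mem_subgroupOf.1 hx))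
  have hYP' : tv Y ∈ P := by rw [hPd, Subgroup.mem_subgroupOf]; exact hYQ
  have hcard : Nat.card ↥P = 2048 * q := by
    refine le_antisymm ?_ (Nat.le_of_dvd Nat.card_pos ?_)
    · have h : Nat.card ↥P ≤ Nat.card (Fin q × ↥M2T) := by
        refine Nat.card_le_card_of_surjective
          (fun x => (⟨tv Y ^ (x.1 : ℕ) * x.2.1, mul_mem (pow_mem hYP' _) (hM x.2.2)⟩ : ↥P)) ?_
        rintro ⟨x, hx⟩
        obtain ⟨j, hj, m, hm, rfl⟩ := hform x hx
        exact ⟨(⟨j, hj⟩, ⟨m, hm⟩), rfl⟩
      rwa [Nat.card_prod, Nat.card_fin, card_M2T, mul_comm] at h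
    · refine Nat.Coprime.mul_dvd_of_dvd_of_dvd ((hp.coprime_iff_not_dvd.2 hq2).symm) ?_ ?_
      · exact card_M2T ▸ Subgroup.card_dvd_of_le hM
      · exact hord ▸ Subgroup.orderOf_dvd_natCard P hYP'
  have hgP : g ∈ P := by rw [hPd, Subgroup.mem_subgroupOf]; exact hCQ _ hg
  have hdq : q ∣ orderOf g := by
    by_contra h
    have h1 : orderOf g ∣ 2 ^ 11 * q := by
      have := Subgroup.orderOf_dvd_natCard P hgP
      rwa [hcard, show 2048 = 2 ^ 11 by norm_num] at this
    have h2 := ((hp.coprime_iff_not_dvd.2 h).symm).dvd_of_dvd_mul_right h1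
    exact hnp 11 (orderOf_dvd_iff_pow_eq_one.1 h2)
  obtain ⟨c, hc, hcom⟩ := conj_commute hcard hq2 hYP' hord hgP hdq
  refine cov_conj c ?_
  obtain ⟨j, hj, m, hm, he⟩ := hform _ hc
  obtain ⟨i, hi, rfl⟩ := M2T_table hm
  have hmY : Commute (tT i) (tv Y) := by
    have := (Commute.pow_left (Commute.refl (tv Y)) j).inv_left.mul_left hcom
    rwa [he, inv_mul_cancel_left] at this
  have hiC := filt_spec hY hW hF hi hmY
  have h := List.all_eq_true.1 (List.all_eq_true.1 hL j (List.mem_range.2 hj)) i hiC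
  simp only [Bool.or_eq_true, Bool.and_eq_true, Nat.beq_eq, List.any_eq_true] at h
  rcases h with ⟨rfl, rfl⟩ | ⟨p, -, -, -, hp'⟩
  · exfalso
    have e0 : tT 0 = 1 := Subtype.ext ((t_eq 0).symm.trans setup2.base.1)
    rw [e0, pow_zero, one_mul] at he
    exact hnp 0 (by rw [pow_zero, pow_one]; exact conj_eq_one_iff.1 he)
  · have := cov_cert hp'
    rw [tv_append, tv_pwW] at this
    rw [he]
    exact this

end Cfsg.Agent.Small.FFourTwistThompson.TitsCov
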