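import Cfsg.Agent.Lib.Small.FFourTwistThompson.TitsInv

/-!
Every non-identity element of the Tits group is a product of two conjugates of an element of order 13.
-/

set_option autoImplicit false
set_option maxRecDepth 20000

noncomputable section

namespace Cfsg.Agent.Small.FFourTwistThompson.TitsCov

open Cfsg.Lie Cfsg.Agent.Lie F4Two TitsMult
open Cfsg.Agent.Lie.TitsDegrees (tv)
open Cfsg.Agent.Lie.FixSylow.TitsGp (gE_wx Pp_inter)
open Cfsg.Agent.Small.C2Inv.F4 (zRep pMid pRep zRep_eq cent_z cent_p std_all pMid_ct ct_isConj isConj_normal El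
  E_zero O_zero E sE ph)
open scoped MatrixGroups

attribute [local irreducible] F4Two.mulL wM gW gE TitsMult.evL evX packW actW stepC stepP app chevF4 Cfsg.Lie.twistedF4

theorem coe_zero : (gE 0).1 = zRep (ZMod 2) 0 := by
  rw [gE_wx (by norm_num), zRep_eq]
  simp [gP, wx]

theorem coe_two : (gE 2).1 = pMid (ZMod 2) 0 := by
  rw [gE_wx (by norm_num)]
  simp [gP, wx, pMid, El, O_zero, E, sE, ph, Cfsg.Agent.Small.C2Inv.F4.X_zero]

/-- The Weyl element of an orbit. -/
def NW (k : ℕ) : GF :=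
  (factsF4.tsys (ZMod 2)).nW (factsF4.refSys.pr (orbWord chevF4 Cfsg.Agent.Lie.F4.Os [k]))

theorem bruhat_split {k : ℕ} {g : GT} {u n v : GF} {ω : List ℕ} (hω : ω ∈ [([] : List ℕ), [k]])
    (hu : u ∈ (factsF4.tsys (ZMod 2)).U) (huG : u ∈ twistedF4 (ZMod 2) 1)
    (hv : v ∈ (factsF4.tsys (ZMod 2)).U) (hvG : v ∈ twistedF4 (ZMod 2) 1) (he : g.1 = u * n * v)
    (hn : ∃ a ∈ (factsF4.tsys (ZMod 2)).H,
      n = a * (factsF4.tsys (ZMod 2)).nW (factsF4.refSys.pr (orbWord chevF4 Cfsg.Agent.Lie.F4.Os ω))) :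
    g ∈ Pp ∨ ∃ u ∈ Pp, ∃ v ∈ Pp, g.1 = u.1 * NW k * v.1 := by
  have mem : ∀ x : GT, x.1 ∈ (factsF4.tsys (ZMod 2)).U → x ∈ Pp := fun x hx =>
    Subgroup.mem_subgroupOf.2 (by rwa [← factsF4.tsys_U])
  have hH : (factsF4.tsys (ZMod 2)).H = ⊥ := by rw [factsF4.tsys_H]; exact TitsTwoSimple.diag_eq_bot
  obtain ⟨a, ha, rfl⟩ := hn
  rw [hH, Subgroup.mem_bot] at ha
  subst ha
  simp only [List.mem_cons, List.not_mem_nil, or_false] at hω
  rcases hω with rfl | rfl
  · left
    refine mem g ?_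
    have hw1 : factsF4.refSys.pr (orbWord chevF4 Cfsg.Agent.Lie.F4.Os []) = 1 := rfl
    have hn1 : (factsF4.tsys (ZMod 2)).nW 1 ∈ (factsF4.tsys (ZMod 2)).H := (factsF4.tsys (ZMod 2)).nW_one
    rw [hH, Subgroup.mem_bot] at hn1
    rw [he, hw1, hn1, mul_one, mul_one]
    exact mul_mem hu hv
  · exact Or.inr ⟨⟨u, huG⟩, mem _ hu, ⟨v, hvG⟩, mem _ hv, by rw [he, one_mul]; rfl⟩

theorem cent_long {g : GT} (hg : Commute g (gE 0)) :
    g ∈ Pp ∨ ∃ u ∈ Pp, ∃ v ∈ Pp, g.1 = u.1 * NW 1 * v.1 := by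
  obtain ⟨S⟩ := F4.nonempty_setup (K := ZMod 2) (m := 0) (by simp)
  have h' : Commute g.1 (zRep (ZMod 2) 0) := by
    rw [← coe_zero]
    exact hg.map (twistedF4 (ZMod 2) 1).subtype
  obtain ⟨u, n, v, ω, hω, hu, huG, hv, hvG, he, hn⟩ := cent_z S g.2 h'
  exact bruhat_split hω hu huG hv hvG he hn

theorem cent_short {g : GT} (hg : Commute g (gE 2)) :
    g ∈ Pp ∨ ∃ u ∈ Pp, ∃ v ∈ Pp, g.1 = u.1 * NW 0 * v.1 := by
  obtain ⟨S⟩ := F4.nonempty_setup (K := ZMod 2) (m := 0) (by simp)
  have h' : Commute g.1 (pMid (ZMod 2) 0) := by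
    rw [← coe_two]
    exact hg.map (twistedF4 (ZMod 2) 1).subtype
  obtain ⟨u, n, v, ω, hω, hu, huG, hv, hvG, he, hn⟩ := cent_p S g.2 h'
  exact bruhat_split hω hu huG hv hvG he hn

theorem commute_word {Y : List ℕ} (hY : lettersL Y = true) {k : ℕ} (hk : k < 12)
    (h : Nat.beq (packW (Y ++ [gX k])) (packW (gX k :: Y)) = true) : Commute (tv Y).1 (gE k) := by
  have hl : gX k < 15 := by unfold gX; split_ifs <;> omega
  have h1 : lettersX [gX k] = true := by simpa [lettersX, Nat.blt_eq] using hl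
  have e := evX_eq (lettersX_append (lettersL_spec hY).1 h1)
    (show lettersX ([gX k] ++ Y) = true from lettersX_append h1 (lettersL_spec hY).1) h
  rw [evX_append, evX_append, show evX [gX k] = LE (gX k) by unfold evX; simp, elt_word hk,
    evX_evL Y (lettersL_spec hY).2] at e
  exact e

theorem outer_not_mem : gE 7 ∉ commutator GT := fun h =>
  not_conj_mem 1 (by
    rw [inv_one, one_mul, mul_one]
    exact Pp_inter (Subgroup.mem_inf.2 ⟨gE_seven.1, h⟩))

theorem sup_outer : commutator GT ⊔ Subgroup.zpowers (gE 7) = ⊤ := by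
  haveI := TitsMult.finite_GT
  refine Subgroup.index_eq_one.1 ?_
  have h := Subgroup.relIndex_mul_index
    (le_sup_left : commutator GT ≤ commutator GT ⊔ Subgroup.zpowers (gE 7))
  rw [index_commutator] at h
  rcases (Nat.dvd_prime Nat.prime_two).1 (Dvd.intro_left _ h) with h1 | h2
  · exact h1
  · exfalso
    rw [h2] at h
    refine outer_not_mem ((Subgroup.relIndex_eq_one.1 (show (commutator GT).relIndex
      (commutator GT ⊔ Subgroup.zpowers (gE 7)) = 1 from ?_))
      (Subgroup.mem_sup_right (Subgroup.mem_zpowers _)))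
    omega

theorem outer_commute {k : ℕ} (hk : k = 0 ∨ k = 2) : Commute (gE 7) (gE k) := by
  have h : Nat.beq (packW ([gX 7] ++ [gX k])) (packW ([gX k] ++ [gX 7])) = true := by
    rcases hk with rfl | rfl
    exacts [comm_ok.2.2.1, comm_ok.2.2.2]
  have hl : ∀ j < 12, lettersX [gX j] = true := fun j hj => by
    simp only [lettersX, List.all_cons, List.all_nil, Bool.and_true, Nat.blt_eq]
    unfold gX
    split_ifs <;> omega
  have hk' : k < 12 := by omega
  have e := evX_eq (lettersX_append (hl 7 (by norm_num)) (hl k hk')) (lettersX_append (hl k hk') (hl 7 (by norm_num))) h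
  have one : ∀ s, evX [s] = LE s := fun s => by unfold evX; simp
  rw [evX_append, evX_append, one, one, elt_word (by norm_num), elt_word hk'] at e
  exact e

/-- The representative of a class of involutions. -/
def inv0 : TG := ⟨gE 0, gE_commutator (by norm_num) (by norm_num)⟩

/-- The representative of the other class of involutions. -/
def inv2 : TG := ⟨gE 2, gE_commutator (by norm_num) (by norm_num)⟩

theorem involution_conj {z : TG} (hz : z ^ 2 = 1) (h1 : z ≠ 1) :
    ∃ c : TG, c * z * c⁻¹ = inv0 ∨ c * z * c⁻¹ = inv2 := by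
  obtain ⟨S⟩ := F4.nonempty_setup (K := ZMod 2) (m := 0) (by simp)
  have ho : orderOf z.1 = 2 := by
    haveI : Fact (Nat.Prime 2) := ⟨Nat.prime_two⟩
    rw [Subgroup.orderOf_coe]
    exact orderOf_eq_prime hz h1
  have main : ∀ (k : ℕ) (r : TG), r.1 = gE k → (k = 0 ∨ k = 2) → IsConj z.1 r.1 → IsConj z r := by
    intro k r hr hk h
    exact (isConj_normal (T := commutator GT) sup_outer (z := r) (g := z) (hr ▸ outer_commute hk) h.symm).symm
  rcases std_all S (g := z.1) ho with h | h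
  · obtain ⟨c, hc⟩ := isConj_iff.1 (main 0 inv0 rfl (Or.inl rfl)
      (ct_isConj (K := ZMod 2) (m := 0) (a := z.1) (b := gE 0) (by rw [coe_zero]; exact h)))
    exact ⟨c, Or.inl hc⟩
  · obtain ⟨c, hc⟩ := isConj_iff.1 (main 2 inv2 rfl (Or.inr rfl)
      (ct_isConj (K := ZMod 2) (m := 0) (a := z.1) (b := gE 2) (by rw [coe_two]; exact h.trans (pMid_ct S).symm)))
    exact ⟨c, Or.inr hc⟩

theorem cov_all (g : TG) (h1 : g ≠ 1) : Cov g := by
  by_cases h2 : ∃ k : ℕ, g ^ 2 ^ k = 1
  · obtain ⟨k, hk⟩ := h2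
    haveI : Fact (Nat.Prime 2) := ⟨Nat.prime_two⟩
    have hi : ¬ 2 ∣ M2T.index := by
      have h := M2T.card_mul_index
      rw [card_M2T, card_TG] at h
      rw [show M2T.index = 8775 by omega]
      norm_num
    obtain ⟨c, hc⟩ := conj_into (IsPGroup.of_card (p := 2) (n := 11) (by rw [card_M2T]; norm_num)) hi hk
    exact cov_conj c (two_cov hc fun e => h1 (conj_eq_one_iff.1 e))
  push Not at h2
  by_cases he : 2 ∣ orderOf g
  · obtain ⟨hz, hz1⟩ := prime_part Nat.prime_two he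
    obtain ⟨c, hc⟩ := involution_conj hz hz1
    have hnp : ∀ k : ℕ, (c * g * c⁻¹) ^ 2 ^ k ≠ 1 := fun k e => by
      rw [conj_pow, conj_eq_one_iff] at e
      exact h2 k e
    have hcom : Commute (c * g * c⁻¹).1 (c * g ^ (orderOf g / 2) * c⁻¹).1 :=
      ((Commute.self_pow g _).map (MulAut.conj c).toMonoidHom).map (commutator GT).subtype
    refine cov_conj c ?_
    rcases hc with hc | hc
    · rw [hc] at hcom
      haveI : Fact (Nat.Prime 5) := ⟨by norm_num⟩
      exact par_cov (Y := yZ) (C := cZ) (q := 5) (by norm_num) (by decide) y_ord.1 y_ord.2.2.2.1 z_clos z_cert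
        z_walk z_filt (commute_word (k := 0) (by decide) (by norm_num) comm_ok.1) (fun x hx => cent_long hx) hcom hnp
    · rw [hc] at hcom
      haveI : Fact (Nat.Prime 3) := ⟨by norm_num⟩
      exact par_cov (Y := yP) (C := cP) (q := 3) (by norm_num) (by decide) y_ord.2.1 y_ord.2.2.2.2.1 p_clos p_cert
        p_walk p_filt (commute_word (k := 2) (by decide) (by norm_num) comm_ok.2.1) (fun x hx => cent_short hx) hcom hnp
  · exact odd_cov he h1

/-- The Tits group is covered by products of two conjugates of an element of odd order. -/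
theorem exists_cover_tits : ∃ x : TitsGroup, Odd (orderOf x) ∧
    ∀ g : TitsGroup, g ≠ 1 → ∃ u v : TitsGroup, g = (u * x * u⁻¹) * (v * x * v⁻¹) :=
  ⟨X, by rw [order_X]; decide, cov_all⟩

end Cfsg.Agent.Small.FFourTwistThompson.TitsCov
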