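import Cfsg.Agent.Lib.Small.FFourTwistThompson.TitsElem

/-!
The elements of odd order of the Tits group: orders 1, 3, 5, 13, with one class for 3 and for 5, and each a
product of two conjugates of the element of order 13.
-/

set_option autoImplicit false
set_option maxRecDepth 20000

noncomputable section

namespace Cfsg.Agent.Small.FFourTwistThompson.TitsCov

open Cfsg.Lie Cfsg.Agent.Lie F4Two TitsMult
open Cfsg.Agent.Lie.TitsDegrees (tv el)
open scoped MatrixGroups Matrix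

attribute [local irreducible] F4Two.mulL wM gW gE TitsMult.evL evX packW actW stepC stepP app chevF4

/-- The element of order 3. -/
def B3 : TG := tv (threeGens.getD 0 noElem).1

/-- The element of order 5. -/
def B5 : TG := tv (fiveGens.getD 0 noElem).1

theorem card_TG : Nat.card TG = 17971200 := card_tits

theorem el_zero (gs : List Elem) : el gs [0] = tv (gs.getD 0 noElem).1 := by
  simp [el]

section

attribute [local irreducible] threeGens fiveGens TitsDegrees.threeWords TitsDegrees.fiveWords TitsDegrees.el TitsDegrees.tv TitsDegrees.threeStep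
  TitsDegrees.fiveStep TitsDegrees.threeConj TitsDegrees.fiveConj TitsDegrees.tableOK elemOK

theorem three_conj {g : TG} {k : ℕ} (hk : g ^ 3 ^ k = 1) (h1 : g ≠ 1) : ∃ h : TG, h * g * h⁻¹ = B3 := by
  haveI : Fact (Nat.Prime 3) := ⟨by norm_num⟩
  obtain ⟨P, hP, -, -, -, hc⟩ :=
    TitsDegrees.subgroup_of (by norm_num) TitsDegrees.three_ok.1 TitsDegrees.three_ok.2.1
  have hi : ¬ 3 ∣ P.index := by
    have h := P.card_mul_index
    rw [hP, card_TG] at h
    rw [show P.index = 665600 by omega]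
    norm_num
  obtain ⟨c, hcP⟩ := conj_into (IsPGroup.of_card (p := 3) (n := 3) (by rw [hP]; norm_num)) hi hk
  obtain ⟨h, e⟩ := hc ⟨_, hcP⟩ fun e => h1 (conj_eq_one_iff.1 (congrArg Subtype.val e))
  refine ⟨h⁻¹ * c, ?_⟩
  simp only [el_zero] at e
  show _ = tv (threeGens.getD 0 noElem).1
  rw [show h⁻¹ * c * g * (h⁻¹ * c)⁻¹ = h⁻¹ * (c * g * c⁻¹) * h by group, e]
  group

theorem five_conj {g : TG} {k : ℕ} (hk : g ^ 5 ^ k = 1) (h1 : g ≠ 1) : ∃ h : TG, h * g * h⁻¹ = B5 := by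
  haveI : Fact (Nat.Prime 5) := ⟨by norm_num⟩
  obtain ⟨P, hP, -, -, -, hc⟩ :=
    TitsDegrees.subgroup_of (by norm_num) TitsDegrees.five_ok.1 TitsDegrees.five_ok.2
  have hi : ¬ 5 ∣ P.index := by
    have h := P.card_mul_index
    rw [hP, card_TG] at h
    rw [show P.index = 718848 by omega]
    norm_num
  obtain ⟨c, hcP⟩ := conj_into (IsPGroup.of_card (p := 5) (n := 2) (by rw [hP]; norm_num)) hi hk
  obtain ⟨h, e⟩ := hc ⟨_, hcP⟩ fun e => h1 (conj_eq_one_iff.1 (congrArg Subtype.val e))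
  refine ⟨h⁻¹ * c, ?_⟩
  simp only [el_zero] at e
  show _ = tv (fiveGens.getD 0 noElem).1
  rw [show h⁻¹ * c * g * (h⁻¹ * c)⁻¹ = h⁻¹ * (c * g * c⁻¹) * h by group, e]
  group

end

theorem mv_vec {w : List ℕ} (hw : lettersL w = true) {v : ℕ} (hv : v < 2 ^ 52) :
    mv (tv w) (vec v) = vec (actW w v) ∧ actW w v < 2 ^ 52 := by
  have h := evX_mulVec w (lettersL_spec hw).1 v hv
  rw [evX_evL w (lettersL_spec hw).2] at h
  exact h

theorem tv_ne {w : List ℕ} (hw : lettersL w = true) (h : Nat.beq (actW w vv) vv = false) : tv w ≠ 1 := by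
  intro e
  obtain ⟨h1, h2⟩ := mv_vec hw (show vv < 2 ^ 52 by decide)
  rw [e, mv_one] at h1
  have := congrArg nv h1
  rw [nv_vec, nv_vec, Nat.mod_eq_of_lt (show vv < 2 ^ 52 by decide), Nat.mod_eq_of_lt h2] at this
  rw [← this, Nat.beq_refl] at h
  exact Bool.noConfusion h

theorem tv_pow_one {w : List ℕ} {q : ℕ} (hw : lettersL (pwW w q) = true)
    (h : Nat.beq (packW (pwW w q)) oneA = true) : tv w ^ q = 1 := by
  rw [← tv_pwW, tv_eq hw (w := []) rfl (by rwa [packW_nil]), tv_nil]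

theorem order_X : orderOf X = 13 :=
  haveI : Fact (Nat.Prime 13) := ⟨by norm_num⟩
  orderOf_eq_prime (tv_pow_one (by decide) y_ord.2.2.1) (tv_ne (by decide) y_ord.2.2.2.2.2)

theorem thirteen_conj {g : TG} {k : ℕ} (hk : g ^ 13 ^ k = 1) (h1 : g ≠ 1) :
    ∃ (c : TG) (i : ℕ), i < 12 ∧ c * g * c⁻¹ = X ^ (i + 1) := by
  haveI : Fact (Nat.Prime 13) := ⟨by norm_num⟩
  have hcard : Nat.card ↥(Subgroup.zpowers X) = 13 := by rw [Nat.card_zpowers, order_X]
  have hi : ¬ 13 ∣ (Subgroup.zpowers X).index := by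
    have h := (Subgroup.zpowers X).card_mul_index
    rw [hcard, card_TG] at h
    rw [show (Subgroup.zpowers X).index = 1382400 by omega]
    norm_num
  obtain ⟨c, hc⟩ := conj_into (IsPGroup.of_card (p := 13) (n := 1) (by rw [hcard, pow_one])) hi hk
  obtain ⟨m, hm⟩ := (mem_powers_iff_mem_zpowers).2 hc
  have hm' : c * g * c⁻¹ = X ^ (m % 13) := by
    rw [← hm, ← order_X]
    exact (pow_mod_orderOf X m).symm
  have h0 : m % 13 ≠ 0 := fun e => h1 (conj_eq_one_iff.1 (by rw [hm', e, pow_zero]))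
  exact ⟨c, m % 13 - 1, by omega, by rw [hm', Nat.sub_add_cancel (by omega)]⟩

theorem cov_three : Cov B3 := cov_cert odd_cert.1

theorem cov_five : Cov B5 := cov_cert odd_cert.2

theorem cov_thirteen {i : ℕ} (hi : i < 12) : Cov (X ^ (i + 1)) := by
  have h := cov_cert (List.all_eq_true.1 pow_cert i (List.mem_range.2 hi))
  rwa [tv_pwW] at h

theorem rep_three : Rep B3.1.1 mThree :=
  (gen_reps TitsDegrees.three_ok.1 (show 0 < threeGens.length from Nat.zero_lt_two)).1

theorem rep_five : Rep B5.1.1 mFive :=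
  (gen_reps TitsDegrees.five_ok.1 (show 0 < fiveGens.length from Nat.zero_lt_two)).1

/-- No point of the orbit is fixed. -/
def Free (d : TG) : Prop := ∀ i < 1755, mv d (gV i) ≠ gV i

theorem free_conj {d : TG} (c : TG) (h : Free (c * d * c⁻¹)) : Free d := by
  intro i hi e
  obtain ⟨j, hj, ej⟩ := mv_orbit c hi
  refine h j hj ?_
  rw [← ej, ← mv_mul, inv_mul_cancel_right, mv_mul, e]

theorem free_X : Free X := by
  intro i hi e
  obtain ⟨h1, h2⟩ := mv_vec (w := xW) (by decide) (ovec_lt hi)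
  have h := List.all_eq_true.1 x_free i (List.mem_range.2 hi)
  have e' := congrArg nv (h1.symm.trans e)
  rw [gV, nv_vec, nv_vec, Nat.mod_eq_of_lt h2, Nat.mod_eq_of_lt (ovec_lt hi)] at e'
  rw [e', Nat.beq_refl] at h
  exact Bool.noConfusion h

theorem free_three : Free B3 := by
  intro i hi e
  have h := List.all_eq_true.1 three_free i (List.mem_range.2 hi)
  have e' := congrArg nv ((rep_three.mulVec (ovec i)).symm.trans e)
  rw [gV, nv_vec, show nv (fun p => bz (app mThree (ovec i)) (pos p)) = app mThree (ovec i) % 2 ^ 52 from nv_vec _,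
    Nat.mod_eq_of_lt (ovec_lt hi)] at e'
  rw [e', Nat.beq_refl] at h
  exact Bool.noConfusion h

theorem free_thirteen {d : TG} {k : ℕ} (hk : d ^ 13 ^ k = 1) (h1 : d ≠ 1) : Free d := by
  haveI : Fact (Nat.Prime 13) := ⟨by norm_num⟩
  obtain ⟨c, i, hi, e⟩ := thirteen_conj hk h1
  refine free_conj c ?_
  rw [e]
  intro j hj hfix
  have hpow : ∀ m : ℕ, mv ((X ^ (i + 1)) ^ m) (gV j) = gV j := by
    intro m
    induction m with
    | zero => rw [pow_zero, mv_one]
    | succ m ih => rw [pow_succ, mv_mul, hfix, ih]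
  have hcop : (i + 1).Coprime (orderOf X) := by
    rw [order_X]
    exact ((Nat.Prime.coprime_iff_not_dvd (by norm_num)).2 fun h => by
      have := Nat.le_of_dvd (by omega) h
      omega).symm
  obtain ⟨m, hm⟩ := exists_pow_eq_self_of_coprime hcop
  exact free_X j hj (by have := hpow m; rwa [hm] at this)

theorem free_order_three {d : TG} {k : ℕ} (hk : d ^ 3 ^ k = 1) (h1 : d ≠ 1) : Free d := by
  obtain ⟨h, e⟩ := three_conj hk h1
  exact free_conj h (e ▸ free_three)

theorem fix_iff {g : TG} {A : List ℕ} (hA : Rep g.1.1 A) {i : ℕ} (hi : i < 1755) :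
    mv g (gV i) = gV i ↔ Nat.beq (app A (ovec i) % 2 ^ 52) (ovec i) = true := by
  have e : mv g (gV i) = vec (app A (ovec i)) := hA.mulVec _
  rw [e, Nat.beq_eq]
  constructor
  · intro h
    have h' := congrArg nv h
    rwa [gV, nv_vec, nv_vec, Nat.mod_eq_of_lt (ovec_lt hi)] at h'
  · intro h
    rw [← vec_mod, h, gV]

theorem no_five {b d : TG} (hb : b ^ 5 = 1) (hb1 : b ≠ 1) (hcd : Commute b d) {q : ℕ} (hq : q = 3 ∨ q = 13)
    (hd : d ^ q = 1) (hd1 : d ≠ 1) : False := by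
  obtain ⟨h, e⟩ := five_conj (k := 1) (by rw [pow_one]; exact hb) hb1
  obtain ⟨D, hD⟩ : ∃ D, D = h * d * h⁻¹ := ⟨_, rfl⟩
  have hcD : Commute B5 D := by
    rw [← e, hD]
    exact (hcd.map (MulAut.conj h).toMonoidHom)
  have hDq : D ^ q = 1 := by rw [hD, conj_pow, hd, mul_one, mul_inv_cancel]
  have hD1 : D ≠ 1 := fun e' => hd1 (conj_eq_one_iff.1 (hD ▸ e'))
  haveI : Fact q.Prime := ⟨by rcases hq with rfl | rfl <;> norm_num⟩
  obtain ⟨i, hi, hfix⟩ := exists_fix hDq (fun i => Nat.beq (app mFive (ovec i) % 2 ^ 52) (ovec i))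
    (Nat.eq_of_beq_eq_true five_fix) (by rcases hq with rfl | rfl <;> norm_num) fun i hi j hj e hf => by
      rw [← fix_iff rep_five hj]
      rw [← fix_iff rep_five hi] at hf
      rw [← e, ← mv_mul, hcD.eq, mv_mul, hf]
  rcases hq with rfl | rfl
  · exact free_order_three (k := 1) (by rw [pow_one]; exact hDq) hD1 i hi hfix
  · exact free_thirteen (k := 1) (by rw [pow_one]; exact hDq) hD1 i hi hfix

theorem no_three {b d : TG} (hb : b ^ 3 = 1) (hb1 : b ≠ 1) (hcd : Commute b d) (hd : d ^ 13 = 1) (hd1 : d ≠ 1) :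
    False := by
  haveI : Fact (Nat.Prime 13) := ⟨by norm_num⟩
  obtain ⟨h, e⟩ := three_conj (k := 1) (by rw [pow_one]; exact hb) hb1
  obtain ⟨D, hD⟩ : ∃ D, D = h * d * h⁻¹ := ⟨_, rfl⟩
  have hcD : Commute B3 D := by
    rw [← e, hD]
    exact (hcd.map (MulAut.conj h).toMonoidHom)
  have hDq : D ^ 13 = 1 := by rw [hD, conj_pow, hd, mul_one, mul_inv_cancel]
  have hD1 : D ≠ 1 := fun e' => hd1 (conj_eq_one_iff.1 (hD ▸ e'))
  have hA : ∀ v, mv B3 (vec v) = vec (app mThree v) := fun v => rep_three.mulVec v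
  have key : ∀ i, i < 1755 → (Nat.beq ((ovec i ^^^ app mThree (ovec i) ^^^ app mThree (app mThree (ovec i))) % 2 ^ 52) 0
      = true ↔ gV i + mv B3 (gV i) + mv B3 (mv B3 (gV i)) = 0) := by
    intro i _
    rw [gV, hA, hA, ← vec_xor, ← vec_xor, Nat.beq_eq]
    constructor
    · intro hz
      rw [← vec_mod, hz, vec_zero]
    · intro hz
      have h' := congrArg nv (hz.trans vec_zero.symm)
      rwa [nv_vec, nv_vec] at h'
  obtain ⟨i, hi, hfix⟩ := exists_fix hDq
    (fun i => Nat.beq ((ovec i ^^^ app mThree (ovec i) ^^^ app mThree (app mThree (ovec i))) % 2 ^ 52) 0)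
    (Nat.eq_of_beq_eq_true three_lines) (by norm_num) fun i hi j hj e hf => by
      rw [key j hj, ← e]
      rw [key i hi] at hf
      have c : ∀ v, mv B3 (mv D v) = mv D (mv B3 v) := fun v => by rw [← mv_mul, ← mv_mul, hcD.eq]
      have lin : ∀ a b, mv D (a + b) = mv D a + mv D b := fun a b => Matrix.mulVec_add _ _ _
      rw [c, c, ← lin, ← lin, hf]
      exact Matrix.mulVec_zero _
  exact free_thirteen (k := 1) (by rw [pow_one]; exact hDq) hD1 i hi hfix

theorem prime_part {g : TG} {p : ℕ} (hp : p.Prime) (hd : p ∣ orderOf g) :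
    (g ^ (orderOf g / p)) ^ p = 1 ∧ g ^ (orderOf g / p) ≠ 1 := by
  refine ⟨by rw [← pow_mul, Nat.div_mul_cancel hd, pow_orderOf_eq_one], fun h => ?_⟩
  have h0 := orderOf_pos g
  have h1 : orderOf g ∣ orderOf g / p := orderOf_dvd_of_pow_eq_one h
  have h2 : 0 < orderOf g / p := Nat.div_pos (Nat.le_of_dvd h0 hd) hp.pos
  exact absurd (Nat.le_of_dvd h2 h1) (not_le.2 (Nat.div_lt_self h0 hp.one_lt))

theorem odd_cov {g : TG} (hg : ¬ 2 ∣ orderOf g) (h1 : g ≠ 1) : Cov g := by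
  have hn : orderOf g ∣ 17971200 := card_TG ▸ orderOf_dvd_natCard g
  have hn' : orderOf g ∣ 8775 := by
    refine Nat.Coprime.dvd_of_dvd_mul_left (k := orderOf g) (m := 2048) ?_ (by simpa using hn)
    rw [show 2048 = 2 ^ 11 by norm_num]
    exact Nat.Coprime.pow_right _ ((Nat.prime_two.coprime_iff_not_dvd.2 hg).symm)
  have pair : ∀ p q : ℕ, p.Prime → q.Prime → p ∣ orderOf g → q ∣ orderOf g →
      Commute (g ^ (orderOf g / p)) (g ^ (orderOf g / q)) := fun p q _ _ _ _ => Commute.pow_pow_self g _ _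
  have p3 : Nat.Prime 3 := by norm_num
  have p5 : Nat.Prime 5 := by norm_num
  have p13 : Nat.Prime 13 := by norm_num
  have n53 : ¬ (5 ∣ orderOf g ∧ 3 ∣ orderOf g) := fun ⟨a, b⟩ =>
    no_five (prime_part p5 a).1 (prime_part p5 a).2 (pair 5 3 p5 p3 a b) (Or.inl rfl) (prime_part p3 b).1
      (prime_part p3 b).2
  have n513 : ¬ (5 ∣ orderOf g ∧ 13 ∣ orderOf g) := fun ⟨a, b⟩ =>
    no_five (prime_part p5 a).1 (prime_part p5 a).2 (pair 5 13 p5 p13 a b) (Or.inr rfl) (prime_part p13 b).1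
      (prime_part p13 b).2
  have n313 : ¬ (3 ∣ orderOf g ∧ 13 ∣ orderOf g) := fun ⟨a, b⟩ =>
    no_three (prime_part p3 a).1 (prime_part p3 a).2 (pair 3 13 p3 p13 a b) (prime_part p13 b).1
      (prime_part p13 b).2
  have cop : ∀ {p : ℕ}, p.Prime → ¬ p ∣ orderOf g → ∀ k, (orderOf g).Coprime (p ^ k) := fun hp h k =>
    Nat.Coprime.pow_right _ ((hp.coprime_iff_not_dvd.2 h).symm)
  by_cases h13 : 13 ∣ orderOf g
  · have h3 : ¬ 3 ∣ orderOf g := fun h => n313 ⟨h, h13⟩
    have h5 : ¬ 5 ∣ orderOf g := fun h => n513 ⟨h, h13⟩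
    have hd : orderOf g ∣ 13 ^ 1 :=
      ((cop p3 h3 3).mul_right (cop p5 h5 2)).dvd_of_dvd_mul_left (by simpa using hn')
    obtain ⟨c, i, hi, e⟩ := thirteen_conj (orderOf_dvd_iff_pow_eq_one.1 hd) h1
    exact cov_conj c (e ▸ cov_thirteen hi)
  by_cases h5 : 5 ∣ orderOf g
  · have h3 : ¬ 3 ∣ orderOf g := fun h => n53 ⟨h5, h⟩
    have hd : orderOf g ∣ 5 ^ 2 :=
      ((cop p3 h3 3).mul_right (cop p13 h13 1)).dvd_of_dvd_mul_left (by simpa using hn')
    obtain ⟨c, e⟩ := five_conj (orderOf_dvd_iff_pow_eq_one.1 hd) h1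
    exact cov_conj c (e ▸ cov_five)
  · have hd : orderOf g ∣ 3 ^ 3 :=
      ((cop p5 h5 2).mul_right (cop p13 h13 1)).dvd_of_dvd_mul_left (by simpa using hn')
    obtain ⟨c, e⟩ := three_conj (orderOf_dvd_iff_pow_eq_one.1 hd) h1
    exact cov_conj c (e ▸ cov_three)

end Cfsg.Agent.Small.FFourTwistThompson.TitsCov
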