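import Cfsg.Agent.Lib.Lie.TitsMult.Code
import Cfsg.Agent.Lib.Lie.TitsMult.TwoData
import Cfsg.Agent.Lib.Small.FFourTwistThompson.TitsDiag

/-!
Words in letters of the Tits group evaluated on all columns at once: a letter acts by a few masks and shifts.
-/

set_option autoImplicit false
set_option maxRecDepth 20000

noncomputable section

namespace Cfsg.Agent.Small.FFourTwistThompson.TitsCov

open Cfsg.Lie Cfsg.Agent.Lie F4Two TitsMult
open scoped MatrixGroups Matrix

/-- The diagonals above, on a vector. -/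
def upC (L : List (ℕ × ℕ × ℕ)) : ℕ → ℕ :=
  @List.rec (ℕ × ℕ × ℕ) (fun _ => ℕ → ℕ) (fun _ => 0)
    (fun e _ ih v => Nat.xor (Nat.shiftLeft (Nat.land v e.1) e.2.1) (ih v)) L

/-- The diagonals below, on a vector. -/
def dnC (L : List (ℕ × ℕ × ℕ)) : ℕ → ℕ :=
  @List.rec (ℕ × ℕ × ℕ) (fun _ => ℕ → ℕ) (fun _ => 0)
    (fun e _ ih v => Nat.xor (Nat.shiftRight (Nat.land v e.1) e.2.1) (ih v)) L

/-- The diagonals above, on packed columns. -/
def upS (L : List (ℕ × ℕ × ℕ)) : ℕ → ℕ :=
  @List.rec (ℕ × ℕ × ℕ) (fun _ => ℕ → ℕ) (fun _ => 0)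
    (fun e _ ih v => Nat.xor (Nat.shiftLeft (Nat.land v e.2.2) e.2.1) (ih v)) L

/-- The diagonals below, on packed columns. -/
def dnS (L : List (ℕ × ℕ × ℕ)) : ℕ → ℕ :=
  @List.rec (ℕ × ℕ × ℕ) (fun _ => ℕ → ℕ) (fun _ => 0)
    (fun e _ ih v => Nat.xor (Nat.shiftRight (Nat.land v e.2.2) e.2.1) (ih v)) L

/-- A letter on a vector. -/
def stepC (d : Diag) (v : ℕ) : ℕ := Nat.xor (upC d.1 v) (dnC d.2 v)

/-- A letter on packed columns. -/
def stepP (d : Diag) (M : ℕ) : ℕ := Nat.xor (upS d.1 M) (dnS d.2 M)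

/-- The diagonals are well formed and list the matrix. -/
def diagOK (d : Diag) (A : List ℕ) : Bool :=
  (d.1.all fun e => Nat.ble e.2.1 52 && (Nat.blt e.1 (2 ^ (52 - e.2.1)) &&
      Nat.beq e.2.2 (packL (List.replicate 52 e.1)))) &&
    ((d.2.all fun e => Nat.blt e.1 (2 ^ 52) && (Nat.beq (e.1 % 2 ^ e.2.1) 0 &&
      Nat.beq e.2.2 (packL (List.replicate 52 e.1)))) &&
    ((List.range 52).all fun j => Nat.beq (stepC d (2 ^ j)) (A.getD j 0 % 2 ^ 52)))

/-- The letters: those of the tables, the eighth generator, and the inverse of the second generator. -/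
def LE (s : ℕ) : GT := if s < 13 then LG s else if s = 13 then gE 7 else (gen twoGens 1)⁻¹

/-- The columns of the letters. -/
def LA : List (List ℕ) := LM ++ [gM.getD 7 [], (twoGens.getD 1 noElem).2.2.2]

/-- The value of a word. -/
def evX (w : List ℕ) : GT := (w.map LE).prod

/-- A word on a vector. -/
def actW (w : List ℕ) (v : ℕ) : ℕ :=
  @List.rec ℕ (fun _ => ℕ) v (fun s _ ih => stepC (diags.getD s ([], [])) ih) w

/-- A word on packed columns. -/
def packW (w : List ℕ) : ℕ :=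
  @List.rec ℕ (fun _ => ℕ) oneA (fun s _ ih => stepP (diags.getD s ([], [])) ih) w

/-- The letters of a word. -/
def lettersX (w : List ℕ) : Bool := w.all fun s => Nat.blt s 15

theorem gens_ok : (twoGens.all elemOK) = true := by decide +kernel

theorem diags_ok : ((List.range 15).all fun s => diagOK (diags.getD s ([], [])) (LA.getD s idL)) = true := by
  decide +kernel

theorem rep_LE {s : ℕ} (hs : s < 15) : Rep (LE s).1 (LA.getD s idL) := by
  by_cases h : s < 13
  · rw [LE, if_pos h, LA, List.getD_append _ _ _ _ (by simpa [LM] using h)]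
    exact rep_LG s
  · rcases (show s = 13 ∨ s = 14 by omega) with rfl | rfl
    · rw [LE, if_neg (by norm_num), if_pos rfl]
      exact rep_gE (by norm_num)
    · rw [LE, if_neg (by norm_num), if_neg (by norm_num)]
      exact (gen_reps gens_ok (show 1 < twoGens.length from Nat.one_lt_two)).2

theorem evX_append (u w : List ℕ) : evX (u ++ w) = evX u * evX w := by simp [evX]

theorem vec_zero : vec 0 = 0 := funext fun p => bz_zero (pos p)

theorem vec_xor (a b : ℕ) : vec (a ^^^ b) = vec a + vec b := funext fun p => bz_xor a b (pos p)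

theorem upC_cons (e : ℕ × ℕ × ℕ) (L : List (ℕ × ℕ × ℕ)) (v : ℕ) :
    upC (e :: L) v = ((v &&& e.1) <<< e.2.1) ^^^ upC L v := rfl

theorem dnC_cons (e : ℕ × ℕ × ℕ) (L : List (ℕ × ℕ × ℕ)) (v : ℕ) :
    dnC (e :: L) v = ((v &&& e.1) >>> e.2.1) ^^^ dnC L v := rfl

theorem upS_cons (e : ℕ × ℕ × ℕ) (L : List (ℕ × ℕ × ℕ)) (v : ℕ) :
    upS (e :: L) v = ((v &&& e.2.2) <<< e.2.1) ^^^ upS L v := rfl

theorem dnS_cons (e : ℕ × ℕ × ℕ) (L : List (ℕ × ℕ × ℕ)) (v : ℕ) :
    dnS (e :: L) v = ((v &&& e.2.2) >>> e.2.1) ^^^ dnS L v := rfl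

theorem upC_xor : ∀ (L : List (ℕ × ℕ × ℕ)) (a b : ℕ), upC L (a ^^^ b) = upC L a ^^^ upC L b
  | [], a, b => (Nat.xor_self 0).symm
  | e :: L, a, b => by
    rw [upC_cons, upC_cons, upC_cons, upC_xor L a b, Nat.and_xor_distrib_right, Nat.shiftLeft_xor_distrib]
    ac_rfl

theorem dnC_xor : ∀ (L : List (ℕ × ℕ × ℕ)) (a b : ℕ), dnC L (a ^^^ b) = dnC L a ^^^ dnC L b
  | [], a, b => (Nat.xor_self 0).symm
  | e :: L, a, b => by
    rw [dnC_cons, dnC_cons, dnC_cons, dnC_xor L a b, Nat.and_xor_distrib_right, Nat.shiftRight_xor_distrib]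
    ac_rfl

theorem stepC_xor (d : Diag) (a b : ℕ) : stepC d (a ^^^ b) = stepC d a ^^^ stepC d b := by
  show upC d.1 _ ^^^ dnC d.2 _ = (upC d.1 a ^^^ dnC d.2 a) ^^^ (upC d.1 b ^^^ dnC d.2 b)
  rw [upC_xor, dnC_xor]
  ac_rfl

theorem upC_lt : ∀ (L : List (ℕ × ℕ × ℕ)), (∀ e ∈ L, e.2.1 ≤ 52 ∧ e.1 < 2 ^ (52 - e.2.1)) → ∀ v,
    upC L v < 2 ^ 52
  | [], _, v => Nat.two_pow_pos _
  | e :: L, h, v => by
    rw [upC_cons]
    refine Nat.xor_lt_two_pow ?_ (upC_lt L (fun f hf => h f (List.mem_cons_of_mem _ hf)) v)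
    obtain ⟨h1, h2⟩ := h e (List.mem_cons_self ..)
    calc (v &&& e.1) <<< e.2.1 = (v &&& e.1) * 2 ^ e.2.1 := Nat.shiftLeft_eq _ _
      _ < 2 ^ (52 - e.2.1) * 2 ^ e.2.1 :=
        Nat.mul_lt_mul_of_pos_right (Nat.and_le_right.trans_lt h2) (Nat.two_pow_pos _)
      _ = 2 ^ 52 := by rw [← pow_add, Nat.sub_add_cancel h1]

theorem dnC_lt : ∀ (L : List (ℕ × ℕ × ℕ)), (∀ e ∈ L, e.1 < 2 ^ 52) → ∀ v, dnC L v < 2 ^ 52
  | [], _, v => Nat.two_pow_pos _
  | e :: L, h, v => by
    rw [dnC_cons]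
    refine Nat.xor_lt_two_pow ?_ (dnC_lt L (fun f hf => h f (List.mem_cons_of_mem _ hf)) v)
    exact (Nat.shiftRight_le _ _).trans_lt (Nat.and_le_right.trans_lt (h e (List.mem_cons_self ..)))

theorem diag_spec {s : ℕ} (hs : s < 15) :
    (∀ e ∈ (diags.getD s ([], [])).1, e.2.1 ≤ 52 ∧ e.1 < 2 ^ (52 - e.2.1) ∧
      e.2.2 = packL (List.replicate 52 e.1)) ∧
    (∀ e ∈ (diags.getD s ([], [])).2, e.1 < 2 ^ 52 ∧ e.1 % 2 ^ e.2.1 = 0 ∧
      e.2.2 = packL (List.replicate 52 e.1)) ∧
    ∀ j < 52, stepC (diags.getD s ([], [])) (2 ^ j) = (LA.getD s idL).getD j 0 % 2 ^ 52 := by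
  have h := List.all_eq_true.1 diags_ok s (List.mem_range.2 hs)
  simp only [diagOK, Bool.and_eq_true, List.all_eq_true, Nat.ble_eq, Nat.blt_eq, Nat.beq_eq,
    List.mem_range] at h
  exact h

theorem stepC_lt {s : ℕ} (hs : s < 15) (v : ℕ) : stepC (diags.getD s ([], [])) v < 2 ^ 52 := by
  obtain ⟨h1, h2, -⟩ := diag_spec hs
  exact Nat.xor_lt_two_pow (upC_lt _ (fun e he => ⟨(h1 e he).1, (h1 e he).2.1⟩) v)
    (dnC_lt _ (fun e he => (h2 e he).1) v)

theorem stepC_zero (d : Diag) : stepC d 0 = 0 := by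
  have h := stepC_xor d 0 0
  rwa [Nat.xor_self, Nat.xor_self] at h

theorem single_vec (q : chevF4.Idx) : vec (2 ^ pos q) = Pi.single q 1 := by
  funext r
  simp only [vec, bz, Nat.testBit_two_pow]
  by_cases hr : r = q
  · simp [hr]
  · rw [Pi.single_eq_of_ne hr, if_neg]
    simpa using fun e => hr (pos_inj e.symm)

theorem vec_mod (a : ℕ) : vec (a % 2 ^ 52) = vec a := by
  rw [← nv_vec, vec_nv]

/-- A letter acts as its diagonals. -/
theorem step_mulVec {s : ℕ} (hs : s < 15) : ∀ n ≤ 52, ∀ v < 2 ^ n,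
    (LE s).1.val *ᵥ vec v = vec (stepC (diags.getD s ([], [])) v) := by
  intro n
  induction n with
  | zero =>
    intro _ v hv
    rw [show v = 0 from by rwa [pow_zero, Nat.lt_one_iff] at hv, stepC_zero, vec_zero, Matrix.mulVec_zero]
  | succ n ih =>
    intro hn v hv
    by_cases hb : v.testBit n
    · have hlt : v ^^^ 2 ^ n < 2 ^ n := by
        refine Nat.lt_pow_two_of_testBit _ fun i hi => ?_
        rw [Nat.testBit_xor, Nat.testBit_two_pow]
        rcases Nat.lt_or_eq_of_le hi with h | rfl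
        · rw [Nat.testBit_lt_two_pow (hv.trans_le (Nat.pow_le_pow_right two_pos h)),
            decide_eq_false (by omega)]
          rfl
        · simp [hb]
      have e : v = (v ^^^ 2 ^ n) ^^^ 2 ^ n := by rw [Nat.xor_assoc, Nat.xor_self, Nat.xor_zero]
      obtain ⟨u, hu'⟩ : ∃ u, u = v ^^^ 2 ^ n := ⟨_, rfl⟩
      rw [← hu'] at e hlt
      have hu : (LE s).1.val *ᵥ vec (2 ^ n) = vec (stepC (diags.getD s ([], [])) (2 ^ n)) := by
        obtain ⟨q, rfl⟩ : ∃ q : chevF4.Idx, pos q = n :=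
          ⟨(idxEquiv chevF4).symm ⟨n, by show n < 52; omega⟩, by simp [pos]⟩
        rw [(diag_spec hs).2.2 _ (pos_lt q), vec_mod, single_vec, Matrix.mulVec_single_one]
        funext p
        exact (rep_LE hs).2 p q
      rw [e, stepC_xor, vec_xor, vec_xor, Matrix.mulVec_add, ih (by omega) _ hlt, hu]
    · refine ih (by omega) v (Nat.lt_pow_two_of_testBit _ fun i hi => ?_)
      rcases Nat.lt_or_eq_of_le hi with h | rfl
      · exact Nat.testBit_lt_two_pow (hv.trans_le (Nat.pow_le_pow_right two_pos h))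
      · simpa using hb

theorem actW_cons (s : ℕ) (w : List ℕ) (v : ℕ) :
    actW (s :: w) v = stepC (diags.getD s ([], [])) (actW w v) := rfl

theorem packW_cons (s : ℕ) (w : List ℕ) : packW (s :: w) = stepP (diags.getD s ([], [])) (packW w) := rfl

theorem letters_cons {s : ℕ} {w : List ℕ} (h : lettersX (s :: w) = true) : s < 15 ∧ lettersX w = true := by
  simpa [lettersX, Nat.blt_eq] using h

/-- A word acts as computed. -/
theorem evX_mulVec : ∀ (w : List ℕ), lettersX w = true → ∀ v < 2 ^ 52,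
    (evX w).1.val *ᵥ vec v = vec (actW w v) ∧ actW w v < 2 ^ 52
  | [], _, v, hv => ⟨Matrix.one_mulVec _, hv⟩
  | s :: w, h, v, hv => by
    obtain ⟨hs, hw⟩ := letters_cons h
    obtain ⟨h1, h2⟩ := evX_mulVec w hw v hv
    refine ⟨?_, stepC_lt hs _⟩
    rw [show evX (s :: w) = LE s * evX w by simp [evX], Subgroup.coe_mul, Units.val_mul,
      ← Matrix.mulVec_mulVec, h1, step_mulVec hs 52 le_rfl _ h2, actW_cons]

theorem rep_bit {m : ℕ} (hm : m < 2 ^ 52) : ∀ (k n : ℕ),
    (packL (List.replicate k m)).testBit n = (decide (n < 52 * k) && m.testBit (n % 52))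
  | 0, n => by simp [packL]
  | k + 1, n => by
    rw [show packL (List.replicate (k + 1) m) = 2 ^ 52 * packL (List.replicate k m) + m by
      rw [List.replicate_succ, packL, List.foldr_cons, Nat.mul_comm]; rfl, Nat.testBit_two_pow_mul_add _ hm]
    split
    · rename_i h
      rw [Nat.mod_eq_of_lt h, decide_eq_true (show n < 52 * (k + 1) by omega), Bool.true_and]
    · rename_i h
      rw [rep_bit hm k, show (n - 52) % 52 = n % 52 by omega]
      congr 1
      exact decide_eq_decide.2 (by omega)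

theorem col_bit (M j i : ℕ) : (col M j).testBit i = (decide (i < 52) && M.testBit (52 * j + i)) := by
  rw [col, Nat.testBit_mod_two_pow, Nat.testBit_shiftRight]

theorem col_xor (a b j : ℕ) : col (a ^^^ b) j = col a j ^^^ col b j := by
  refine Nat.eq_of_testBit_eq fun i => ?_
  simp only [col_bit, Nat.testBit_xor]
  cases decide (i < 52) <;> simp

theorem col_up {m d M j : ℕ} (hd : d ≤ 52) (hm : m < 2 ^ (52 - d)) (hj : j < 52) :
    col ((M &&& packL (List.replicate 52 m)) <<< d) j = (col M j &&& m) <<< d := by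
  have hm' : m < 2 ^ 52 := hm.trans_le (Nat.pow_le_pow_right two_pos (by omega))
  refine Nat.eq_of_testBit_eq fun i => ?_
  simp only [col_bit, Nat.testBit_shiftLeft, Nat.testBit_and, rep_bit hm']
  by_cases hi : i < 52
  · by_cases hid : d ≤ i
    · rw [decide_eq_true (show 52 * j + i ≥ d by omega), decide_eq_true (show i ≥ d by omega),
        decide_eq_true (show i - d < 52 by omega), decide_eq_true hi,
        show 52 * j + i - d = 52 * j + (i - d) by omega,
        decide_eq_true (show 52 * j + (i - d) < 52 * 52 by omega),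
        show (52 * j + (i - d)) % 52 = i - d by omega]
      simp
    · rw [decide_eq_false (show ¬i ≥ d by omega)]
      by_cases h0 : d ≤ 52 * j + i
      · rw [Nat.testBit_lt_two_pow (x := m) (i := (52 * j + i - d) % 52)
          (hm.trans_le (Nat.pow_le_pow_right two_pos (by omega)))]
        simp
      · rw [decide_eq_false (show ¬52 * j + i ≥ d by omega)]
        simp
  · by_cases hid : d ≤ i
    · rw [decide_eq_false hi]
      by_cases h2 : i - d < 52
      · rw [Nat.testBit_lt_two_pow (x := m) (i := i - d) (hm.trans_le (Nat.pow_le_pow_right two_pos (by omega)))]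
        simp
      · rw [decide_eq_false h2]
        simp
    · omega

theorem col_dn {m d M j : ℕ} (hm : m < 2 ^ 52) (h0 : m % 2 ^ d = 0) :
    j < 52 → col ((M &&& packL (List.replicate 52 m)) >>> d) j = (col M j &&& m) >>> d := by
  intro hj
  have hlow : ∀ i < d, m.testBit i = false := fun i hi => by
    have h := congrArg (fun z => z.testBit i) h0
    simpa [Nat.testBit_mod_two_pow, hi] using h
  refine Nat.eq_of_testBit_eq fun i => ?_
  simp only [col_bit, Nat.testBit_shiftRight, Nat.testBit_and, rep_bit hm]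
  by_cases hi : d + i < 52
  · rw [decide_eq_true hi, decide_eq_true (show i < 52 by omega), show d + (52 * j + i) = 52 * j + (d + i) by omega,
      decide_eq_true (show 52 * j + (d + i) < 52 * 52 by omega),
      show (52 * j + (d + i)) % 52 = d + i by omega]
    simp
  · rw [decide_eq_false hi]
    by_cases hi' : i < 52
    · by_cases hlast : d + (52 * j + i) < 52 * 52
      · rw [hlow ((d + (52 * j + i)) % 52) (by omega)]
        simp
      · rw [decide_eq_false hlast]
        simp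
    · rw [decide_eq_false hi']
      simp

theorem col_upS : ∀ (L : List (ℕ × ℕ × ℕ)), (∀ e ∈ L, e.2.1 ≤ 52 ∧ e.1 < 2 ^ (52 - e.2.1) ∧
    e.2.2 = packL (List.replicate 52 e.1)) → ∀ M j, j < 52 → col (upS L M) j = upC L (col M j)
  | [], _, M, j, _ => by show (0 >>> (52 * j)) % 2 ^ 52 = 0; simp
  | e :: L, h, M, j, hj => by
    obtain ⟨h1, h2, h3⟩ := h e (List.mem_cons_self ..)
    rw [upS_cons, upC_cons, col_xor, col_upS L (fun f hf => h f (List.mem_cons_of_mem _ hf)) M j hj, h3,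
      col_up h1 h2 hj]

theorem col_dnS : ∀ (L : List (ℕ × ℕ × ℕ)), (∀ e ∈ L, e.1 < 2 ^ 52 ∧ e.1 % 2 ^ e.2.1 = 0 ∧
    e.2.2 = packL (List.replicate 52 e.1)) → ∀ M j, j < 52 → col (dnS L M) j = dnC L (col M j)
  | [], _, M, j, _ => by show (0 >>> (52 * j)) % 2 ^ 52 = 0; simp
  | e :: L, h, M, j, hj => by
    obtain ⟨h1, h2, h3⟩ := h e (List.mem_cons_self ..)
    rw [dnS_cons, dnC_cons, col_xor, col_dnS L (fun f hf => h f (List.mem_cons_of_mem _ hf)) M j hj, h3,
      col_dn h1 h2 hj]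

theorem col_packW : ∀ (w : List ℕ), lettersX w = true → ∀ j < 52, col (packW w) j = actW w (2 ^ j)
  | [], _, j, hj => by
    show col oneA j = 2 ^ j
    rw [oneA, col_packL _ (fun x hx => ?_) j (by simpa [idL] using hj),
      List.getD_eq_getElem _ _ (by simpa [idL] using hj)]
    · simp [idL]
    · simp only [idL, List.mem_map, List.mem_range] at hx
      obtain ⟨i, hi, rfl⟩ := hx
      exact Nat.pow_lt_pow_right one_lt_two hi
  | s :: w, h, j, hj => by
    obtain ⟨hs, hw⟩ := letters_cons h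
    obtain ⟨h1, h2, -⟩ := diag_spec hs
    rw [actW_cons, packW_cons, ← col_packW w hw j hj]
    show col (upS _ _ ^^^ dnS _ _) j = upC _ _ ^^^ dnC _ _
    rw [col_xor, col_upS _ h1 _ j hj, col_dnS _ h2 _ j hj]

/-- Words with equal packed columns have equal values. -/
theorem evX_eq {u w : List ℕ} (hu : lettersX u = true) (hw : lettersX w = true)
    (h : Nat.beq (packW u) (packW w) = true) : evX u = evX w := by
  refine Subtype.ext (Units.ext (Matrix.ext fun p q => ?_))
  have hq : 2 ^ pos q < 2 ^ 52 := Nat.pow_lt_pow_right one_lt_two (pos_lt q)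
  have e : (evX u).1.val *ᵥ vec (2 ^ pos q) = (evX w).1.val *ᵥ vec (2 ^ pos q) := by
    rw [(evX_mulVec u hu _ hq).1, (evX_mulVec w hw _ hq).1, ← col_packW u hu _ (pos_lt q),
      ← col_packW w hw _ (pos_lt q), Nat.eq_of_beq_eq_true h]
  rw [single_vec, Matrix.mulVec_single_one, Matrix.mulVec_single_one] at e
  exact congrFun e p

theorem evX_evL : ∀ w : List ℕ, (∀ s ∈ w, s < 13) → evX w = TitsMult.evL w
  | [], _ => by simp [evX, TitsMult.evL]
  | s :: w, h => by
    rw [show evX (s :: w) = LE s * evX w by simp [evX], show TitsMult.evL (s :: w) = LG s * TitsMult.evL w by simp [TitsMult.evL],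
      evX_evL w fun t ht => h t (List.mem_cons_of_mem _ ht), LE, if_pos (h s (List.mem_cons_self ..))]

end Cfsg.Agent.Small.FFourTwistThompson.TitsCov
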