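import Cfsg.Agent.Lib.Lie.TwistMult.F4RankA
import Cfsg.Agent.Lib.Small.ChevInvol.Normal

/-!
The torus of ²F₄(q) in the coordinates of the twisted Weyl group, and the action of the two
reflection representatives on it.
-/

set_option autoImplicit false
set_option maxRecDepth 4000
set_option linter.unusedSectionVars false

namespace Cfsg.Agent.Small.FFourTwistThompson

open Cfsg.Lie Cfsg.Agent.Lie Cfsg.Agent.Small.C2Inv.F4
open Cfsg.Agent.Lie.F4 (Setup Os torChar_eval)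
open scoped MatrixGroups

variable {K : Type*} [Field K]

local notation "GL₄" => GL chevF4.Idx K

/-- A vector of torus coordinates. -/
def vec (a b c d : Kˣ) : Fin chevF4.rank → Kˣ := ![a, b, c, d]

theorem vec_one (a b c d : Kˣ) (h : 1 < chevF4.rank) : vec a b c d ⟨1, h⟩ = b := rfl

theorem vec_two (a b c d : Kˣ) (h : 2 < chevF4.rank) : vec a b c d ⟨2, h⟩ = c := rfl

/-- Torus elements. -/
noncomputable def tt (m : ℕ) : Kˣ × Kˣ →* GL chevF4.Idx K where
  toFun p := torus chevF4 K (vec (p.1 ^ 2 ^ m) (p.2 ^ 2 ^ m) p.2 p.1)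
  map_one' := by
    refine (congrArg _ ?_).trans (map_one (torus chevF4 K))
    funext j
    match j with
    | ⟨0, _⟩ => exact one_pow _
    | ⟨1, _⟩ => exact one_pow _
    | ⟨2, _⟩ => rfl
    | ⟨3, _⟩ => rfl
  map_mul' p r := by
    refine (congrArg _ ?_).trans (map_mul (torus chevF4 K) _ _)
    funext j
    match j with
    | ⟨0, _⟩ => exact mul_pow _ _ _
    | ⟨1, _⟩ => exact mul_pow _ _ _
    | ⟨2, _⟩ => rfl
    | ⟨3, _⟩ => rfl

variable (m : ℕ)

/-- The endomorphism x ↦ x^(2θ) of the multiplicative group. -/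
def P2 (m : ℕ) : Kˣ →* Kˣ := powMonoidHom (2 * 2 ^ m)

/-- The action of the pair reflection. -/
def fA (p : Kˣ × Kˣ) : Kˣ × Kˣ := (p.2 * p.1⁻¹, p.2)

/-- The action of the middle reflection. -/
def fB (m : ℕ) (p : Kˣ × Kˣ) : Kˣ × Kˣ := (p.1, P2 m p.1 * p.1 ^ 2 * p.2⁻¹)

/-- A monomial element acts on the torus as f. -/
def Act (m : ℕ) (g : GL₄) (f : Kˣ × Kˣ → Kˣ × Kˣ) : Prop := ∀ p, g * tt m p * g⁻¹ = tt m (f p)

variable {m}

theorem Act.mul {g h : GL₄} {f f' : Kˣ × Kˣ → Kˣ × Kˣ} (hg : Act m g f) (hh : Act m h f') :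
    Act m (g * h) fun p => f (f' p) := fun p => by
  rw [show g * h * tt m p * (g * h)⁻¹ = g * (h * tt m p * h⁻¹) * g⁻¹ by group, hh, hg]

theorem Act.inv {g : GL₄} {f f' : Kˣ × Kˣ → Kˣ × Kˣ} (hg : Act m g f) (h : ∀ p, f (f' p) = p) :
    Act m g⁻¹ f' := fun p => by
  have e := hg (f' p)
  rw [h] at e
  rw [← e, inv_inv]
  group

theorem fA_invol (p : Kˣ × Kˣ) : fA (fA p) = p := by
  simp [fA, mul_left_comm]

theorem fB_invol (p : Kˣ × Kˣ) : fB m (fB m p) = p := by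
  simp [fB, mul_comm, mul_left_comm, mul_assoc]

variable [Fintype K] [CharP K 2] (S : Setup K m)

theorem tt_eq (p : Kˣ × Kˣ) : tt m p = torus chevF4 K (S.crd p.1 p.2) := rfl

include S in
theorem tt_mem (p : Kˣ × Kˣ) : tt m p ∈ twistedF4 K (2 ^ m) := S.torus_mem p.1 p.2

theorem tt_H (p : Kˣ × Kˣ) : tt m p ∈ (factsF4.tsys K).H := by
  rw [factsF4.tsys_H, factsF4.diagonalSubgroup_eq]; exact ⟨_, rfl⟩

include S in
theorem exists_tt {h : GL₄} (hh : h ∈ (factsF4.tsys K).H) (hG : h ∈ twistedF4 K (2 ^ m)) :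
    ∃ p, h = tt m p := by
  rw [factsF4.tsys_H] at hh
  obtain ⟨t, u, e⟩ := S.exists_crd hh (S.le_fix hG)
  exact ⟨(t, u), e⟩

include S in
theorem P2_P2 (x : Kˣ) : P2 m (P2 m x) = x ^ 2 := by
  refine Units.ext ?_
  show ((x ^ (2 * 2 ^ m)) ^ (2 * 2 ^ m) : Kˣ).val = _
  simp only [Units.val_pow_eq_pow_val]
  exact ph_ph S (x : K)

include S in
theorem P2_theta (x : Kˣ) : P2 m x ^ 2 ^ m = x :=
  Units.ext (by
    show ((x ^ (2 * 2 ^ m)) ^ 2 ^ m : Kˣ).val = _
    simp only [Units.val_pow_eq_pow_val]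
    exact (S.pow_twist (x : K)).2)

include S in
theorem P2_inj : Function.Injective (P2 (K := K) m) := fun x y h => by
  rw [← P2_theta S x, ← P2_theta S y, h]

include S in
theorem theta_inj {x y : Kˣ} (h : x ^ 2 ^ m = y ^ 2 ^ m) : x = y :=
  Units.ext (by
    have h' := congrArg (fun z : Kˣ => (z : K) ^ (2 * 2 ^ m)) h
    simpa [(S.pow_twist _).1] using h')

include S in
theorem sq_inj {x y : Kˣ} (h : x ^ 2 = y ^ 2) : x = y :=
  P2_inj S (P2_inj S (by rw [P2_P2 S, P2_P2 S, h]))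

theorem sq_surj (S : Setup K m) (x : Kˣ) : ∃ y : Kˣ, y ^ 2 = x :=
  Finite.surjective_of_injective (fun _ _ h => sq_inj S h) x

/-- The words of the two reflections. -/
theorem Os_words : orbWord chevF4 Os [0] = [(0 : Fin chevF4.rank), 3] ∧
    orbWord chevF4 Os [1] = [(1 : Fin chevF4.rank), 2, 1, 2] := by
  decide +kernel

theorem simple_w : wList chevF4 (chevF4.simple 0) = [2, -1, 0, 0] ∧ wList chevF4 (chevF4.simple 1) = [-1, 2, -1, 0] ∧
    wList chevF4 (chevF4.simple 2) = [0, -2, 2, -1] ∧ wList chevF4 (chevF4.simple 3) = [0, 0, -1, 2] ∧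
    (∀ i < 4, chevF4.simple i < 48) := by
  decide +kernel

omit [Fintype K] [CharP K 2] in
theorem reflT_eq (i : Fin chevF4.rank) (c : Fin chevF4.rank → Kˣ) :
    ChevInvol.reflT (D := chevF4) i c = c * Pi.mulSingle i (torChar chevF4 c (chevF4.simple i.val))⁻¹ := rfl

omit [Fintype K] [CharP K 2] in
theorem torChar_vec (a b c d : Kˣ) {r : ℕ} (hr : r < 48) {v : List ℤ} (hv : wList chevF4 r = v) :
    torChar chevF4 (vec a b c d) r = (List.zipWith (fun u e => u ^ e) [a, b, c, d] v).prod :=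
  torChar_eval _ hr hv

omit [Fintype K] [CharP K 2] in
theorem vec_mul_single (v w : Fin chevF4.rank → Kˣ) (i : Fin chevF4.rank) (x : Kˣ)
    (h1 : v i * x = w i) (h2 : ∀ j, j ≠ i → v j = w j) : v * Pi.mulSingle i x = w := by
  funext j
  by_cases h : j = i
  · subst h; rw [Pi.mul_apply, Pi.mulSingle_eq_same, h1]
  · rw [Pi.mul_apply, Pi.mulSingle_eq_of_ne h, mul_one, h2 j h]

omit [Fintype K] [CharP K 2] in
theorem refl_0 (a b c d : Kˣ) :
    ChevInvol.reflT (D := chevF4) (0 : Fin chevF4.rank) (vec a b c d) = vec (b * a⁻¹) b c d := by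
  obtain ⟨w0, -, -, -, hlt⟩ := simple_w
  rw [reflT_eq, show (0 : Fin chevF4.rank).val = 0 from rfl, torChar_vec _ _ _ _ (hlt 0 (by norm_num)) w0]
  refine vec_mul_single _ _ _ _ ?_ fun j hj => ?_
  · show a * _ = b * a⁻¹
    apply Additive.ofMul.injective
    simp [two_nsmul]
    abel
  · match j, hj with
    | ⟨0, _⟩, hj => exact absurd rfl hj
    | ⟨1, _⟩, hj => rfl
    | ⟨2, _⟩, hj => rfl
    | ⟨3, _⟩, hj => rfl

omit [Fintype K] [CharP K 2] in
theorem refl_3 (a b c d : Kˣ) :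
    ChevInvol.reflT (D := chevF4) (3 : Fin chevF4.rank) (vec a b c d) = vec a b c (c * d⁻¹) := by
  obtain ⟨-, -, -, w3, hlt⟩ := simple_w
  rw [reflT_eq, show (3 : Fin chevF4.rank).val = 3 from rfl, torChar_vec _ _ _ _ (hlt 3 (by norm_num)) w3]
  refine vec_mul_single _ _ _ _ ?_ fun j hj => ?_
  · show d * _ = c * d⁻¹
    apply Additive.ofMul.injective
    simp [two_nsmul]
    abel
  · match j, hj with
    | ⟨0, _⟩, hj => rfl
    | ⟨1, _⟩, hj => rfl
    | ⟨2, _⟩, hj => rfl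
    | ⟨3, _⟩, hj => exact absurd rfl hj

omit [Fintype K] [CharP K 2] in
theorem refl_1 (a b c d : Kˣ) :
    ChevInvol.reflT (D := chevF4) (1 : Fin chevF4.rank) (vec a b c d) = vec a (a * c * b⁻¹) c d := by
  obtain ⟨-, w1, -, -, hlt⟩ := simple_w
  rw [reflT_eq, show (1 : Fin chevF4.rank).val = 1 from rfl, torChar_vec _ _ _ _ (hlt 1 (by norm_num)) w1]
  refine vec_mul_single _ _ _ _ ?_ fun j hj => ?_
  · show b * _ = a * c * b⁻¹
    apply Additive.ofMul.injective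
    simp [two_nsmul]
    abel
  · match j, hj with
    | ⟨0, _⟩, hj => rfl
    | ⟨1, _⟩, hj => exact absurd rfl hj
    | ⟨2, _⟩, hj => rfl
    | ⟨3, _⟩, hj => rfl

omit [Fintype K] [CharP K 2] in
theorem refl_2 (a b c d : Kˣ) :
    ChevInvol.reflT (D := chevF4) (2 : Fin chevF4.rank) (vec a b c d) = vec a b (b ^ 2 * d * c⁻¹) d := by
  obtain ⟨-, -, w2, -, hlt⟩ := simple_w
  rw [reflT_eq, show (2 : Fin chevF4.rank).val = 2 from rfl, torChar_vec _ _ _ _ (hlt 2 (by norm_num)) w2]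
  refine vec_mul_single _ _ _ _ ?_ fun j hj => ?_
  · show c * _ = b ^ 2 * d * c⁻¹
    apply Additive.ofMul.injective
    simp [two_nsmul]
    abel
  · match j, hj with
    | ⟨0, _⟩, hj => rfl
    | ⟨1, _⟩, hj => rfl
    | ⟨2, _⟩, hj => exact absurd rfl hj
    | ⟨3, _⟩, hj => rfl

theorem conj_conj {G : Type*} [Group G] (a g x : G) : a * g * x * (a * g)⁻¹ = a * (g * x * g⁻¹) * a⁻¹ := by
  group

include S in
theorem act_A : Act m (nO (K := K) 0) fA := by
  intro p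
  rw [nO, Os_words.1, TorusSys.nw_cons, TorusSys.nw_singleton, conj_conj]
  show (factsF4.tsys K).nS 0 * ((factsF4.tsys K).nS 3 * torus chevF4 K (vec _ _ _ _) * _) * _ = _
  rw [ChevInvol.nS_torus, refl_3, ChevInvol.nS_torus, refl_0]
  show torus chevF4 K _ = torus chevF4 K _
  congr 1
  simp [fA, mul_pow, inv_pow]

include S in
theorem act_B : Act m (nO (K := K) 1) (fB m) := by
  intro p
  rw [nO, Os_words.2, TorusSys.nw_cons, TorusSys.nw_cons, TorusSys.nw_cons, TorusSys.nw_singleton,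
    conj_conj, conj_conj, conj_conj]
  show (factsF4.tsys K).nS 1 * ((factsF4.tsys K).nS 2 * ((factsF4.tsys K).nS 1 *
    ((factsF4.tsys K).nS 2 * torus chevF4 K (vec _ _ _ _) * _) * _) * _) * _ = _
  rw [ChevInvol.nS_torus, refl_2, ChevInvol.nS_torus, refl_1, ChevInvol.nS_torus, refl_2, ChevInvol.nS_torus,
    refl_1]
  show torus chevF4 K _ = torus chevF4 K _
  congr 1
  obtain ⟨t, u⟩ := p
  have hP : P2 m t = (t ^ 2 ^ m) ^ 2 := by rw [← pow_mul, mul_comm]; rfl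
  have hPθ : ((t ^ 2 ^ m) ^ 2) ^ 2 ^ m = t := by rw [← hP]; exact P2_theta S t
  funext j
  match j with
  | ⟨0, _⟩ => rfl
  | ⟨1, _⟩ =>
    show _ = (P2 m t * t ^ 2 * u⁻¹) ^ 2 ^ m
    rw [vec_one, hP]
    conv_rhs => rw [mul_pow, mul_pow, hPθ, inv_pow, ← pow_mul t 2, mul_comm 2 (2 ^ m), pow_mul]
    apply Additive.ofMul.injective
    simp
    abel
  | ⟨2, _⟩ =>
    show _ = P2 m t * t ^ 2 * u⁻¹
    rw [vec_two, hP]
    apply Additive.ofMul.injective
    simp
    abel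
  | ⟨3, _⟩ => rfl

/-! ### The exponents -/

theorem P2_mul_self_inj (S : Setup K m) {x y : Kˣ} (h : x * P2 m x = y * P2 m y) : x = y := by
  suffices key : ∀ z : Kˣ, z * P2 m z = 1 → z = 1 by
    refine mul_inv_eq_one.1 (key (x * y⁻¹) ?_)
    rw [map_mul, map_inv, mul_mul_mul_comm, ← _root_.mul_inv, h, mul_inv_cancel]
  intro z hz
  have hz' : P2 m z = z⁻¹ := eq_inv_of_mul_eq_one_right hz
  have h2 := P2_P2 S z
  rw [hz', map_inv, hz', inv_inv, pow_two] at h2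
  exact mul_left_cancel (a := z) (by rw [← h2, mul_one])

theorem nat_exps (S : Setup K m) {x : Kˣ} :
    (x ^ 2 ^ m = 1 → x = 1) ∧ (P2 m x = x → x = 1) ∧
      ((x ^ 2 ^ m) ^ 3 = x ^ 2 → x = 1) := by
  have hθ : ∀ {x : Kˣ}, x ^ 2 ^ m = 1 → x = 1 := fun h => theta_inj S (by rw [h, one_pow])
  refine ⟨hθ, fun h => ?_, fun h => ?_⟩
  · have h2 := P2_P2 S x
    rw [h, h, pow_two] at h2
    exact mul_eq_left.1 h2.symm
  · refine hθ ?_
    have hP : P2 m x = (x ^ 2 ^ m) ^ 2 := by rw [← pow_mul, mul_comm]; rfl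
    have h1 : (x ^ 2 ^ m) ^ 4 = x ^ 3 := by
      have e := congrArg (P2 m) h
      rw [map_pow, map_pow, map_pow, hP, ← pow_mul (x ^ 2 ^ m) 2 2] at e
      have e2 : ((x ^ 2 ^ m) ^ 2) ^ 2 ^ m = x := by rw [← hP]; exact P2_theta S x
      rw [e2] at e
      exact e.symm
    generalize x ^ 2 ^ m = y at *
    have h2 : (y ^ 4) ^ 2 = (y ^ 3) ^ 3 := by rw [h1, h]; group
    have h3 : y ^ 8 * y = y ^ 8 * 1 := by
      rw [← pow_succ, mul_one]
      rw [← pow_mul, ← pow_mul] at h2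
      exact h2.symm
    exact mul_left_cancel h3

end Cfsg.Agent.Small.FFourTwistThompson
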